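import Cfsg.Prelude.Def_CaseTheorems
import Cfsg.Agent.H65.SylowLift
import Cfsg.Agent.H39.Dihedral
import Cfsg.Agent.Cores.GlaubermanZStar
import Cfsg.Agent.Coprime.Generation

/-!
# Sylow 2-intersections of 2-rank at most one

Two commuting involutions lie in at most one common Sylow 2-subgroup. Hence fusion of involutions in a
Sylow 2-subgroup is controlled by its normalizer.
-/

set_option autoImplicit false
set_option linter.style.haveILetI false
set_option linter.unusedSectionVars false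

namespace Cfsg.Agent.H30.RankInt

open Subgroup
open scoped Pointwise

local instance factTwo : Fact (Nat.Prime 2) := ⟨Nat.prime_two⟩

variable {G : Type*} [Group G] [Finite G]

/-- Distinct Sylow 2-subgroups meet in a group of 2-rank at most one. -/
def RankInt (G : Type*) [Group G] : Prop :=
  ∀ S T : Sylow 2 G, S ≠ T → Cfsg.PRankLE 2 1 ↥((S : Subgroup G) ⊓ (T : Subgroup G))

omit [Finite G] in
theorem mem_smul_iff {S : Sylow 2 G} {g x : G} :
    x ∈ ((g • S : Sylow 2 G) : Subgroup G) ↔ g⁻¹ * x * g ∈ (S : Subgroup G) := by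
  rw [Sylow.coe_subgroup_smul, Subgroup.mem_pointwise_smul_iff_inv_smul_mem]
  simp [MulAut.smul_def, MulAut.conj_apply]

omit [Finite G] in
theorem isElem_pair {a b : G} (ha : a * a = 1) (hb : b * b = 1) (hab : Commute a b) :
    ∀ x ∈ closure ({a, b} : Set G), x ∈ ({1, a, b, a * b} : Set G) := by
  intro x hx
  induction hx using closure_induction with
  | mem x hx => rcases hx with rfl | rfl <;> simp
  | one => simp
  | mul x y _ _ hx hy =>
    have h1 : a * (a * b) = b := by rw [← mul_assoc, ha, one_mul]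
    have h2 : b * a = a * b := hab.eq.symm
    have h3 : b * (a * b) = a := by rw [← mul_assoc, h2, mul_assoc, hb, mul_one]
    have h4 : a * b * a = b := by rw [mul_assoc, h2, h1]
    have h5 : a * b * b = a := by rw [mul_assoc, hb, mul_one]
    have h6 : a * b * (a * b) = 1 := by rw [mul_assoc, h3, ha]
    rcases hx with rfl | rfl | rfl | rfl <;> rcases hy with rfl | rfl | rfl | rfl <;>
      simp [ha, hb, h1, h2, h3, h4, h5, h6]
  | inv x _ hx =>
    rcases hx with rfl | rfl | rfl | rfl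
    · simp
    · simp [inv_eq_of_mul_eq_one_right ha]
    · simp [inv_eq_of_mul_eq_one_right hb]
    · refine Or.inr (Or.inr (Or.inr ?_))
      rw [mul_inv_rev, inv_eq_of_mul_eq_one_right ha, inv_eq_of_mul_eq_one_right hb]
      exact hab.eq.symm

/-- Two commuting involutions are impossible in a group of 2-rank one. -/
theorem eq_of_rank_one {U : Subgroup G} (h : Cfsg.PRankLE 2 1 ↥U) {a b : G} (ha : a ∈ U) (hb : b ∈ U)
    (ha2 : orderOf a = 2) (hb2 : orderOf b = 2) (hab : Commute a b) : a = b := by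
  classical
  by_contra hne
  have hcomm : ∀ x ∈ closure ({(⟨a, ha⟩ : ↥U), ⟨b, hb⟩} : Set ↥U),
      x ∈ ({1, ⟨a, ha⟩, ⟨b, hb⟩, ⟨a, ha⟩ * ⟨b, hb⟩} : Set ↥U) :=
    isElem_pair (Subtype.ext (H39.mul_self_of_orderOf_eq_two ha2))
      (Subtype.ext (H39.mul_self_of_orderOf_eq_two hb2)) (Subtype.ext hab.eq)
  set A := closure ({(⟨a, ha⟩ : ↥U), ⟨b, hb⟩} : Set ↥U) with hA
  haveI : IsMulCommutative A := isMulCommutative_closure (by
    rintro x (rfl | rfl) y (rfl | rfl)
    · rfl
    · exact Subtype.ext hab.eq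
    · exact Subtype.ext hab.eq.symm
    · rfl)
  have hsq : ∀ x ∈ A, x ^ 2 = 1 := fun x hx => by
    have ha' := H39.mul_self_of_orderOf_eq_two ha2
    have hb' := H39.mul_self_of_orderOf_eq_two hb2
    refine Subtype.ext ?_
    rcases hcomm x hx with rfl | rfl | rfl | rfl <;> push_cast [pow_two]
    · simp
    · exact ha'
    · exact hb'
    · rw [mul_assoc, ← mul_assoc b a b, ← hab.eq, mul_assoc a b b, hb', mul_one, ha']
  have hle := h A inferInstance hsq
  let f : Fin 3 → A := ![1, ⟨⟨a, ha⟩, subset_closure (by simp)⟩, ⟨⟨b, hb⟩, subset_closure (by simp)⟩]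
  have hf : Function.Injective f := by
    have hv : Function.Injective fun i : Fin 3 => ((f i : ↥U) : G) := by
      intro i j
      have h1 : a ≠ 1 := H39.ne_one_of_orderOf_eq_two ha2
      have h2 : b ≠ 1 := H39.ne_one_of_orderOf_eq_two hb2
      fin_cases i <;> fin_cases j <;> simp [f, h1, h2, h1.symm, h2.symm, hne, Ne.symm hne]
    exact fun i j e => hv (congrArg (fun x : A => ((x : ↥U) : G)) e)
  have := Nat.card_le_card_of_injective f hf
  rw [Nat.card_fin] at this
  omega

/-- Two commuting involutions lie in at most one common Sylow 2-subgroup. -/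
theorem eq_of_four (h : RankInt G) {S T : Sylow 2 G} {a b : G} (ha2 : orderOf a = 2) (hb2 : orderOf b = 2)
    (hab : Commute a b) (hne : a ≠ b) (haS : a ∈ (S : Subgroup G)) (hbS : b ∈ (S : Subgroup G))
    (haT : a ∈ (T : Subgroup G)) (hbT : b ∈ (T : Subgroup G)) : S = T := by
  by_contra hST
  exact hne (eq_of_rank_one (h S T hST) ⟨haS, haT⟩ ⟨hbS, hbT⟩ ha2 hb2 hab)

omit [Finite G] in
/-- Conjugation out of a pair of commuting involutions of `S` stays in the normalizer. -/
theorem mem_normalizer_of_smul {S : Sylow 2 G} {g : G} (h : g • S = S) :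
    g ∈ normalizer ((S : Subgroup G) : Set G) :=
  Sylow.smul_eq_iff_mem_normalizer.mp h

/-- An element mapping two commuting involutions of `S` into `S` normalizes `S`. -/
theorem mem_normalizer_of_conj (h : RankInt G) (S : Sylow 2 G) {a b g : G} (ha2 : orderOf a = 2)
    (hb2 : orderOf b = 2) (hab : Commute a b) (hne : a ≠ b) (haS : a ∈ (S : Subgroup G))
    (hbS : b ∈ (S : Subgroup G)) (hga : g * a * g⁻¹ ∈ (S : Subgroup G)) (hgb : g * b * g⁻¹ ∈ (S : Subgroup G)) :
    g ∈ normalizer ((S : Subgroup G) : Set G) := by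
  refine mem_normalizer_of_smul (eq_of_four h (a := g * a * g⁻¹) (b := g * b * g⁻¹) ?_ ?_ ?_ ?_ ?_ ?_ hga hgb)
  · rw [H39.orderOf_conj, ha2]
  · rw [H39.orderOf_conj, hb2]
  · have e := hab.map (MulAut.conj g).toMonoidHom
    simpa using e
  · exact fun e => hne (by simpa using e)
  · exact mem_smul_iff.mpr (by simpa [mul_assoc] using haS)
  · exact mem_smul_iff.mpr (by simpa [mul_assoc] using hbS)

/-- The centralizer of two commuting involutions of `S` normalizes `S`. -/
theorem mem_normalizer_of_commute (h : RankInt G) (S : Sylow 2 G) {a b g : G} (ha2 : orderOf a = 2)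
    (hb2 : orderOf b = 2) (hab : Commute a b) (hne : a ≠ b) (haS : a ∈ (S : Subgroup G))
    (hbS : b ∈ (S : Subgroup G)) (hga : Commute g a) (hgb : Commute g b) :
    g ∈ normalizer ((S : Subgroup G) : Set G) :=
  mem_normalizer_of_conj h S ha2 hb2 hab hne haS hbS (by rwa [hga.eq, mul_inv_cancel_right])
    (by rwa [hgb.eq, mul_inv_cancel_right])

/-- A 2-subgroup containing two commuting involutions of `S` lies in `S`. -/
theorem le_sylow_of_four (h : RankInt G) (S : Sylow 2 G) {P : Subgroup G} (hP : IsPGroup 2 P) {a b : G}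
    (ha2 : orderOf a = 2) (hb2 : orderOf b = 2) (hab : Commute a b) (hne : a ≠ b) (haP : a ∈ P) (hbP : b ∈ P)
    (haS : a ∈ (S : Subgroup G)) (hbS : b ∈ (S : Subgroup G)) : P ≤ (S : Subgroup G) := by
  obtain ⟨T, hT⟩ := hP.exists_le_sylow
  rwa [eq_of_four h ha2 hb2 hab hne haS hbS (hT haP) (hT hbP)]

/-- A nontrivial 2-group has a central involution. -/
theorem exists_central_involution {S : Subgroup G} (hS : IsPGroup 2 S) (hS1 : S ≠ ⊥) :
    ∃ u ∈ S, orderOf u = 2 ∧ ∀ s ∈ S, Commute s u := by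
  haveI : Nontrivial ↥S := (nontrivial_iff_ne_bot _).mpr hS1
  haveI := hS.center_nontrivial
  obtain ⟨n, hn, hc⟩ := (hS.to_subgroup (center ↥S)).nontrivial_iff_card.mp inferInstance
  obtain ⟨u, hu⟩ := exists_prime_orderOf_dvd_card' (G := center ↥S) 2 (hc ▸ dvd_pow_self 2 hn.ne')
  refine ⟨((u : ↥S) : G), (u : ↥S).2, ?_, fun s hs => congrArg Subtype.val (mem_center_iff.mp u.2 ⟨s, hs⟩)⟩
  rw [Subgroup.orderOf_coe, Subgroup.orderOf_coe, hu]

omit [Finite G] in
theorem ne_bot_of_orderOf_two {S : Subgroup G} {x : G} (hx2 : orderOf x = 2) (hxS : x ∈ S) : S ≠ ⊥ :=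
  fun e => H39.ne_one_of_orderOf_eq_two hx2 (mem_bot.mp (e ▸ hxS))

/-- A 2-subgroup centralizing an involution of `S` and containing the elements of `S` centralizing it
lies in `S`. -/
theorem le_sylow_of_centralizer (h : RankInt G) (S : Sylow 2 G) {P : Subgroup G} (hP : IsPGroup 2 P)
    {x : G} (hx2 : orderOf x = 2) (hxS : x ∈ (S : Subgroup G))
    (hPx : P ≤ centralizer ({x} : Set G))
    (hle : (S : Subgroup G) ⊓ centralizer ({x} : Set G) ≤ P) : P ≤ (S : Subgroup G) := by
  obtain ⟨u, huS, hu2, huc⟩ := exists_central_involution S.isPGroup' (ne_bot_of_orderOf_two hx2 hxS)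
  by_cases hux : u = x
  · subst hux
    have hSP : (S : Subgroup G) ≤ P :=
      (le_inf le_rfl fun s hs => mem_centralizer_singleton_iff.mpr (huc s hs).eq).trans hle
    exact (S.3 hP hSP).le
  · have hxP : x ∈ P := hle ⟨hxS, mem_centralizer_singleton_iff.mpr rfl⟩
    have huP : u ∈ P := hle ⟨huS, mem_centralizer_singleton_iff.mpr (huc x hxS).eq.symm⟩
    exact le_sylow_of_four h S hP hx2 hu2 (huc x hxS) (Ne.symm hux) hxP huP hxS huS

/-- `C_S(x)` is a Sylow 2-subgroup of `C(x)` for every involution `x` of `S`. -/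
theorem exists_sylow_centralizer (h : RankInt G) (S : Sylow 2 G) {x : G} (hx2 : orderOf x = 2)
    (hxS : x ∈ (S : Subgroup G)) :
    ∃ P : Sylow 2 ↥(centralizer ({x} : Set G)),
      (P : Subgroup ↥(centralizer ({x} : Set G))).map (centralizer ({x} : Set G)).subtype =
        (S : Subgroup G) ⊓ centralizer ({x} : Set G) := by
  set C := centralizer ({x} : Set G)
  obtain ⟨P, hP⟩ := (S.isPGroup'.comap_of_injective C.subtype C.subtype_injective).exists_le_sylow
  refine ⟨P, le_antisymm ?_ ?_⟩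
  · refine le_inf (le_sylow_of_centralizer h S (P.isPGroup'.map _) hx2 hxS (map_subtype_le _) ?_)
      (map_subtype_le _)
    exact fun s hs => ⟨⟨s, hs.2⟩, hP hs.1, rfl⟩
  · exact fun s hs => ⟨⟨s, hs.2⟩, hP hs.1, rfl⟩

/-- The normalizer of a Sylow 2-subgroup controls the fusion of its involutions. -/
theorem exists_normalizer_conj (h : RankInt G) (S : Sylow 2 G) {x g : G} (hx2 : orderOf x = 2)
    (hxS : x ∈ (S : Subgroup G)) (hgS : g * x * g⁻¹ ∈ (S : Subgroup G)) :
    ∃ n ∈ normalizer ((S : Subgroup G) : Set G), n * x * n⁻¹ = g * x * g⁻¹ := by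
  classical
  set y := g * x * g⁻¹ with hy
  have hy2 : orderOf y = 2 := by rw [hy, H39.orderOf_conj, hx2]
  have hyT : y ∈ ((g • S : Sylow 2 G) : Subgroup G) := mem_smul_iff.mpr (by
    rw [hy]; simpa [mul_assoc] using hxS)
  obtain ⟨P, hP⟩ := exists_sylow_centralizer h S hy2 hgS
  obtain ⟨Q, hQ⟩ := exists_sylow_centralizer h (g • S) hy2 hyT
  obtain ⟨c, hc⟩ := MulAction.exists_smul_eq (↥(centralizer ({y} : Set G))) Q P
  have hcy : Commute (c : G) y := mem_centralizer_singleton_iff.mp c.2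
  have hmove : ∀ t ∈ ((g • S : Sylow 2 G) : Subgroup G), Commute t y →
      (c : G) * t * (c : G)⁻¹ ∈ (S : Subgroup G) := by
    intro t ht hty
    obtain ⟨q, hq, rfl⟩ : t ∈ (Q : Subgroup ↥(centralizer ({y} : Set G))).map
        (centralizer ({y} : Set G)).subtype := hQ ▸ ⟨ht, mem_centralizer_singleton_iff.mpr hty.eq⟩
    have : c * q * c⁻¹ ∈ (P : Subgroup ↥(centralizer ({y} : Set G))) := by
      rw [← hc]
      exact ⟨q, hq, rfl⟩
    exact (hP.le ⟨_, this, rfl⟩).1
  obtain ⟨u, huS, hu2, huc⟩ := exists_central_involution S.isPGroup' (ne_bot_of_orderOf_two hx2 hxS)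
  by_cases hux : u = x
  · subst hux
    refine ⟨(c : G) * g, mem_normalizer_of_smul ?_, ?_⟩
    · refine Sylow.ext ((((c : G) * g) • S : Sylow 2 G).3 S.isPGroup' ?_).symm
      intro t ht
      obtain ⟨t₀, ht₀, rfl⟩ : ∃ t₀ ∈ (S : Subgroup G), (c : G) * g * t₀ * ((c : G) * g)⁻¹ = t :=
        ⟨_, mem_smul_iff.mp ht, by group⟩
      rw [show (c : G) * g * t₀ * ((c : G) * g)⁻¹ = (c : G) * (g * t₀ * g⁻¹) * (c : G)⁻¹ by group]
      refine hmove _ (mem_smul_iff.mpr (by simpa [mul_assoc] using ht₀)) ?_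
      have e := ((huc t₀ ht₀).map (MulAut.conj g).toMonoidHom)
      simpa [hy] using e
    · calc (c : G) * g * u * ((c : G) * g)⁻¹ = (c : G) * (g * u * g⁻¹) * (c : G)⁻¹ := by group
        _ = y := by rw [← hy, hcy.eq, mul_inv_cancel_right]
  · refine ⟨(c : G) * g, mem_normalizer_of_conj h S hx2 hu2 (huc x hxS) (Ne.symm hux) hxS huS ?_ ?_, ?_⟩
    · rw [show (c : G) * g * x * ((c : G) * g)⁻¹ = (c : G) * (g * x * g⁻¹) * (c : G)⁻¹ by group, ← hy,
        hcy.eq, mul_inv_cancel_right]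
      exact hgS
    · rw [show (c : G) * g * u * ((c : G) * g)⁻¹ = (c : G) * (g * u * g⁻¹) * (c : G)⁻¹ by group]
      refine hmove _ (mem_smul_iff.mpr (by simpa [mul_assoc] using huS)) ?_
      have e := ((huc x hxS).symm.map (MulAut.conj g).toMonoidHom)
      simpa [hy] using e
    · calc (c : G) * g * x * ((c : G) * g)⁻¹ = (c : G) * (g * x * g⁻¹) * (c : G)⁻¹ := by group
        _ = y := by rw [← hy, hcy.eq, mul_inv_cancel_right]

/-- The hypothesis passes to subgroups. -/
theorem rankInt_subgroup (h : RankInt G) (H : Subgroup G) : RankInt ↥H := by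
  intro P Q hne A hA hA2
  classical
  obtain ⟨S, hS⟩ := (P.isPGroup'.map H.subtype).exists_le_sylow
  obtain ⟨T, hT⟩ := (Q.isPGroup'.map H.subtype).exists_le_sylow
  have hST : S ≠ T := by
    rintro rfl
    refine hne (Sylow.ext ?_)
    have hle : (P : Subgroup ↥H) ≤ (S : Subgroup G).comap H.subtype := map_le_iff_le_comap.mp hS
    have hle' : (Q : Subgroup ↥H) ≤ (S : Subgroup G).comap H.subtype := map_le_iff_le_comap.mp hT
    have hp := S.isPGroup'.comap_of_injective H.subtype H.subtype_injective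
    exact (P.3 hp hle).symm.trans (Q.3 hp hle')
  let φ : ↥((P : Subgroup ↥H) ⊓ (Q : Subgroup ↥H)) →* ↥((S : Subgroup G) ⊓ (T : Subgroup G)) :=
    (H.subtype.comp ((P : Subgroup ↥H) ⊓ (Q : Subgroup ↥H)).subtype).codRestrict _
      fun x => ⟨hS ⟨x.1, x.2.1, rfl⟩, hT ⟨x.1, x.2.2, rfl⟩⟩
  have hφ : Function.Injective φ := fun x y e =>
    Subtype.ext (Subtype.ext (congrArg (fun v : ↥((S : Subgroup G) ⊓ (T : Subgroup G)) => (v : G)) e))
  have h1 := h S T hST (A.map φ) inferInstance (by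
    rintro _ ⟨a, ha, rfl⟩
    rw [← map_pow, hA2 a ha, map_one])
  rwa [card_map_of_injective hφ] at h1

/-- The hypothesis passes to quotients by normal subgroups of odd order. -/
theorem rankInt_quotient (h : RankInt G) (N : Subgroup G) [N.Normal] (hN : Odd (Nat.card N)) :
    RankInt (G ⧸ N) := by
  intro S T hne A hA hA2
  classical
  obtain ⟨S', T', U, hne', hle, hmap⟩ := H65.exists_inter_lift S T hne
  let f : ↥U →* ↥((S : Subgroup (G ⧸ N)) ⊓ (T : Subgroup (G ⧸ N))) :=
    ((QuotientGroup.mk' N).comp U.subtype).codRestrict _ fun u => hmap ▸ ⟨u.1, u.2, rfl⟩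
  have hf : Function.Injective f := by
    rw [← MonoidHom.ker_eq_bot_iff, eq_bot_iff_forall]
    intro u hu
    have h1 : (u : G) ∈ N := (QuotientGroup.eq_one_iff _).mp (congrArg Subtype.val hu)
    refine Subtype.ext ?_
    obtain ⟨k, hk⟩ := S'.isPGroup' ⟨u, (hle u.2).1⟩
    have hk' : (u : G) ^ 2 ^ k = 1 := congrArg Subtype.val hk
    have hd : orderOf (u : G) ∣ Nat.card N := orderOf_dvd_natCard N h1
    have h2 : (orderOf (u : G)).Coprime (2 ^ k) :=
      Nat.Coprime.pow_right _ (Nat.coprime_two_right.mpr (hN.of_dvd_nat hd))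
    exact orderOf_eq_one_iff.mp (Nat.Coprime.eq_one_of_dvd h2 (orderOf_dvd_of_pow_eq_one hk'))
  have hf' : Function.Surjective f := by
    rintro ⟨r, hr⟩
    obtain ⟨u, hu, rfl⟩ : r ∈ U.map (QuotientGroup.mk' N) := hmap ▸ hr
    exact ⟨⟨u, hu⟩, rfl⟩
  let e := (MulEquiv.ofBijective f ⟨hf, hf'⟩).symm.toMonoidHom
  let φ : ↥((S : Subgroup (G ⧸ N)) ⊓ (T : Subgroup (G ⧸ N))) →* ↥((S' : Subgroup G) ⊓ (T' : Subgroup G)) :=
    (inclusion hle).comp e
  have hφ : Function.Injective φ := (inclusion_injective hle).comp (MulEquiv.injective _)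
  have h1 := h S' T' hne' (A.map φ) inferInstance (by
    rintro _ ⟨a, ha, rfl⟩
    rw [← map_pow, hA2 a ha, map_one])
  rwa [card_map_of_injective hφ] at h1

/-- An involution of `S` fixed by the normalizer is central modulo the core. -/
theorem commutator_mem_core (h : RankInt G) (S : Sylow 2 G) {x : G} (hx2 : orderOf x = 2)
    (hxS : x ∈ (S : Subgroup G)) (hfix : ∀ n ∈ normalizer ((S : Subgroup G) : Set G), n * x * n⁻¹ = x) :
    ∀ g : G, x * g * x⁻¹ * g⁻¹ ∈ Cfsg.oddCore G :=
  Cores.glaubermanZStar S hx2 hxS fun g hg => by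
    obtain ⟨n, hn, e⟩ := exists_normalizer_conj h S hx2 hxS hg
    rw [← e, hfix n hn]

omit [Finite G] in
theorem eq_of_fin_pair {a b u : G} (hu : u ∈ closure ({a, b} : Set G)) (ha : a * a = 1) (hb : b * b = 1)
    (hab : Commute a b) (h1 : u ≠ 1) (hx : u ≠ a) : u = b ∨ u = a * b := by
  rcases isElem_pair ha hb hab u hu with rfl | rfl | rfl | rfl
  · exact absurd rfl h1
  · exact absurd rfl hx
  · exact Or.inl rfl
  · exact Or.inr rfl

/-- An odd subgroup normalized by an elementary abelian subgroup of order at least eight of `S` and by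
`S` is centralized by `S`. -/
theorem le_centralizer_of_rank_three (h : RankInt G) (S : Sylow 2 G) (B : Subgroup G)
    (hBS : B ≤ (S : Subgroup G)) [IsMulCommutative B] (hB2 : ∀ b ∈ B, b * b = 1) (hB8 : 8 ≤ Nat.card B)
    (O : Subgroup G) (hO : Odd (Nat.card O)) (hSO : (S : Subgroup G) ≤ normalizer (O : Set G)) :
    O ≤ centralizer ((S : Subgroup G) : Set G) := by
  classical
  have hcop : (Nat.card B).Coprime (Nat.card O) := by
    obtain ⟨n, hn⟩ := IsPGroup.iff_card.mp (S.isPGroup'.to_le hBS)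
    rw [hn]
    exact Nat.Coprime.pow_left _ (Nat.coprime_two_left.mpr hO)
  refine Coprime.le_of_centralizer_cyclic_quotient_le (hBS.trans hSO) hcop ?_
  rintro C hC ⟨a, ha, haC⟩ o ⟨hoO, hoC⟩
  -- `C` contains two involutions
  have hCcard : 4 ≤ Nat.card C := by
    have hcomm : C ≤ normalizer (zpowers a : Set G) := fun c hc => centralizer_le_normalizer _
      (mem_centralizer_iff.mpr fun t ht => by
        obtain ⟨i, rfl⟩ := mem_zpowers_iff.mp ht
        exact (Commute.zpow_left (show Commute a c from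
          congrArg Subtype.val (mul_comm' (⟨a, ha⟩ : ↥B) ⟨c, hC hc⟩)) i).eq)
    have hza : Nat.card (zpowers a) ≤ 2 := by
      rw [Nat.card_zpowers]
      exact orderOf_le_of_pow_eq_one two_pos (by rw [pow_two]; exact hB2 a ha)
    have hle : Nat.card B ≤ Nat.card C * Nat.card (zpowers a) := by
      rw [← haC]
      refine (Nat.card_le_card_of_surjective (α := ↥C × ↥(zpowers a))
        (fun p => ⟨(p.1 : G) * p.2, mul_mem (mem_sup_left p.1.2) (mem_sup_right p.2.2)⟩) ?_).trans
        (Nat.card_prod _ _).le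
      rintro ⟨v, hv⟩
      rw [← SetLike.mem_coe, coe_mul_of_left_le_normalizer_right _ _ hcomm] at hv
      obtain ⟨c, hc, d, hd, rfl⟩ := hv
      exact ⟨(⟨c, hc⟩, ⟨d, hd⟩), rfl⟩
    nlinarith [Nat.card_pos (α := ↥C)]
  obtain ⟨x, hx, hx1⟩ : ∃ x ∈ C, x ≠ 1 := by
    by_contra hall
    push Not at hall
    rw [(eq_bot_iff_forall C).mpr hall, card_bot] at hCcard
    omega
  obtain ⟨y, hy, hy1, hyx⟩ : ∃ y ∈ C, y ≠ 1 ∧ y ≠ x := by
    by_contra hall
    push Not at hall
    have : Nat.card C ≤ 2 := by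
      refine (Nat.card_le_card_of_surjective (fun i : Fin 2 => if i = 0 then (⟨1, one_mem C⟩ : ↥C) else ⟨x, hx⟩) ?_).trans
        (Nat.card_fin 2).le
      rintro ⟨v, hv⟩
      by_cases hv1 : v = 1
      · exact ⟨0, by simp [hv1]⟩
      · exact ⟨1, by simp [hall v hv hv1]⟩
    omega
  have hx2 : orderOf x = 2 := H39.orderOf_eq_two_of_mul_self (hB2 x (hC hx)) hx1
  have hy2 : orderOf y = 2 := H39.orderOf_eq_two_of_mul_self (hB2 y (hC hy)) hy1
  have hn := mem_normalizer_of_commute h S hx2 hy2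
    (show Commute x y from congrArg Subtype.val (mul_comm' (⟨x, hC hx⟩ : ↥B) ⟨y, hC hy⟩))
    hyx.symm (hBS (hC hx)) (hBS (hC hy))
    (show Commute o x from (mem_centralizer_iff.mp hoC x hx).symm)
    (show Commute o y from (mem_centralizer_iff.mp hoC y hy).symm)
  refine mem_centralizer_iff.mpr fun s hs => ?_
  have h1 : s * o * s⁻¹ * o⁻¹ ∈ O := mul_mem ((mem_normalizer_iff.mp (hSO hs) o).mp hoO) (inv_mem hoO)
  have h2 : s * o * s⁻¹ * o⁻¹ ∈ (S : Subgroup G) := by
    rw [show s * o * s⁻¹ * o⁻¹ = s * (o * s⁻¹ * o⁻¹) by group]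
    exact mul_mem hs ((mem_normalizer_iff.mp hn _).mp (inv_mem hs))
  have h3 : s * o * s⁻¹ * o⁻¹ = 1 := by
    obtain ⟨k, hk⟩ := S.isPGroup' ⟨_, h2⟩
    have hd : orderOf (s * o * s⁻¹ * o⁻¹) ∣ Nat.card O := orderOf_dvd_natCard O h1
    exact orderOf_eq_one_iff.mp (Nat.Coprime.eq_one_of_dvd
      (Nat.Coprime.pow_right k (Nat.coprime_two_right.mpr (hO.of_dvd_nat hd)))
      (orderOf_dvd_of_pow_eq_one (congrArg Subtype.val hk)))
  rwa [mul_inv_eq_one, mul_inv_eq_iff_eq_mul] at h3

end Cfsg.Agent.H30.RankInt
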