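import Cfsg.Agent.H30.RankInt.Basic
import Cfsg.Agent.H91.CI.Bender

/-!
# Facts about simple groups with a strongly embedded subgroup
-/

set_option autoImplicit false
set_option linter.style.haveILetI false
set_option linter.unusedSectionVars false

namespace Cfsg.Agent.H30.RankInt

open Subgroup
open Cfsg.Agent.H39
open Cfsg.Agent.H76.PostBender
open scoped Pointwise

universe u

local instance factTwoB : Fact (Nat.Prime 2) := ⟨Nat.prime_two⟩

variable {X : Type u} [Group X] [Finite X]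

/-- The three families, in the form of the goal. -/
def BenderList (X : Type u) [Group X] : Prop :=
  (∃ (n : ℕ) (F : Type) (_ : Field F) (_ : Fintype F), 2 ≤ n ∧ Fintype.card F = 2 ^ n ∧
      Nonempty (X ≃* Matrix.ProjectiveSpecialLinearGroup (Fin 2) F)) ∨
  (∃ (m : ℕ) (F : Type) (_ : Field F) (_ : Fintype F), 1 ≤ m ∧ Fintype.card F = 2 ^ (2 * m + 1) ∧
      Nonempty (X ≃* ↥(Cfsg.Lie.Sz F (2 ^ (m + 1))))) ∨
  (∃ (n : ℕ) (F : Type) (_ : Field F) (_ : Fintype F), 2 ≤ n ∧ Fintype.card F = 4 ^ n ∧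
      Nonempty (X ≃* Cfsg.PSU 3 F (2 ^ n)))

/-- What is used about a simple group with a strongly embedded subgroup. -/
structure TiSimple (X : Type u) [Group X] : Prop where
  ti : ∀ S T : Sylow 2 X, S ≠ T → (S : Subgroup X) ⊓ (T : Subgroup X) = ⊥
  conj : ∀ S : Sylow 2 X, ∀ a ∈ (S : Subgroup X), ∀ b ∈ (S : Subgroup X), orderOf a = 2 → orderOf b = 2 →
    ∃ n ∈ normalizer ((S : Subgroup X) : Set X), n * a * n⁻¹ = b
  central : ∀ S : Sylow 2 X, ∀ a ∈ (S : Subgroup X), a * a = 1 → ∀ s ∈ (S : Subgroup X), Commute s a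
  two : ∀ S : Sylow 2 X, ∃ a ∈ (S : Subgroup X), ∃ b ∈ (S : Subgroup X), orderOf a = 2 ∧ orderOf b = 2 ∧ a ≠ b
  moved : ∀ S : Sylow 2 X, ∃ T : Sylow 2 X, T ≠ S
  trans : SylTrans 2 X
  list : BenderList X

theorem benderList_of_bender (hB : IsBenderGroup X) : BenderList X := by
  rcases hB with ⟨F, i1, i2, hc, h4, he⟩ | h | ⟨F, i1, i2, q, hF, hev, h4, he⟩
  · obtain ⟨k, -, hk⟩ := FiniteField.card F 2
    refine Or.inl ⟨k, F, i1, i2, ?_, hk, he⟩
    by_contra hlt
    have : (2 : ℕ) ^ (k : ℕ) ≤ 2 ^ 1 := Nat.pow_le_pow_right two_pos (by omega)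
    rw [← hk] at this
    omega
  · obtain ⟨F, i1, i2, m, hm, hF, he⟩ := h
    exact Or.inr (Or.inl ⟨m, F, i1, i2, hm, hF, he⟩)
  · obtain ⟨p, _, k, hp, hk⟩ := FiniteField.card' F
    have hq : q ∣ p ^ (k : ℕ) := ⟨q, by rw [← hk, hF, pow_two]⟩
    obtain ⟨n, -, rfl⟩ := (Nat.dvd_prime_pow hp).mp hq
    obtain rfl : p = 2 := ((Nat.prime_dvd_prime_iff_eq Nat.prime_two hp).mp
      (Nat.prime_two.dvd_of_dvd_pow (even_iff_two_dvd.mp hev))).symm
    refine Or.inr (Or.inr ⟨n, F, i1, i2, ?_, ?_, he⟩)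
    · by_contra hlt
      have := Nat.pow_le_pow_right (show 1 ≤ 2 by norm_num) (show n ≤ 1 by omega)
      omega
    · rw [hF, ← pow_mul, show (4 : ℕ) = 2 ^ 2 from rfl, ← pow_mul, mul_comm]

/-- A simple group with a strongly embedded subgroup. -/
theorem tiSimple_of_se [IsSimpleGroup X] (hna : ¬ IsMulCommutative X) (H : Subgroup X)
    (hH : Cfsg.IsStronglyEmbedded H) : TiSimple X := by
  classical
  have hna' : ∃ a b : X, a * b ≠ b * a := by
    by_contra hc
    push Not at hc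
    exact hna ⟨⟨hc⟩⟩
  have hB := Bridge.bender X hna' H hH
  have hH' := hH
  obtain ⟨P, rfl⟩ := eq_normalizer hB hH
  have hmem : ∀ {u : X}, orderOf u = 2 → ∀ {g : X}, u ∈ ((g • P : Sylow 2 X) : Subgroup X) →
      g⁻¹ * u * g ∈ normalizer ((P : Subgroup X) : Set X) := fun {u} _ {g} hu =>
    le_normalizer (mem_smul_iff.mp hu)
  have huniq : ∀ u : X, orderOf u = 2 → ∀ S T : Sylow 2 X, u ∈ (S : Subgroup X) → u ∈ (T : Subgroup X) →
      S = T := by
    intro u hu S T huS huT
    obtain ⟨g, rfl⟩ := MulAction.exists_smul_eq X P S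
    obtain ⟨k, rfl⟩ := MulAction.exists_smul_eq X P T
    have ha : orderOf (g⁻¹ * u * g) = 2 := by
      have := orderOf_conj (g := g⁻¹) (a := u)
      rw [inv_inv] at this
      rw [this, hu]
    have hk : k⁻¹ * g ∈ normalizer ((P : Subgroup X) : Set X) := by
      refine se_mem_of_conj hH ha (hmem hu huS) ?_
      rw [show k⁻¹ * g * (g⁻¹ * u * g) * (k⁻¹ * g)⁻¹ = k⁻¹ * u * k by group]
      exact hmem hu huT
    have := Sylow.smul_eq_iff_mem_normalizer.mpr hk
    rw [mul_smul, inv_smul_eq_iff] at this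
    exact this
  have hne : ∀ S : Sylow 2 X, (S : Subgroup X) ≠ ⊥ := by
    intro S e
    have h2 : 2 ∣ Nat.card X :=
      (even_iff_two_dvd.mp hH'.2.1).trans (Subgroup.card_subgroup_dvd_card _)
    obtain ⟨x, hx⟩ := exists_prime_orderOf_dvd_card' (G := X) 2 h2
    obtain ⟨T, hT⟩ := (IsPGroup.of_card (p := 2) (n := 1)
      (by rw [Nat.card_zpowers, hx, pow_one]) : IsPGroup 2 ↥(zpowers x)).exists_le_sylow
    obtain ⟨g, rfl⟩ := MulAction.exists_smul_eq X S T
    have h1 := mem_smul_iff.mp (hT (mem_zpowers x))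
    rw [e, mem_bot] at h1
    have hx1 : x = 1 := by
      calc x = g * (g⁻¹ * x * g) * g⁻¹ := by group
        _ = 1 := by rw [h1, mul_one, mul_inv_cancel]
    exact ne_one_of_orderOf_eq_two hx hx1
  have hconj : ∀ S : Sylow 2 X, ∀ a ∈ (S : Subgroup X), ∀ b ∈ (S : Subgroup X), orderOf a = 2 → orderOf b = 2 →
      ∃ n ∈ normalizer ((S : Subgroup X) : Set X), n * a * n⁻¹ = b := by
    intro S a ha b hb ha2 hb2
    obtain ⟨g, hg⟩ := isConj_iff.mp (se_involutions_conj hH' ha2 hb2)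
    refine ⟨g, Sylow.smul_eq_iff_mem_normalizer.mp (huniq b hb2 _ _ ?_ hb), hg⟩
    exact mem_smul_iff.mpr (by rw [← hg]; simpa [mul_assoc] using ha)
  refine ⟨fun S T hST => ?_, hconj, fun S a ha ha2 s hs => ?_, fun S => ?_, fun S => ?_, sylTrans_of_bender hB,
    benderList_of_bender hB⟩
  · by_contra hb
    obtain ⟨x, hx, hx2, -⟩ := exists_central_involution (S.isPGroup'.to_le inf_le_left) hb
    exact hST (huniq x hx2 S T hx.1 hx.2)
  · by_cases ha1 : a = 1
    · rw [ha1]; exact Commute.one_right s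
    obtain ⟨c, hcS, hc2, hcc⟩ := exists_central_involution S.isPGroup' (hne S)
    obtain ⟨n, hn, rfl⟩ := hconj S c hcS a ha hc2 (orderOf_eq_two_of_mul_self ha2 ha1)
    have hs' : n⁻¹ * s * n ∈ (S : Subgroup X) := by
      have := (mem_normalizer_iff.mp (inv_mem hn) s).mp hs
      rwa [inv_inv] at this
    have e := (hcc _ hs').map (MulAut.conj n).toMonoidHom
    simpa [mul_assoc] using e
  · obtain ⟨c, hcS, hc2, -⟩ := exists_central_involution S.isPGroup' (hne S)
    by_contra hall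
    push Not at hall
    have hone : ∀ x ∈ (S : Subgroup X), orderOf x = 2 → x = c := fun x hx hx2 =>
      hall x hx c hcS hx2 hc2
    have hz := Cores.glaubermanZStar S hc2 hcS fun g hg => hone _ hg (by rw [orderOf_conj, hc2])
    have hO : Cfsg.oddCore X = ⊥ := by
      haveI hn : (Cfsg.oddCore X).Normal := by
        haveI : (Cfsg.oddCore X).Characteristic := Cores.pPrimeCore_characteristic
        infer_instance
      refine hn.eq_bot_or_eq_top.resolve_right fun e => ?_
      have h1 : Odd (Nat.card X) := by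
        rw [← card_top, ← e]
        exact Cores.odd_card_oddCore
      have h2 : 2 ∣ Nat.card X := hc2 ▸ orderOf_dvd_natCard c
      exact (Nat.not_even_iff_odd.mpr h1) (even_iff_two_dvd.mpr h2)
    have hcen : c ∈ center X := mem_center_iff.mpr fun g => by
      have := hz g
      rw [hO, mem_bot, mul_inv_eq_one, mul_inv_eq_iff_eq_mul] at this
      exact this.symm
    rcases (inferInstance : (center X).Normal).eq_bot_or_eq_top with e | e
    · rw [e, mem_bot] at hcen
      exact ne_one_of_orderOf_eq_two hc2 hcen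
    · exact hna ⟨⟨fun a b => mem_center_iff.mp (e ▸ mem_top b) a⟩⟩
  · exact H91.CI.exists_ne_sylow hna S (hne S)

end Cfsg.Agent.H30.RankInt
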