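import Cfsg.Agent.H30.RankInt.Pairs
import Cfsg.Agent.S3304
import Cfsg.Agent.H80.GW.QuaternionCyclicInt

/-!
# The solvable case with an elementary subgroup of order eight
-/

set_option autoImplicit false
set_option linter.style.haveILetI false
set_option linter.unusedSectionVars false

namespace Cfsg.Agent.H30.RankInt

open Subgroup Cfsg.Agent

universe u

local instance factTwoV : Fact (Nat.Prime 2) := ⟨Nat.prime_two⟩

/-- An involution of `GL₂(3)` other than `-1` commutes with at most four square roots of `1`. -/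
theorem gl23_sqrt_le : ∀ a : Matrix (Fin 2) (Fin 2) (ZMod 3), a * a = 1 → a ≠ 1 → a ≠ -1 →
    (Finset.univ.filter fun m : Matrix (Fin 2) (Fin 2) (ZMod 3) => m * m = 1 ∧ a * m = m * a).card ≤ 4 := by
  decide +kernel

theorem gl23_no_eight {B : Subgroup (GL (Fin 2) (ZMod 3))} [IsMulCommutative ↥B]
    (h2 : ∀ b ∈ B, b * b = 1) : Nat.card ↥B ≤ 4 := by
  classical
  by_cases hex : ∃ a ∈ B, (a : Matrix (Fin 2) (Fin 2) (ZMod 3)) ≠ 1 ∧ (a : Matrix (Fin 2) (Fin 2) (ZMod 3)) ≠ -1
  · obtain ⟨a, ha, ha1, ha2⟩ := hex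
    refine le_trans (le_trans (Nat.card_le_card_of_injective
      (fun b : ↥B => (⟨((b : GL (Fin 2) (ZMod 3)) : Matrix (Fin 2) (Fin 2) (ZMod 3)), by
        refine Finset.mem_filter.mpr ⟨Finset.mem_univ _, ?_, ?_⟩
        · rw [← Units.val_mul, h2 _ b.2, Units.val_one]
        · rw [← Units.val_mul, ← Units.val_mul]
          exact congrArg Units.val (congrArg Subtype.val (mul_comm' (⟨a, ha⟩ : ↥B) b))⟩ :
        ↥(Finset.univ.filter fun m : Matrix (Fin 2) (Fin 2) (ZMod 3) =>
          m * m = 1 ∧ (a : Matrix (Fin 2) (Fin 2) (ZMod 3)) * m = m * a))) ?_)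
      (Nat.card_eq_finsetCard _).le) (gl23_sqrt_le _ (by rw [← Units.val_mul, h2 a ha, Units.val_one]) ha1 ha2)
    exact fun b b' e => Subtype.ext (Units.ext (congrArg Subtype.val e))
  · push Not at hex
    refine le_trans (le_trans (Nat.card_le_card_of_injective
      (fun b : ↥B => decide (((b : GL (Fin 2) (ZMod 3)) : Matrix (Fin 2) (Fin 2) (ZMod 3)) = 1)) ?_)
      (Nat.card_eq_fintype_card.trans Fintype.card_bool).le) (by norm_num)
    intro b b' e
    refine Subtype.ext (Units.ext ?_)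
    simp only [decide_eq_decide] at e
    by_cases h : ((b : GL (Fin 2) (ZMod 3)) : Matrix (Fin 2) (Fin 2) (ZMod 3)) = 1
    · rw [h, e.mp h]
    · rw [hex _ b.2 h, hex _ b'.2 fun h' => h (e.mpr h')]

/-- A solvable core-free group with rank one intersections and an elementary subgroup of order eight
has one Sylow 2-subgroup. -/
theorem sylow_eq_of_solvable {X : Type u} [Group X] [Finite X] (hs : Group.IsSolvable X) (hI : RankInt X)
    (hO : Cfsg.oddCore X = ⊥) (h8 : ∃ S : Sylow 2 X, HasEight (S : Subgroup X)) :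
    ∀ S T : Sylow 2 X, S = T := by
  obtain ⟨S₀, h8⟩ := h8
  set q := QuotientGroup.mk' (Cfsg.oddCore X)
  have hq : Function.Surjective q := QuotientGroup.mk'_surjective _
  have hqi : ∀ x, q x = 1 → x = 1 := fun x h => by
    have h1 : x ∈ Cfsg.oddCore X := (QuotientGroup.eq_one_iff x).mp h
    rwa [hO, mem_bot] at h1
  have hinj : Function.Injective q := (injective_iff_map_eq_one _).2 hqi
  have hno : ∀ (h : Cfsg.PRankLE 2 1 (X ⧸ Cfsg.oddCore X)), False := fun h => by
    obtain ⟨B, -, hB, hB2, hB8⟩ := hasEight_map q h8 fun x _ => hqi x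
    have := h B hB fun b hb => by rw [pow_two]; exact hB2 b hb
    rw [pow_one] at this
    omega
  rcases S3304.result hs hI with ⟨P, hP⟩ | ⟨⟨e⟩⟩ | ⟨-, -, -, hQ⟩
  · intro S T
    haveI := hP
    haveI : Subsingleton (Sylow 2 (X ⧸ Cfsg.oddCore X)) := Sylow.unique_of_normal P hP |>.instSubsingleton
    have h := Subsingleton.elim (S.mapSurjective hq) (T.mapSurjective hq)
    have h' := congrArg (fun U : Sylow 2 (X ⧸ Cfsg.oddCore X) => (U : Subgroup (X ⧸ Cfsg.oddCore X))) h
    simp only [Sylow.coe_mapSurjective] at h'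
    exact Sylow.ext (map_injective hinj h')
  · exfalso
    obtain ⟨B, -, hB, hB2, hB8⟩ := hasEight_map (e.toMonoidHom.comp q) h8 fun x _ h =>
      hqi x (e.injective (h.trans (map_one e).symm))
    haveI := hB
    have := gl23_no_eight hB2
    omega
  · exact (hno (H80.GW.pRankLE_of_quaternion fun P => ⟨1, hQ P⟩)).elim

end Cfsg.Agent.H30.RankInt
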