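import Cfsg.Agent.H30.RankInt.Basic
import Cfsg.Agent.H28.RankTwoOrder
import Cfsg.Agent.H28.RankTwoFPF
import Cfsg.Agent.H28.RankTwoModel

/-!
# A 2-group with three involutions permuted transitively contains no quaternion group
-/

set_option autoImplicit false
set_option linter.style.haveILetI false
set_option linter.unusedSectionVars false

namespace Cfsg.Agent.H30.RankInt

open Subgroup Cfsg.Agent
open Cfsg.Agent.H63.SixtyFour (Dat)

local instance factTwoI : Fact (Nat.Prime 2) := ⟨Nat.prime_two⟩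

/-- The model case. -/
theorem dat_no_pair {T : Type*} [Group T] [Finite T] (d : Dat T) (hsq : ∀ g : T, g * g = 1 → g ∈ center T)
    {x y z : T} (hz1 : z ≠ 1) (hx : x * x = z) (hy : y * y = z) (hw : Dat.c x y = z) : False := by
  have hz : z ∈ center T := hx ▸ d.sq_mem x
  obtain ⟨hs1, hsz, hp1, hss⟩ := d.center_elts hz hz1
  obtain ⟨e1, -⟩ := d.cross x y
  rw [hw] at e1
  have hc : Dat.c (d.σ y) x = z * d.σ z := by rw [d.c_comm, e1]
  have hcs : (x * d.σ y) * (x * d.σ y) = 1 := by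
    have e2 := Dat.mul_eq (d.σ y) x
    rw [hc] at e2
    calc x * d.σ y * (x * d.σ y) = x * (d.σ y * x) * d.σ y := by simp only [mul_assoc]
      _ = (z * d.σ z) * (x * x * (d.σ y * d.σ y)) := by
          rw [e2, ← mul_assoc x, mem_center_iff.1 (mul_mem hz (Dat.map_center d.σ hz)) x]
          simp only [mul_assoc]
      _ = (z * d.σ z) * (z * d.σ z) := by rw [hx, ← map_mul, hy]
      _ = 1 := d.center_sq (mul_mem hz (Dat.map_center d.σ hz))
  have := Dat.c_central_left (hsq _ hcs) x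
  rw [d.c_mul_left, Dat.c_self, one_mul, hc] at this
  exact hp1 this

/-- No quaternion pair in a 2-group of rank two with three involutions permuted transitively. -/
theorem no_pair_three {G : Type*} [Group G] [Finite G] {S : Subgroup G} (hS : IsPGroup 2 ↥S) {z c : G}
    (hzS : z ∈ S) (hcS : c ∈ S) (hz2 : orderOf z = 2) (hc2 : orderOf c = 2) (hcz : c ≠ z)
    (hzc : Commute z c) (hall : ∀ t ∈ S, t * t = 1 → t = 1 ∨ t = z ∨ t = c ∨ t = z * c)
    {g : G} (hg : g ∈ normalizer (S : Set G)) (hgz : g * z * g⁻¹ = c) (hgc : g * c * g⁻¹ = z * c)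
    {x y : G} (hx : x ∈ S) (hy : y ∈ S) (hxx : x * x = z) (hyy : y * y = z) (hxy : y * x * y⁻¹ = x * z) :
    False := by
  classical
  have hzz := H39.mul_self_of_orderOf_eq_two hz2
  have hcc := H39.mul_self_of_orderOf_eq_two hc2
  have hz1 := H39.ne_one_of_orderOf_eq_two hz2
  have hc1 := H39.ne_one_of_orderOf_eq_two hc2
  let z' : ↥S := ⟨z, hzS⟩
  let c' : ↥S := ⟨c, hcS⟩
  have h1 : ¬ Cfsg.PRankLE 2 1 ↥S := fun h =>
    hcz (eq_of_rank_one (U := S) h hzS hcS hz2 hc2 hzc).symm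
  have hinv : ∀ t : ↥S, t ^ 2 = 1 → t = 1 ∨ t = z' ∨ t = c' ∨ t = z' * c' := fun t ht => by
    rw [pow_two] at ht
    rcases hall t t.2 (congrArg Subtype.val ht) with h | h | h | h
    exacts [Or.inl (Subtype.ext h), Or.inr (Or.inl (Subtype.ext h)), Or.inr (Or.inr (Or.inl (Subtype.ext h))),
      Or.inr (Or.inr (Or.inr (Subtype.ext h)))]
  have h2 : Cfsg.PRankLE 2 2 ↥S := by
    intro A _ hA
    let f : Fin 4 → ↥S := ![1, z', c', z' * c']
    have hle : (A : Set ↥S) ⊆ Set.range f := fun t ht => by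
      rcases hinv t (hA t ht) with rfl | rfl | rfl | rfl
      exacts [⟨0, rfl⟩, ⟨1, rfl⟩, ⟨2, rfl⟩, ⟨3, rfl⟩]
    calc Nat.card A ≤ Nat.card (Set.range f) := Nat.card_le_card_of_injective _ (Set.inclusion_injective hle)
      _ ≤ Nat.card (Fin 4) := Finite.card_range_le f
      _ = 2 ^ 2 := Nat.card_fin 4
  let φ : MulAut ↥S := S.normalizerMonoidHom ⟨g, hg⟩
  have hφ : ∀ t : ↥S, ((φ t : ↥S) : G) = g * t * g⁻¹ := fun t => rfl
  have hφz : φ z' = c' := Subtype.ext ((hφ _).trans hgz)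
  have hφc : φ c' = z' * c' := Subtype.ext ((hφ _).trans hgc)
  have hφzc : φ (z' * c') = z' := by
    rw [map_mul, hφz, hφc]
    refine Subtype.ext ?_
    show c * (z * c) = z
    rw [hzc.eq, ← mul_assoc, hcc, one_mul]
  have hnext : ∀ t : ↥S, t = z' ∨ t = c' ∨ t = z' * c' → ∃ k, (φ ^ k) z' = t ∧ ∃ j, (φ ^ j) t = z' := by
    rintro t (rfl | rfl | rfl)
    · exact ⟨0, rfl, 0, rfl⟩
    · refine ⟨1, by rw [pow_one, hφz], 2, ?_⟩
      rw [pow_two, MulAut.mul_apply, hφc, hφzc]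
    · refine ⟨2, by rw [pow_two, MulAut.mul_apply, hφz, hφc], 1, by rw [pow_one, hφzc]⟩
  have htrans : ∀ s t : ↥S, orderOf s = 2 → orderOf t = 2 → ∃ k : ℕ, (φ ^ k) s = t := by
    intro s t hs ht
    have hmem : ∀ w : ↥S, orderOf w = 2 → w = z' ∨ w = c' ∨ w = z' * c' := fun w hw =>
      (hinv w (by rw [pow_two]; exact H39.mul_self_of_orderOf_eq_two hw)).resolve_left
        (H39.ne_one_of_orderOf_eq_two hw)
    obtain ⟨-, -, j, hj⟩ := hnext s (hmem s hs)
    obtain ⟨k, hk, -⟩ := hnext t (hmem t ht)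
    exact ⟨k + j, by rw [pow_add, MulAut.mul_apply, hj, hk]⟩
  obtain ⟨hz, hI, σ, h3, hfp⟩ := H28.RankTwo.exists_fpf hS h2 h1 φ htrans
  let d : H28.RankTwo.Hyp ↥S := ⟨hS, σ, h3, hfp, hz, hI⟩
  have hna : ¬ IsMulCommutative ↥S := fun h => by
    have hc := congrArg Subtype.val (h.is_comm.comm (⟨y, hy⟩ : ↥S) ⟨x, hx⟩)
    simp only [Subgroup.coe_mul] at hc
    rw [hc, mul_inv_cancel_right, eq_comm, mul_eq_left] at hxy
    exact hz1 hxy
  refine dat_no_pair (⟨σ, h3, hfp, d.card_sixtyFour hna, hna⟩ : Dat ↥S)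
    (fun t ht => hz t (by rw [pow_two]; exact ht)) (x := ⟨x, hx⟩) (y := ⟨y, hy⟩) (z := z')
    (fun e => hz1 (congrArg Subtype.val e)) (Subtype.ext hxx) (Subtype.ext hyy) (Subtype.ext ?_)
  show x * y * x⁻¹ * y⁻¹ = z
  have hyx : y * x = x * (z * y) := by rw [← mul_assoc, ← hxy, inv_mul_cancel_right]
  have hzy : z * y = y * z := by rw [← hyy]; group
  have hzi : z⁻¹ = z := inv_eq_of_mul_eq_one_right hzz
  calc x * y * x⁻¹ * y⁻¹ = x * y * (y * x)⁻¹ := by group
    _ = x * y * (z * y)⁻¹ * x⁻¹ := by rw [hyx]; group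
    _ = x * z * x⁻¹ := by rw [mul_inv_rev, hzi]; group
    _ = z := by rw [← hxx]; group

end Cfsg.Agent.H30.RankInt
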