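import Cfsg.Agent.H30.RankInt.OneComp
import Cfsg.Agent.H30.RankInt.Solvable
import Cfsg.Agent.H30.RankInt.ThreeInv
import Cfsg.Agent.S0218

/-!
# A noncyclic intersection forces a central involution
-/

set_option autoImplicit false
set_option linter.style.haveILetI false
set_option linter.unusedSectionVars false

namespace Cfsg.Agent.H30.RankInt

open Subgroup Cfsg.Agent
open scoped Pointwise

universe u

local instance factTwoZ : Fact (Nat.Prime 2) := ⟨Nat.prime_two⟩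

/-- A subgroup of rank one has at most two square roots of `1` in an elementary subgroup. -/
theorem not_hasEight_of_rank_one {G : Type*} [Group G] [Finite G] {U : Subgroup G}
    (h : Cfsg.PRankLE 2 1 ↥U) : ¬ HasEight U := by
  rintro ⟨B, hBU, hB, hB2, hB8⟩
  haveI := hB
  have hle := h (B.subgroupOf U) inferInstance fun b hb => Subtype.ext (by
    rw [Subgroup.coe_pow, pow_two]; exact hB2 b hb)
  rw [Nat.card_congr (subgroupOfEquivOfLe hBU).toEquiv, pow_one] at hle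
  omega

/-- A quaternion group contains no elementary subgroup of order eight. -/
theorem not_hasEight_of_quaternion {G : Type*} [Group G] [Finite G] {U : Subgroup G} {n : ℕ}
    (e : ↥U ≃* QuaternionGroup (2 ^ (n + 1))) : ¬ HasEight U := by
  refine not_hasEight_of_rank_one fun A hA hA2 => ?_
  haveI := hA
  have hsub := (Nat.card_eq_one_iff_unique.1 (S0218.result n)).1
  have key : ∀ x : ↥U, x ∈ A → x ≠ 1 → orderOf (e x) = 2 := fun x hx hx1 => by
    rw [e.orderOf_eq, orderOf_eq_prime_iff]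
    exact ⟨hA2 x hx, hx1⟩
  rw [pow_one]
  by_contra hlt
  haveI := Fintype.ofFinite ↥A
  rw [Nat.card_eq_fintype_card, not_le, Fintype.two_lt_card_iff] at hlt
  obtain ⟨a, b, c, hab, hac, hbc⟩ := hlt
  have huniq : ∀ x y : ↥A, x ≠ 1 → y ≠ 1 → x = y := fun x y hx hy => by
    have h := hsub.elim ⟨_, key x x.2 fun h => hx (Subtype.ext h)⟩ ⟨_, key y y.2 fun h => hy (Subtype.ext h)⟩
    exact Subtype.ext (e.injective (congrArg Subtype.val h))
  by_cases ha : a = 1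
  · exact hbc (huniq b c (fun h => hab (ha.trans h.symm)) fun h => hac (ha.trans h.symm))
  by_cases hb : b = 1
  · exact hac (huniq a c ha fun h => hbc (hb.trans h.symm))
  exact hab (huniq a b ha hb)

variable {Y : Type u} [Group Y] [Finite Y]

/-- An involution of `S` fixed by the normalizer of `S` is central. -/
theorem central_of_fixed (hI : RankInt Y) (hO : Cfsg.oddCore Y = ⊥) (S : Sylow 2 Y) {u : Y}
    (hu : orderOf u = 2) (huS : u ∈ (S : Subgroup Y))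
    (hfix : ∀ n ∈ normalizer ((S : Subgroup Y) : Set Y), n * u * n⁻¹ = u) (g : Y) : Commute u g := by
  have h := commutator_mem_core hI S hu huS hfix g
  rw [hO, mem_bot, mul_inv_eq_one, mul_inv_eq_iff_eq_mul] at h
  exact h

/-- The centralizer of `z` in a Sylow 2-subgroup has an elementary subgroup of order eight. -/
theorem hasEight_centralizer {S : Sylow 2 Y} {z : Y} (hz2 : orderOf z = 2) (hzS : z ∈ (S : Subgroup Y))
    (hfix : ∀ u : Y, orderOf u = 2 → u ∈ (S : Subgroup Y) →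
      ∃ n ∈ normalizer ((S : Subgroup Y) : Set Y), n * u * n⁻¹ ≠ u)
    {x y : Y} (hx : x ∈ (S : Subgroup Y)) (hy : y ∈ (S : Subgroup Y)) (hxx : x * x = z) (hyy : y * y = z)
    (hxy : y * x * y⁻¹ = x * z) :
    HasEight ((S : Subgroup Y) ⊓ centralizer ({z} : Set Y)) := by
  classical
  have hzz := H39.mul_self_of_orderOf_eq_two hz2
  have hz1 := H39.ne_one_of_orderOf_eq_two hz2
  have hmemC : ∀ t ∈ (S : Subgroup Y), Commute t z →
      t ∈ (S : Subgroup Y) ⊓ centralizer ({z} : Set Y) := fun t ht h =>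
    ⟨ht, mem_centralizer_singleton_iff.mpr h.eq⟩
  have hconj : ∀ {n t : Y}, n ∈ normalizer ((S : Subgroup Y) : Set Y) →
      (∀ s ∈ (S : Subgroup Y), Commute s t) → t ∈ (S : Subgroup Y) →
      n * t * n⁻¹ ∈ (S : Subgroup Y) ∧ ∀ s ∈ (S : Subgroup Y), Commute s (n * t * n⁻¹) := by
    intro n t hn ht htS
    refine ⟨(mem_normalizer_iff.mp hn t).mp htS, fun s hs => ?_⟩
    have hs' : n⁻¹ * s * n ∈ (S : Subgroup Y) := by
      have := (mem_normalizer_iff.mp (inv_mem hn) s).mp hs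
      rwa [inv_inv] at this
    have e := (ht _ hs').map (MulAut.conj n).toMonoidHom
    simpa [mul_assoc] using e
  by_cases hzc : ∀ s ∈ (S : Subgroup Y), Commute s z
  · obtain ⟨g, hg, hgz⟩ := hfix z hz2 hzS
    obtain ⟨hc1S, hc1c⟩ := hconj hg hzc hzS
    set c1 := g * z * g⁻¹ with hc1
    have hc12 : orderOf c1 = 2 := by rw [hc1, H39.orderOf_conj, hz2]
    by_cases hex : ∃ t ∈ (S : Subgroup Y), t * t = 1 ∧ t ≠ 1 ∧ t ≠ z ∧ t ≠ c1 ∧ t ≠ z * c1
    · obtain ⟨t, htS, ht2, ht1, htz, htc, htzc⟩ := hex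
      exact hasEight_of_three (hmemC z hzS (Commute.refl z)) (hmemC c1 hc1S (hzc c1 hc1S))
        (hmemC t htS (hzc t htS)) hzz (H39.mul_self_of_orderOf_eq_two hc12) ht2 (hzc c1 hc1S).symm
        (hzc t htS).symm (hc1c t htS).symm hz1 (H39.ne_one_of_orderOf_eq_two hc12) hgz.symm
        ⟨ht1, htz, htc, htzc⟩
    · exfalso
      push Not at hex
      have hall : ∀ t ∈ (S : Subgroup Y), t * t = 1 → t = 1 ∨ t = z ∨ t = c1 ∨ t = z * c1 := by
        intro t ht ht2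
        by_contra hh
        push Not at hh
        exact hh.2.2.2 (hex t ht ht2 hh.1 hh.2.1 hh.2.2.1)
      have hgc : g * c1 * g⁻¹ = z * c1 := by
        obtain ⟨hdS, -⟩ := hconj hg hc1c hc1S
        rcases hall _ hdS (by rw [conj_mul, H39.mul_self_of_orderOf_eq_two hc12, mul_one, mul_inv_cancel])
          with h | h | h | h
        · exact absurd (conj_eq_one_iff.mp h) (H39.ne_one_of_orderOf_eq_two hc12)
        · exfalso
          obtain ⟨k, m, hm, hkm⟩ := Nat.exists_eq_two_pow_mul_odd (n := orderOf g) (orderOf_pos g).ne'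
          have hodd : ∀ j : ℕ, g ^ (2 * j + 1) * z * (g ^ (2 * j + 1))⁻¹ = c1 := by
            intro j
            induction j with
            | zero => rw [mul_zero, zero_add, pow_one]
            | succ j ih =>
              rw [show 2 * (j + 1) + 1 = 2 + (2 * j + 1) by ring, pow_add,
                show g ^ 2 * g ^ (2 * j + 1) * z * (g ^ 2 * g ^ (2 * j + 1))⁻¹ =
                  g * (g * (g ^ (2 * j + 1) * z * (g ^ (2 * j + 1))⁻¹) * g⁻¹) * g⁻¹ by group, ih, h]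
          obtain ⟨j, rfl⟩ := hm
          have hmS : g ^ (2 * j + 1) ∈ (S : Subgroup Y) := H91.CI.mem_of_mem_normalizer S
            (H91.CI.isPGroup_zpowers (k := k)
              (by rw [← pow_mul, mul_comm, ← hkm, pow_orderOf_eq_one]))
            (zpowers_le.mpr (pow_mem hg _)) (mem_zpowers _)
          have := hodd j
          rw [(hzc _ hmS).eq, mul_inv_cancel_right] at this
          exact hgz this.symm
        · refine absurd ?_ hgz
          rw [hc1] at h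
          exact mul_left_cancel (mul_right_cancel h)
        · exact h
      exact no_pair_three S.isPGroup' hzS hc1S hz2 hc12 hgz (hzc c1 hc1S).symm hall hg rfl hgc hx hy hxx hyy hxy
  · obtain ⟨c, hcS, hc2, hcc⟩ := exists_central_involution S.isPGroup' (ne_bot_of_orderOf_two hz2 hzS)
    obtain ⟨n, hn, hnc⟩ := hfix c hc2 hcS
    obtain ⟨hc'S, hc'c⟩ := hconj hn hcc hcS
    have hc'2 : orderOf (n * c * n⁻¹) = 2 := by rw [H39.orderOf_conj, hc2]
    refine hasEight_of_three (hmemC c hcS (hcc z hzS).symm) (hmemC _ hc'S (hc'c z hzS).symm)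
      (hmemC z hzS (Commute.refl z)) (H39.mul_self_of_orderOf_eq_two hc2) (H39.mul_self_of_orderOf_eq_two hc'2)
      hzz (hc'c c hcS) (hcc z hzS).symm (hc'c z hzS).symm (H39.ne_one_of_orderOf_eq_two hc2)
      (H39.ne_one_of_orderOf_eq_two hc'2) hnc.symm ⟨hz1, fun e => hzc (e ▸ hcc), fun e => hzc (e ▸ hc'c),
        fun e => hzc fun s hs => e ▸ (hcc s hs).mul_right (hc'c s hs)⟩

/-- The central involution. -/
theorem exists_central (hEmb : H91.CI.EmbCriterion.{u}) (hAb : H91.CI.AbFacts.{u}) (hOuter : NoOuter.{u})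
    (hI : RankInt Y) (hO : Cfsg.oddCore Y = ⊥)
    (hnC : ∃ S T : Sylow 2 Y, S ≠ T ∧ ¬ IsCyclic ↥((S : Subgroup Y) ⊓ (T : Subgroup Y))) :
    ∃ z : Y, Central Y z := by
  classical
  obtain ⟨S, T, hST, hnc⟩ := hnC
  have hmany : ∀ U : Sylow 2 Y, ∃ V : Sylow 2 Y, V ≠ U := fun U => by
    by_cases h : S = U
    · exact ⟨T, fun e => hST (h.trans e.symm)⟩
    · exact ⟨S, h⟩
  set D := (S : Subgroup Y) ⊓ (T : Subgroup Y) with hD
  have hDp : IsPGroup 2 ↥D := S.isPGroup'.to_le inf_le_left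
  have hD1 : D ≠ ⊥ := fun e => hnc (by rw [e]; infer_instance)
  obtain ⟨z, hzD, hz2, hzDc⟩ := exists_central_involution hDp hD1
  have hzz := H39.mul_self_of_orderOf_eq_two hz2
  have hz1 := H39.ne_one_of_orderOf_eq_two hz2
  have huniq : ∀ v ∈ D, v * v = 1 → v = 1 ∨ v = z := fun v hv hv2 => or_iff_not_imp_left.mpr fun hv1 =>
    eq_of_rank_one (hI S T hST) hv hzD (H39.orderOf_eq_two_of_mul_self hv2 hv1) hz2 (hzDc v hv)
  obtain ⟨n, hn, ⟨e⟩⟩ : ∃ n, 1 ≤ n ∧ Nonempty (↥D ≃* QuaternionGroup (2 ^ n)) := by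
    rcases S0016.result 2 hDp (fun A B hA hB => S1307.eq_of_card_two (z := z)
      (fun v hv hv2 => (huniq v hv (H39.mul_self_of_orderOf_eq_two hv2)).resolve_left
        (H39.ne_one_of_orderOf_eq_two hv2)) hA hB) with hc | ⟨-, n, ⟨e⟩⟩
    · exact absurd hc hnc
    · rcases Nat.eq_zero_or_pos n with rfl | hn
      · exact absurd (e.isCyclic.2 (by rw [pow_zero]; exact QuaternionGroup.quaternionGroup_one_isCyclic)) hnc
      · exact ⟨n, hn, ⟨e⟩⟩
  obtain ⟨m, rfl⟩ : ∃ m, n = m + 1 := ⟨n - 1, by omega⟩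
  obtain ⟨gx, gy, hxx, hyy, hxy⟩ := pair_of_quaternion (D.subtype.comp e.symm.toMonoidHom)
    (D.subtype_injective.comp e.symm.injective)
    (fun g hg => huniq _ (SetLike.coe_mem _) (by rw [← map_mul, hg, map_one]))
  set x := (D.subtype.comp e.symm.toMonoidHom) gx with hxdef
  set y := (D.subtype.comp e.symm.toMonoidHom) gy with hydef
  have hxD : x ∈ D := SetLike.coe_mem _
  have hyD : y ∈ D := SetLike.coe_mem _
  by_cases hfixed : ∃ u, orderOf u = 2 ∧ u ∈ (S : Subgroup Y) ∧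
      ∀ n ∈ normalizer ((S : Subgroup Y) : Set Y), n * u * n⁻¹ = u
  · obtain ⟨u, hu2, huS, hu⟩ := hfixed
    exact ⟨u, hI, hO, hu2, central_of_fixed hI hO S hu2 huS hu, hmany⟩
  exfalso
  have hfix : ∀ u : Y, orderOf u = 2 → u ∈ (S : Subgroup Y) →
      ∃ n ∈ normalizer ((S : Subgroup Y) : Set Y), n * u * n⁻¹ ≠ u := fun u h1 h2 => by
    by_contra hh
    push Not at hh
    exact hfixed ⟨u, h1, h2, hh⟩
  have h8 := hasEight_centralizer hz2 hzD.1 hfix hxD.1 hyD.1 hxx hyy hxy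
  -- the centralizer of `z` modulo its core
  set X := centralizer ({z} : Set Y) with hX
  have hIX := rankInt_subgroup hI X
  obtain ⟨P, hP⟩ := exists_sylow_centralizer hI S hz2 hzD.1
  obtain ⟨Q, hQ⟩ := exists_sylow_centralizer hI T hz2 hzD.2
  haveI : (Cfsg.oddCore ↥X).Characteristic := Cores.pPrimeCore_characteristic
  have hOodd : Odd (Nat.card (Cfsg.oddCore ↥X)) := Cores.odd_card_oddCore
  have hOP : Cfsg.oddCore ↥X ≤ centralizer ((P : Subgroup ↥X) : Set ↥X) := by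
    obtain ⟨B, hB, hBc, hB2, hB8⟩ := h8
    haveI := hBc
    have hBX : B ≤ X := hB.trans inf_le_right
    refine le_centralizer_of_rank_three hIX P (B.subgroupOf X) (fun b hb => ?_) (fun b hb => Subtype.ext
      (hB2 _ hb)) (by rwa [Nat.card_congr (subgroupOfEquivOfLe hBX).toEquiv]) _ hOodd
      (Components.le_normalizer_of_normal _)
    obtain ⟨p, hp, e⟩ := hP.ge (hB hb)
    rwa [← Subtype.ext e]
  set φ := QuotientGroup.mk' (Cfsg.oddCore ↥X) with hφ
  have hsurj : Function.Surjective φ := QuotientGroup.mk'_surjective _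
  have hdisj : ∀ R : Sylow 2 ↥X, ∀ w ∈ (R : Subgroup ↥X), φ w = 1 → w = 1 := by
    intro R w hw h
    obtain ⟨k, hk⟩ := H91.CI.exists_orderOf_pow hw
    have h1 : orderOf w ∣ Nat.card (Cfsg.oddCore ↥X) :=
      orderOf_dvd_natCard _ ((QuotientGroup.eq_one_iff w).mp h)
    exact orderOf_eq_one_iff.mp (Nat.eq_one_of_dvd_coprimes
      (Nat.Coprime.pow_left k (Nat.coprime_two_left.mpr hOodd)) (orderOf_dvd_of_pow_eq_one hk) h1)
  have hinj : ∀ a ∈ (P : Subgroup ↥X), ∀ b ∈ (P : Subgroup ↥X), φ a = φ b → a = b := fun a ha b hb h =>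
    inv_mul_eq_one.mp (hdisj P _ (mul_mem (inv_mem ha) hb) (by rw [map_mul, map_inv, h, inv_mul_cancel]))
  have hzX : z ∈ X := mem_centralizer_singleton_iff.mpr rfl
  have hmemP : ∀ (w : ↥X), (w : Y) ∈ (S : Subgroup Y) → w ∈ (P : Subgroup ↥X) := fun w hw => by
    obtain ⟨p, hp, e⟩ := hP.ge ⟨hw, w.2⟩
    rwa [← Subtype.ext e]
  have hmemQ : ∀ (w : ↥X), (w : Y) ∈ (T : Subgroup Y) → w ∈ (Q : Subgroup ↥X) := fun w hw => by
    obtain ⟨p, hp, e⟩ := hQ.ge ⟨hw, w.2⟩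
    rwa [← Subtype.ext e]
  set zb := φ ⟨z, hzX⟩ with hzb
  have hPS : ∀ w ∈ (P : Subgroup ↥X), (w : Y) ∈ (S : Subgroup Y) := fun w hw =>
    (hP.le ⟨w, hw, rfl⟩).1
  have hPQ : P.mapSurjective hsurj ≠ Q.mapSurjective hsurj := by
    intro h
    have hQP : (Q : Subgroup ↥X) ≤ (P : Subgroup ↥X) := by
      intro q hq
      have hmem : φ q ∈ ((P.mapSurjective hsurj : Sylow 2 _) : Subgroup (↥X ⧸ Cfsg.oddCore ↥X)) := by
        rw [h, Sylow.coe_mapSurjective]; exact mem_map_of_mem φ hq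
      rw [Sylow.coe_mapSurjective] at hmem
      obtain ⟨p, hp, hpq⟩ := hmem
      have ho : p⁻¹ * q ∈ Cfsg.oddCore ↥X := QuotientGroup.eq.mp hpq
      have hcm : Commute p (p⁻¹ * q) := mem_centralizer_iff.mp (hOP ho) p hp
      obtain ⟨k, hk⟩ := H91.CI.exists_orderOf_pow hq
      have h1 : (p⁻¹ * q) ^ 2 ^ k = (p ^ 2 ^ k)⁻¹ := by
        have := hcm.mul_pow (2 ^ k)
        rw [mul_inv_cancel_left, hk] at this
        exact eq_inv_of_mul_eq_one_right this.symm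
      have h2 : (p⁻¹ * q) ^ 2 ^ k = 1 := hdisj P _ (h1 ▸ inv_mem (pow_mem hp _))
        ((QuotientGroup.eq_one_iff _).mpr (pow_mem ho _))
      have h3 : p⁻¹ * q = 1 := orderOf_eq_one_iff.mp (Nat.eq_one_of_dvd_coprimes
        (Nat.Coprime.pow_left k (Nat.coprime_two_left.mpr hOodd)) (orderOf_dvd_of_pow_eq_one h2)
        (orderOf_dvd_natCard _ ho))
      rwa [← inv_mul_eq_one.mp h3]
    refine not_hasEight_of_rank_one (hI S T hST) (hasEight_mono h8 (le_inf inf_le_left ?_))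
    intro w hw
    obtain ⟨p, hp, rfl⟩ := hP.ge hw
    rw [Q.3 P.isPGroup' hQP] at hp
    exact (hQ.le ⟨p, hp, rfl⟩).1
  have hOb : Cfsg.oddCore (↥X ⧸ Cfsg.oddCore ↥X) = ⊥ := Cores.pPrimeCore_quotient_pPrimeCore
  have hIb := rankInt_quotient hIX (Cfsg.oddCore ↥X) hOodd
  have hzb2 : orderOf zb = 2 := H39.orderOf_eq_two_of_mul_self
    (by rw [hzb, ← map_mul, show (⟨z, hzX⟩ : ↥X) * ⟨z, hzX⟩ = 1 from Subtype.ext hzz, map_one])
    fun h => hz1 (congrArg Subtype.val (hdisj P _ (hmemP ⟨z, hzX⟩ hzD.1) h))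
  have hzbc : ∀ w, Commute zb w := fun w => by
    obtain ⟨a, rfl⟩ := hsurj w
    exact (show Commute (⟨z, hzX⟩ : ↥X) a from
      Subtype.ext (mem_centralizer_singleton_iff.mp a.2).symm).map φ
  have h8b : HasEight ((P.mapSurjective hsurj : Sylow 2 _) : Subgroup (↥X ⧸ Cfsg.oddCore ↥X)) := by
    rw [Sylow.coe_mapSurjective]
    refine hasEight_map φ ?_ (hdisj P)
    obtain ⟨B, hB, hBc, hB2, hB8⟩ := h8
    haveI := hBc
    exact ⟨B.subgroupOf X, fun b hb => hmemP b (hB hb).1, inferInstance, fun b hb => Subtype.ext (hB2 _ hb),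
      by rwa [Nat.card_congr (subgroupOfEquivOfLe (hB.trans inf_le_right)).toEquiv]⟩
  have hC : Central (↥X ⧸ Cfsg.oddCore ↥X) zb := ⟨hIb, hOb, hzb2, hzbc, fun U => by
    by_cases h : P.mapSurjective hsurj = U
    · exact ⟨_, fun e => hPQ (h.trans e.symm)⟩
    · exact ⟨_, h⟩⟩
  have hnCb : ∃ U V : Sylow 2 (↥X ⧸ Cfsg.oddCore ↥X), U ≠ V ∧
      ¬ IsCyclic ↥((U : Subgroup (↥X ⧸ Cfsg.oddCore ↥X)) ⊓ (V : Subgroup (↥X ⧸ Cfsg.oddCore ↥X))) := by
    refine ⟨_, _, hPQ, fun hc => hnc ?_⟩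
    haveI := hc
    have hDX : D ≤ X := fun d hd => mem_centralizer_singleton_iff.mpr (hzDc d hd).eq
    let f : ↥D →* ↥(((P.mapSurjective hsurj : Sylow 2 _) : Subgroup (↥X ⧸ Cfsg.oddCore ↥X)) ⊓
        ((Q.mapSurjective hsurj : Sylow 2 _) : Subgroup (↥X ⧸ Cfsg.oddCore ↥X))) :=
      (φ.comp (inclusion hDX)).codRestrict _ fun d => by
        rw [Sylow.coe_mapSurjective, Sylow.coe_mapSurjective]
        exact ⟨mem_map_of_mem φ (hmemP _ d.2.1), mem_map_of_mem φ (hmemQ _ d.2.2)⟩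
    refine isCyclic_of_injective f ((injective_iff_map_eq_one _).2 fun d hd => ?_)
    exact inclusion_injective hDX ((hdisj P _ (hmemP _ d.2.1) (congrArg Subtype.val hd)).trans
      (map_one (inclusion hDX)).symm)
  have hnQb : ∀ U : Sylow 2 (↥X ⧸ Cfsg.oddCore ↥X), ∀ k : ℕ,
      IsEmpty (↥(U : Subgroup (↥X ⧸ Cfsg.oddCore ↥X)) ≃* QuaternionGroup (2 ^ (k + 1))) := fun U k =>
    ⟨fun f => not_hasEight_of_quaternion ((Sylow.equiv (P.mapSurjective hsurj) U).trans f) h8b⟩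
  have hnsb : ¬ Group.IsSolvable (↥X ⧸ Cfsg.oddCore ↥X) := fun hs =>
    hPQ (sylow_eq_of_solvable hs hIb hOb ⟨_, h8b⟩ _ _)
  -- an element normalizing `C_S(z)` and moving `z`
  obtain ⟨s, hsN, hsz⟩ : ∃ s : Y, (∀ w : Y, w ∈ (S : Subgroup Y) ⊓ X ↔ s * w * s⁻¹ ∈ (S : Subgroup Y) ⊓ X) ∧
      s * z * s⁻¹ ≠ z := by
    by_cases hzc : ∀ w ∈ (S : Subgroup Y), Commute w z
    · obtain ⟨s, hs, hsz⟩ := hfix z hz2 hzD.1
      have heq : (S : Subgroup Y) ⊓ X = (S : Subgroup Y) :=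
        inf_eq_left.mpr fun w hw => mem_centralizer_singleton_iff.mpr (hzc w hw).eq
      exact ⟨s, fun w => by rw [heq]; exact mem_normalizer_iff.mp hs w, hsz⟩
    · haveI : Group.IsNilpotent ↥(S : Subgroup Y) := S.isPGroup'.isNilpotent
      have hlt : ((S : Subgroup Y) ⊓ X).subgroupOf (S : Subgroup Y) < ⊤ := lt_top_iff_ne_top.2 fun h => hzc
        fun w hw => mem_centralizer_singleton_iff.mp ((subgroupOf_eq_top.1 h) hw).2
      obtain ⟨s, hs, hsX⟩ := SetLike.exists_of_lt (normalizerCondition_of_isNilpotent _ hlt)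
      refine ⟨(s : Y), fun w => ⟨fun hw => ?_, fun hw => ?_⟩, fun e => hsX
        ⟨s.2, mem_centralizer_singleton_iff.mpr (mul_inv_eq_iff_eq_mul.mp e)⟩⟩
      · exact ((mem_normalizer_iff.1 hs) ⟨w, hw.1⟩).1 hw
      · have hwS : w ∈ (S : Subgroup Y) := by
          have := mul_mem (mul_mem (inv_mem s.2) hw.1) s.2
          rwa [show (s : Y)⁻¹ * (↑s * w * (↑s)⁻¹) * ↑s = w by group] at this
        exact ((mem_normalizer_iff.1 hs) ⟨w, hwS⟩).2 hw
  set v := s * z * s⁻¹ with hv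
  have hvS : v ∈ (S : Subgroup Y) ⊓ X := (hsN z).mp ⟨hzD.1, hzX⟩
  have hs' : ∀ w ∈ (S : Subgroup Y) ⊓ X, s⁻¹ * w * s ∈ (S : Subgroup Y) ⊓ X := fun w hw => by
    refine (hsN _).mpr ?_
    rwa [show s * (s⁻¹ * w * s) * s⁻¹ = w by group]
  have hvc : ∀ w ∈ (S : Subgroup Y) ⊓ X, Commute w v := fun w hw => by
    have e := (show Commute (s⁻¹ * w * s) z from mem_centralizer_singleton_iff.mp (hs' w hw).2).map
      (MulAut.conj s).toMonoidHom
    simpa [hv, mul_assoc] using e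
  set vx : ↥X := ⟨v, hvS.2⟩ with hvx
  have hvP : vx ∈ (P : Subgroup ↥X) := hmemP vx hvS.1
  have hvb : φ vx ≠ zb := fun h =>
    hsz (congrArg Subtype.val (hinj _ hvP _ (hmemP ⟨z, hzX⟩ hzD.1) h))
  have hvv : vx * vx = 1 := Subtype.ext (by
    show v * v = 1
    rw [hv, conj_mul, hzz, mul_one, mul_inv_cancel])
  have hv1 : φ vx ≠ 1 := fun h => by
    have h' : v = 1 := congrArg Subtype.val (hdisj P _ hvP h)
    exact hz1 (conj_eq_one_iff.mp h')
  rcases good_of_central hC hEmb hAb hOuter hnsb hnCb hnQb with hA | hB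
  swap
  · rcases hB.central (P.mapSurjective hsurj) (φ vx) (by
        rw [Sylow.coe_mapSurjective]; exact mem_map_of_mem φ hvP) (by
        rw [Sylow.coe_mapSurjective]
        rintro _ ⟨w, hw, rfl⟩
        exact (show Commute w vx from Subtype.ext (hvc w ⟨hPS w hw, w.2⟩).eq).map φ) with h | h
    · exact hv1 h
    · exact hvb h
  -- the quaternion 2-core moved by `s`
  obtain ⟨k, ⟨f⟩⟩ := hA.quat
  set W := (P : Subgroup ↥X) ⊓ (Cfsg.pCore 2 (↥X ⧸ Cfsg.oddCore ↥X)).comap φ with hW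
  have hcs : ∀ w : ↥X, w ∈ (P : Subgroup ↥X) → s * (w : Y) * s⁻¹ ∈ (S : Subgroup Y) ⊓ X := fun w hw =>
    (hsN w).mp ⟨hPS w hw, w.2⟩
  let ψ : ↥W →* ↥X :=
    { toFun := fun w => ⟨s * ((w : ↥X) : Y) * s⁻¹, (hcs _ w.2.1).2⟩
      map_one' := Subtype.ext (by simp)
      map_mul' := fun a b => Subtype.ext (by simp [mul_assoc]) }
  set R := ψ.range.map φ with hR
  have hψP : ∀ w : ↥W, ψ w ∈ (P : Subgroup ↥X) := fun w => hmemP _ (hcs _ w.2.1).1
  obtain ⟨gx', gy', hxx', hyy', hxy'⟩ := pair_of_quaternion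
    ((Cfsg.pCore 2 (↥X ⧸ Cfsg.oddCore ↥X)).subtype.comp f.symm.toMonoidHom)
    ((Cfsg.pCore 2 (↥X ⧸ Cfsg.oddCore ↥X)).subtype_injective.comp f.symm.injective)
    (fun g hg => hC.invol_pCore (SetLike.coe_mem _) (by rw [← map_mul, hg, map_one]))
  have hlift : ∀ q ∈ Cfsg.pCore 2 (↥X ⧸ Cfsg.oddCore ↥X), ∃ w : ↥W, φ (w : ↥X) = q := fun q hq => by
    obtain ⟨p, hp, hpq⟩ := (Sylow.coe_mapSurjective hsurj P).le
      (Cores.pCore_le_sylow (P.mapSurjective hsurj) hq)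
    exact ⟨⟨p, hp, show φ p ∈ _ by rw [hpq]; exact hq⟩, hpq⟩
  obtain ⟨a, ha⟩ := hlift _ (SetLike.coe_mem (f.symm gx'))
  obtain ⟨b, hb⟩ := hlift _ (SetLike.coe_mem (f.symm gy'))
  have hzW : (⟨z, hzX⟩ : ↥X) ∈ W := ⟨hmemP _ hzD.1, hC.z_mem_pCore⟩
  have hψz : ψ ⟨_, hzW⟩ = vx := rfl
  have haa : a * a = ⟨_, hzW⟩ := Subtype.ext (hinj _ (mul_mem a.2.1 a.2.1) _ hzW.1 (by
    rw [map_mul, ha]; exact hxx'))
  have hab : b * a * b⁻¹ = a * ⟨_, hzW⟩ := Subtype.ext (hinj _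
    (mul_mem (mul_mem b.2.1 a.2.1) (inv_mem b.2.1)) _ (mul_mem a.2.1 hzW.1) (by
    simp only [Subgroup.coe_mul, map_mul, map_inv, ha, hb]; exact hxy'))
  refine hA.noR (P.mapSurjective hsurj) R ?_ ?_ hvb ?_ (mem_map_of_mem φ ⟨a, rfl⟩) (mem_map_of_mem φ ⟨b, rfl⟩)
    ?_ (by rw [← map_mul, hvv, map_one]) hv1 ?_
  · rw [Sylow.coe_mapSurjective]
    refine map_mono ?_
    rintro _ ⟨w, rfl⟩
    exact hψP w
  · rw [Sylow.coe_mapSurjective, hR]
    refine (map_mono ?_).trans (le_normalizer_map φ)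
    intro t ht
    have hkey : ∀ u : ↥X, u ∈ (P : Subgroup ↥X) → ∀ r ∈ ψ.range, u * r * u⁻¹ ∈ ψ.range := by
      rintro u hu _ ⟨w, rfl⟩
      have hu' := hs' u ⟨hPS u hu, u.2⟩
      set t' : ↥X := ⟨s⁻¹ * (u : Y) * s, hu'.2⟩ with ht'
      have ht'P : t' ∈ (P : Subgroup ↥X) := hmemP t' hu'.1
      refine ⟨⟨t' * w * t'⁻¹, mul_mem (show t' * (w : ↥X) ∈ (P : Subgroup ↥X) from mul_mem ht'P w.2.1)
        (show t'⁻¹ ∈ (P : Subgroup ↥X) from inv_mem ht'P), ?_⟩, ?_⟩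
      · show φ (t' * w * t'⁻¹) ∈ Cfsg.pCore 2 (↥X ⧸ Cfsg.oddCore ↥X)
        rw [map_mul, map_mul, map_inv]
        exact (inferInstance : (Cfsg.pCore 2 (↥X ⧸ Cfsg.oddCore ↥X)).Normal).conj_mem _ w.2.2 _
      · refine Subtype.ext ?_
        show s * (s⁻¹ * (u : Y) * s * ((w : ↥X) : Y) * (s⁻¹ * (u : Y) * s)⁻¹) * s⁻¹ =
          (u : Y) * (s * ((w : ↥X) : Y) * s⁻¹) * (u : Y)⁻¹
        group
    refine mem_normalizer_iff.mpr fun r => ⟨hkey t ht r, fun h => ?_⟩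
    have h' := hkey t⁻¹ (inv_mem ht) _ h
    rwa [show t⁻¹ * (t * r * t⁻¹) * t⁻¹⁻¹ = r by group] at h'
  · rintro _ ⟨r, ⟨w, rfl⟩, rfl⟩ hrr
    rw [← map_mul, ← map_mul] at hrr
    have hww : ((w : ↥X) : Y) * ((w : ↥X) : Y) = 1 := by
      have h := congrArg Subtype.val (hdisj P _ (hψP (w * w)) hrr)
      exact conj_eq_one_iff.mp (show s * (((w : ↥X) : Y) * ((w : ↥X) : Y)) * s⁻¹ = 1 from h)
    rcases hC.invol_pCore w.2.2 (by rw [← map_mul, show (w : ↥X) * (w : ↥X) = 1 from Subtype.ext hww, map_one])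
      with h | h
    · left
      rw [show w = 1 from Subtype.ext (hdisj P _ w.2.1 h), map_one, map_one]
    · right
      rw [show w = ⟨_, hzW⟩ from Subtype.ext (hinj _ w.2.1 _ hzW.1 h), hψz]
  · rw [← map_mul, ← map_mul, haa, hψz]
  · rw [← map_inv, ← map_inv, ← map_mul, ← map_mul, ← map_mul, ← map_mul, hab, map_mul, map_mul, hψz]

end Cfsg.Agent.H30.RankInt
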