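import Cfsg.Agent.H30.RankInt.Basic
import Cfsg.Agent.H91.CI.Comp
import Cfsg.Agent.S0144
import Cfsg.Agent.H80.GW.QuaternionCyclicInt

/-!
# Core-free groups with intersections of rank one and a central involution: components
-/

set_option autoImplicit false
set_option linter.style.haveILetI false
set_option linter.unusedSectionVars false

namespace Cfsg.Agent.H30.RankInt

open Subgroup Cfsg.Agent
open scoped Pointwise commutatorElement

universe u

local instance factTwoK : Fact (Nat.Prime 2) := ⟨Nat.prime_two⟩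

/-- Core-free, rank one intersections, a central involution `z`, at least two Sylow 2-subgroups. -/
structure Central (H : Type u) [Group H] (z : H) : Prop where
  ri : RankInt H
  core : Cfsg.oddCore H = ⊥
  z2 : orderOf z = 2
  zc : ∀ h : H, Commute z h
  many : ∀ S : Sylow 2 H, ∃ T : Sylow 2 H, T ≠ S

variable {H : Type u} [Group H] [Finite H] {z : H} (hH : Central H z)
include hH

theorem Central.z_mem (S : Sylow 2 H) : z ∈ (S : Subgroup H) :=
  H91.CI.mem_of_commutes (k := 1) (by rw [pow_one, pow_two]; exact H39.mul_self_of_orderOf_eq_two hH.z2)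
    fun t _ => (hH.zc t).symm

/-- An involution other than `z` lies in one Sylow 2-subgroup only. -/
theorem Central.eq_of_invol {S T : Sylow 2 H} {x : H} (hx : x * x = 1) (hx1 : x ≠ 1) (hxz : x ≠ z)
    (hxS : x ∈ (S : Subgroup H)) (hxT : x ∈ (T : Subgroup H)) : S = T :=
  eq_of_four hH.ri (H39.orderOf_eq_two_of_mul_self hx hx1) hH.z2 (hH.zc x).symm hxz hxS (hH.z_mem S) hxT
    (hH.z_mem T)

/-- The involutions centralizing a component and lying in `S` are trivial or `z`. -/
theorem Central.invol_of_centralizes {L : Subgroup H} (hL : Cfsg.IsComponent L) (S : Sylow 2 H) {x : H}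
    (hxS : x ∈ (S : Subgroup H)) (hx : x * x = 1) (hc : ∀ l ∈ L, Commute l x) : x = 1 ∨ x = z := by
  by_contra hh
  push Not at hh
  obtain ⟨k, hkL, hk⟩ := H91.CI.exists_moved hH.core hL S
  refine hk ?_
  rw [← hH.eq_of_invol (T := k • S) hx hh.1 hh.2 hxS (mem_smul_iff.mpr ?_)]
  rw [mul_assoc, ← (hc k hkL).eq, inv_mul_cancel_left]
  exact hxS

/-- A component with trivial centralizing involutions contains `z` unless it is the only one. -/
theorem Central.z_mem_of_other {L M : Subgroup H} (hL : Cfsg.IsComponent L) (hM : Cfsg.IsComponent M)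
    (hne : L ≠ M) : z ∈ M ∧ ∀ S : Sylow 2 H, ∀ x ∈ (S : Subgroup H), x ∈ M → x * x = 1 → x = 1 ∨ x = z := by
  have hcomm : ∀ m ∈ M, ∀ l ∈ L, Commute l m := by
    intro m hm l hl
    have h := Components.components_commute hL hM hne
    rw [Subgroup.commutator_eq_bot_iff_le_centralizer] at h
    exact (mem_centralizer_iff.mp (h hl) m hm).symm
  have huniq : ∀ S : Sylow 2 H, ∀ x ∈ (S : Subgroup H), x ∈ M → x * x = 1 → x = 1 ∨ x = z :=
    fun S x hxS hxM hx => hH.invol_of_centralizes hL S hxS hx (hcomm x hxM)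
  refine ⟨?_, huniq⟩
  obtain ⟨S⟩ : Nonempty (Sylow 2 H) := inferInstance
  obtain ⟨p, hpS, hpM, hp⟩ := H91.CI.exists_noncentral hH.core hM S
  obtain ⟨x, hxmem, hx2, -⟩ := exists_central_involution (S.isPGroup'.to_le inf_le_left)
    (S := (S : Subgroup H) ⊓ M) (fun e => hp fun l _ => by
      have : p = 1 := mem_bot.mp (e ▸ ⟨hpS, hpM⟩)
      rw [this]; exact Commute.one_right l)
  rcases huniq S x hxmem.1 hxmem.2 (H39.mul_self_of_orderOf_eq_two hx2) with h | h
  · exact absurd h (H39.ne_one_of_orderOf_eq_two hx2)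
  · exact h ▸ hxmem.2

/-- The 2-core has no involution but `z`. -/
theorem Central.pCore_rank_one : Cfsg.PRankLE 2 1 ↥(Cfsg.pCore 2 H) := by
  obtain ⟨S⟩ : Nonempty (Sylow 2 H) := inferInstance
  obtain ⟨T, hT⟩ := hH.many S
  intro A hA hA2
  have hle : Cfsg.pCore 2 H ≤ (S : Subgroup H) ⊓ (T : Subgroup H) :=
    le_inf (Cores.pCore_le_sylow S) (Cores.pCore_le_sylow T)
  have h := hH.ri S T hT.symm (A.map (inclusion hle)) inferInstance (by
    rintro _ ⟨a, ha, rfl⟩
    rw [← map_pow, hA2 a ha, map_one])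
  rwa [card_map_of_injective (inclusion_injective hle)] at h

/-- An involution of the 2-core is `z`. -/
theorem Central.invol_pCore {x : H} (hx : x ∈ Cfsg.pCore 2 H) (hx2 : x * x = 1) : x = 1 ∨ x = z := by
  refine or_iff_not_imp_left.mpr fun hx1 => ?_
  have hzQ : z ∈ Cfsg.pCore 2 H := H91.CI.mem_pCore_of_centralizes hH.core
    (fun L _ => mem_centralizer_iff.mpr fun l _ => (hH.zc l).eq.symm)
    (mem_centralizer_iff.mpr fun l _ => (hH.zc l).eq.symm)
  exact eq_of_rank_one hH.pCore_rank_one hx hzQ (H39.orderOf_eq_two_of_mul_self hx2 hx1) hH.z2 (hH.zc x).symm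

theorem Central.z_mem_pCore : z ∈ Cfsg.pCore 2 H := H91.CI.mem_pCore_of_centralizes hH.core
  (fun L _ => mem_centralizer_iff.mpr fun l _ => (hH.zc l).eq.symm)
  (mem_centralizer_iff.mpr fun l _ => (hH.zc l).eq.symm)

/-- A non-solvable group has a component. -/
theorem Central.exists_component (hns : ¬ Group.IsSolvable H) : ∃ L : Subgroup H, Cfsg.IsComponent L := by
  by_contra hall
  push Not at hall
  set Q := Cfsg.pCore 2 H with hQ
  have hQn : Q.Normal := inferInstance
  have hcent : ∀ g : H, g ∈ centralizer (Q : Set H) → g ∈ Q := fun g hg =>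
    H91.CI.mem_pCore_of_centralizes hH.core (fun L hL => absurd hL (hall L)) hg
  -- elements of odd prime power order have order three
  have hodd : ∀ p : ℕ, p.Prime → p ≠ 2 → p ∣ Nat.card H → p = 3 := by
    intro p hp hp2 hpd
    haveI := Fact.mk hp
    obtain ⟨g, hg⟩ := exists_prime_orderOf_dvd_card' (G := H) p hpd
    have hgo : (orderOf g).Coprime 2 := by rw [hg]; exact (Nat.coprime_primes hp Nat.prime_two).mpr hp2
    have hgc : g ∉ centralizer (Q : Set H) := fun h => by
      obtain ⟨k, hk⟩ := (Components.isPGroup_pCore 2 : IsPGroup 2 ↥Q) ⟨g, hcent g h⟩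
      have hd : orderOf g ∣ 2 ^ k := orderOf_dvd_of_pow_eq_one (congrArg Subtype.val hk)
      rw [hg] at hd
      exact hp2 ((Nat.prime_dvd_prime_iff_eq hp Nat.prime_two).mp (hp.dvd_of_dvd_pow hd))
    have hgN : g ∈ normalizer (Q : Set H) := Components.le_normalizer_of_normal (A := Q) ⊤ (mem_top g)
    obtain ⟨n₀, ⟨e⟩⟩ : ∃ n : ℕ, Nonempty (↥Q ≃* QuaternionGroup (2 ^ n)) := by
      have hcq := S0016.result 2 (Components.isPGroup_pCore 2 : IsPGroup 2 ↥Q) fun A B hA hB => by
        obtain ⟨a, ha⟩ := exists_prime_orderOf_dvd_card' (G := A) 2 (by rw [hA])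
        refine S1307.eq_of_card_two (z := z) (fun v hv hv2 => ?_) hA hB
        exact (hH.invol_pCore hv (H39.mul_self_of_orderOf_eq_two hv2)).resolve_left
          (H39.ne_one_of_orderOf_eq_two hv2)
      rcases hcq with hc | ⟨-, hq⟩
      · haveI := hc
        exact absurd (H39.mem_centralizer_of_odd_aut
          (fun φ hφ => H63.GW.aut_cyclic_eq_one (Components.isPGroup_pCore 2) φ hφ) hgN hgo) hgc
      · exact hq
    let φ : MulAut ↥Q := Q.normalizerMonoidHom ⟨g, hgN⟩
    let Φ : MulAut ↥Q →* MulAut (QuaternionGroup (2 ^ n₀)) := (MulAut.congr e).toMonoidHom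
    have hφp : φ ^ p = 1 := by
      rw [← map_pow, show (⟨g, hgN⟩ : ↥(normalizer (Q : Set H))) ^ p = 1 from
        Subtype.ext (hg ▸ pow_orderOf_eq_one g : g ^ p = 1), map_one]
    have hφ1 : φ ≠ 1 := fun h => hgc (mem_centralizer_iff.mpr fun q hq => by
      have := congrArg Subtype.val (DFunLike.congr_fun h ⟨q, hq⟩)
      exact (mul_inv_eq_iff_eq_mul.mp this).symm)
    have hΦo : orderOf (Φ φ) = p := by
      rw [orderOf_injective Φ (MulAut.congr e).injective]
      exact orderOf_eq_prime hφp hφ1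
    obtain ⟨-, h3, -⟩ := H33.QuatAut.quaternion_aut (Φ φ) (by rw [hΦo]; exact hp.odd_of_ne_two hp2)
      (fun h => hφ1 ((MulAut.congr e).injective (h.trans (map_one _).symm)))
    have := orderOf_dvd_of_pow_eq_one h3
    rw [hΦo] at this
    exact (Nat.prime_dvd_prime_iff_eq hp Nat.prime_three).mp this
  have hcard : ∃ a b, Nat.card H = 2 ^ a * 3 ^ b := by
    refine ⟨(Nat.card H).factorization 2, (Nat.card H).factorization 3, ?_⟩
    have hpos : Nat.card H ≠ 0 := Nat.card_pos.ne'
    refine Nat.eq_of_factorization_eq hpos (by positivity) fun p => ?_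
    rw [Nat.factorization_mul (by positivity) (by positivity), Finsupp.add_apply,
      Nat.Prime.factorization_pow Nat.prime_two, Nat.Prime.factorization_pow Nat.prime_three]
    by_cases hp : p.Prime
    · by_cases h2 : p = 2
      · subst h2; simp
      by_cases h3 : p = 3
      · subst h3; simp
      rw [Finsupp.single_eq_of_ne h2, Finsupp.single_eq_of_ne h3, add_zero]
      exact Nat.factorization_eq_zero_of_not_dvd fun hd => h3 (hodd p hp h2 hd)
    · have h2 : p ≠ 2 := fun h => hp (h ▸ Nat.prime_two)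
      have h3 : p ≠ 3 := fun h => hp (h ▸ Nat.prime_three)
      rw [Finsupp.single_eq_of_ne h2, Finsupp.single_eq_of_ne h3, add_zero]
      exact Nat.factorization_eq_zero_of_not_prime _ hp
  obtain ⟨a, b, hab⟩ := hcard
  exact hns (S0144.burnside 2 3 Nat.prime_two Nat.prime_three (Nat.card H) H le_rfl a b hab)

end Cfsg.Agent.H30.RankInt
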