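import Cfsg.Agent.H14.Asch.TwoGroup

/-!
# Groups built on a cyclic subgroup inverted up to its involution
-/

set_option autoImplicit false
set_option linter.style.haveILetI false
set_option linter.unusedSectionVars false

namespace Cfsg.Agent.H30.RankInt

open Subgroup

variable {R : Type*} [Group R]

/-- `a` generates a cyclic subgroup through `z` which all other elements invert up to `z`. -/
def Twisted (a z : R) : Prop :=
  z ∈ zpowers a ∧ ∀ y ∉ zpowers a,
    (y * a * y⁻¹ = a⁻¹ ∨ y * a * y⁻¹ = a⁻¹ * z) ∧ ∀ x ∉ zpowers a, y * x ∈ zpowers a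

variable {a z : R}

theorem Twisted.conj_eq (h : Twisted a z) (hzc : ∀ s : R, Commute z s) (hz2 : orderOf z = 2) {y : R}
    (hy : y ∉ zpowers a) {x : R} (hx : x ∈ zpowers a) :
    y * x * y⁻¹ = x⁻¹ ∨ y * x * y⁻¹ = x⁻¹ * z := by
  obtain ⟨i, rfl⟩ := mem_zpowers_iff.mp hx
  rw [← conj_zpow]
  rcases (h.2 y hy).1 with e | e
  · exact Or.inl (by rw [e, inv_zpow])
  · rw [e, (hzc a⁻¹).symm.mul_zpow]
    rcases Int.even_or_odd i with he | ho
    · exact Or.inl (by rw [H14.Asch.zpow_even_of_orderOf_two hz2 he, mul_one, inv_zpow])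
    · exact Or.inr (by rw [H14.Asch.zpow_odd_of_orderOf_two hz2 ho, inv_zpow])

/-- An element of the cyclic part which is moved by `z` has square `1` or `z`. -/
theorem Twisted.sq_of_moved (h : Twisted a z) (hzc : ∀ s : R, Commute z s) (hz2 : orderOf z = 2) {x y : R}
    (hx : x ∈ zpowers a) (hyx : y * x * y⁻¹ = x * z) : x * x = 1 ∨ x * x = z := by
  have hz1 := H39.ne_one_of_orderOf_eq_two hz2
  have hzz := H39.mul_self_of_orderOf_eq_two hz2
  have hy : y ∉ zpowers a := by
    intro hy
    obtain ⟨i, rfl⟩ := mem_zpowers_iff.mp hy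
    obtain ⟨j, rfl⟩ := mem_zpowers_iff.mp hx
    rw [(Commute.zpow_zpow_self a i j).eq, mul_inv_cancel_right] at hyx
    exact hz1 (mul_eq_left.mp hyx.symm)
  rcases h.conj_eq hzc hz2 hy hx with e | e
  · rw [hyx] at e
    right
    have h1 : x * (x * z) = 1 := by rw [e, mul_inv_cancel]
    rw [← mul_assoc] at h1
    rw [eq_inv_of_mul_eq_one_left h1, inv_eq_of_mul_eq_one_right hzz]
  · rw [hyx] at e
    left
    have h1 : x = x⁻¹ := mul_right_cancel e
    calc x * x = x * x⁻¹ := by rw [← h1]
      _ = 1 := mul_inv_cancel x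

/-- In a non-abelian such group the elements outside the cyclic part square to `1` or `z`. -/
theorem Twisted.sq_of_notMem [Finite R] (hR : IsPGroup 2 R) (h : Twisted a z) (hzc : ∀ s : R, Commute z s) (hz2 : orderOf z = 2)
    (hna : ∃ p q : R, ¬ Commute p q) {y : R} (hy : y ∉ zpowers a) : y * y = 1 ∨ y * y = z := by
  have hzz := H39.mul_self_of_orderOf_eq_two hz2
  have hw : y * y ∈ zpowers a := (h.2 y hy).2 y hy
  have hfix : y * (y * y) * y⁻¹ = y * y := by group
  rcases h.conj_eq hzc hz2 hy hw with e | e <;> rw [hfix] at e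
  · have hsq : (y * y) ^ 2 = 1 := by rw [pow_two]; nth_rw 2 [e]; exact mul_inv_cancel _
    by_cases h1 : y * y = 1
    · exact Or.inl h1
    · right
      exact PGroups.eq_of_sq_eq_one inferInstance hw h.1 hsq (by rw [pow_two, hzz]) h1
        (H39.ne_one_of_orderOf_eq_two hz2)
  · exfalso
    have hww : y * y * (y * y) = z := by nth_rw 2 [e]; rw [mul_inv_cancel_left]
    obtain ⟨j, hj⟩ := mem_zpowers_iff.mp hw
    have hya : y * a ^ j * y⁻¹ = a ^ j := by rw [hj]; exact hfix
    obtain ⟨p, q, hpq⟩ := hna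
    refine hpq ?_
    -- `y` commutes with `a`, so everything commutes
    suffices hcomm : Commute y a by
      have hall : ∀ g : R, Commute g a := fun g => by
        by_cases hg : g ∈ zpowers a
        · obtain ⟨i, rfl⟩ := mem_zpowers_iff.mp hg
          exact (Commute.refl a).zpow_left i
        · obtain ⟨i, hi⟩ := mem_zpowers_iff.mp ((h.2 y hy).2 g hg)
          have : g = y⁻¹ * a ^ i := by rw [hi, inv_mul_cancel_left]
          rw [this]
          exact hcomm.inv_left.mul_left ((Commute.refl a).zpow_left i)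
      have hform : ∀ g : R, ∃ i : ℤ, g = a ^ i ∨ g = y⁻¹ * a ^ i := fun g => by
        by_cases hg : g ∈ zpowers a
        · obtain ⟨i, rfl⟩ := mem_zpowers_iff.mp hg
          exact ⟨i, Or.inl rfl⟩
        · obtain ⟨i, hi⟩ := mem_zpowers_iff.mp ((h.2 y hy).2 g hg)
          exact ⟨i, Or.inr (by rw [hi, inv_mul_cancel_left])⟩
      have hyq : ∀ g : R, Commute y⁻¹ g := fun g => by
        obtain ⟨i, rfl | rfl⟩ := hform g
        · exact (hcomm.zpow_right i).inv_left
        · exact (Commute.refl y⁻¹).mul_right (hcomm.zpow_right i).inv_left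
      obtain ⟨i, rfl | rfl⟩ := hform p
      · exact ((hall q).symm).zpow_left i
      · exact (hyq q).mul_left (((hall q).symm).zpow_left i)
    rcases (h.2 y hy).1 with e1 | e1
    · exfalso
      rw [← conj_zpow, e1, inv_zpow] at hya
      have : y * y * (y * y) = 1 := by
        rw [← hj]; nth_rw 1 [← hya]; exact inv_mul_cancel _
      rw [hww] at this
      exact H39.ne_one_of_orderOf_eq_two hz2 this
    · rcases Int.even_or_odd j with he | ho
      · exfalso
        rw [← conj_zpow, e1, (hzc a⁻¹).symm.mul_zpow, H14.Asch.zpow_even_of_orderOf_two hz2 he, mul_one,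
          inv_zpow] at hya
        have : y * y * (y * y) = 1 := by
          rw [← hj]; nth_rw 1 [← hya]; exact inv_mul_cancel _
        rw [hww] at this
        exact H39.ne_one_of_orderOf_eq_two hz2 this
      · -- `y * y` is a generator of the cyclic part
        have hgen : a ∈ zpowers (a ^ j) := by
          obtain ⟨m, rfl⟩ := ho
          have h4 : (a ^ (4 : ℤ)) ^ (2 * m + 1) = 1 := by
            rw [← zpow_mul, mul_comm, zpow_mul, hj, show (4 : ℤ) = 2 + 2 by norm_num, zpow_add, zpow_two,
              hww, hzz]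
          have ha4 : a ^ (4 : ℤ) = 1 := H14.Asch.eq_one_of_odd_zpow hR (odd_two_mul_add_one m) h4
          refine mem_zpowers_iff.mpr ⟨2 * m + 1, ?_⟩
          rw [← zpow_mul, show (2 * m + 1) * (2 * m + 1) = 4 * (m * m + m) + 1 by ring, zpow_add_one, zpow_mul,
            ha4, one_zpow, one_mul]
        obtain ⟨m, hm⟩ := mem_zpowers_iff.mp hgen
        show y * a = a * y
        have : y * (a ^ j) ^ m * y⁻¹ = (a ^ j) ^ m := by rw [← conj_zpow, hya]
        rw [hm] at this
        exact mul_inv_eq_iff_eq_mul.mp this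

end Cfsg.Agent.H30.RankInt
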