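import Cfsg.Agent.H30.RankInt.Basic
import Cfsg.Agent.H30.RankInt.CyclicTwist
import Cfsg.Agent.H25.InvolutionTransfer
import Cfsg.Agent.H91.CI.Cover
import Cfsg.Agent.H91.CI.Comp

/-!
# Perfect central extensions with intersections of rank one: the layer of central involutions modulo the centre
-/

set_option autoImplicit false
set_option linter.style.haveILetI false
set_option linter.unusedSectionVars false

namespace Cfsg.Agent.H30.RankInt

open Subgroup
open scoped Pointwise

universe u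

local instance factTwoC : Fact (Nat.Prime 2) := ⟨Nat.prime_two⟩

variable {K : Type u} [Group K] [Finite K]

/-- A perfect central extension of a simple group by a cyclic 2-group with involution `z`. -/
structure CoverData (K : Type u) [Group K] (P : Sylow 2 K) (z : K) : Prop where
  ri : RankInt K
  perfect : Group.IsPerfect K
  z2 : orderOf z = 2
  zc : z ∈ center K
  cen2 : IsPGroup 2 (center K)
  cenu : ∀ c ∈ center K, c * c = 1 → c = 1 ∨ c = z
  simple : IsSimpleGroup (K ⧸ center K)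
  nab : ¬ IsMulCommutative (K ⧸ center K)
  rank : ∃ u ∈ (P : Subgroup K), orderOf u = 2 ∧ u ≠ z

variable {P : Sylow 2 K} {z : K} (hK : CoverData K P z)
include hK

theorem CoverData.comm (g : K) : Commute z g := (mem_center_iff.mp hK.zc g).symm

theorem CoverData.center_le : center K ≤ (P : Subgroup K) := fun c hc => by
  obtain ⟨k, hk⟩ := hK.cen2 ⟨c, hc⟩
  have hp : IsPGroup 2 ↥(zpowers c) := H91.CI.isPGroup_zpowers (congrArg Subtype.val hk : c ^ 2 ^ k = 1)
  exact H91.CI.mem_of_mem_normalizer P hp (zpowers_le.mpr (centralizer_le_normalizer _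
    (mem_centralizer_iff.mpr fun t _ => mem_center_iff.mp hc t))) (mem_zpowers c)

theorem CoverData.z_mem : z ∈ (P : Subgroup K) := hK.center_le hK.zc

theorem CoverData.zz : z * z = 1 := H39.mul_self_of_orderOf_eq_two hK.z2

/-- A homomorphism-free transfer criterion: an involution outside a subgroup of index two of `P` is conjugate
into it. -/
theorem CoverData.exists_conj_mem (Q : Subgroup K) (hQP : Q ≤ (P : Subgroup K))
    (hprod : ∀ x ∈ (P : Subgroup K), x ∉ Q → ∀ y ∈ (P : Subgroup K), y ∉ Q → x * y ∈ Q) {u : K}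
    (hu2 : orderOf u = 2) (huP : u ∈ (P : Subgroup K)) (huQ : u ∉ Q) : ∃ g : K, g * u * g⁻¹ ∈ Q := by
  haveI := hK.perfect
  have hrel : Q.relIndex (P : Subgroup K) = 2 := by
    rw [Subgroup.relIndex, Subgroup.index_eq_two_iff]
    refine ⟨⟨u, huP⟩, fun b => ?_⟩
    by_cases hb : (b : K) ∈ Q
    · refine Or.inr ⟨hb, fun h => huQ ?_⟩
      have := mul_mem (inv_mem hb) (show (b : K) * u ∈ Q from h)
      rwa [inv_mul_cancel_left] at this
    · exact Or.inl ⟨hprod b b.2 hb u huP huQ, hb⟩
  refine (H25.thompson_transfer P Q hQP hrel u hu2 huP huQ).resolve_left ?_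
  rintro ⟨M, hMn, hMi, -⟩
  haveI := hMn
  have h1 : commutator K ≤ M := by
    haveI : IsMulCommutative (K ⧸ M) := by
      have hc : Nat.card (K ⧸ M) = 2 := by rw [← Subgroup.index_eq_card, hMi]
      haveI : IsCyclic (K ⧸ M) := isCyclic_of_prime_card hc
      infer_instance
    exact (Subgroup.Normal.quotient_commutative_iff_commutator_le).mp inferInstance
  rw [Group.IsPerfect.commutator_eq_top] at h1
  rw [top_le_iff.mp h1, index_top] at hMi
  omega

/-- The elements of `P` of order two modulo the centre which `P` fixes modulo the centre. -/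
def CoverData.A (_ : CoverData K P z) : Subgroup K where
  carrier := {a | a ∈ (P : Subgroup K) ∧ a * a ∈ center K ∧
    ∀ p ∈ (P : Subgroup K), p * a * p⁻¹ * a⁻¹ ∈ center K}
  one_mem' := ⟨one_mem _, by simp, fun p _ => by simp⟩
  mul_mem' := fun {a b} ha hb => by
    refine ⟨mul_mem ha.1 hb.1, ?_, fun p hp => ?_⟩
    · have h1 := hb.2.2 a ha.1
      rw [show a * b * (a * b) = a * (b * a * b⁻¹ * a⁻¹) * a * (b * b) by group]
      refine mul_mem ?_ hb.2.1
      have h2 := ha.2.2 b hb.1
      rw [mem_center_iff.mp h2 a, mul_assoc]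
      exact mul_mem h2 ha.2.1
    · have h2 := hb.2.2 p hp
      rw [show p * (a * b) * p⁻¹ * (a * b)⁻¹ = (p * a * p⁻¹) * (p * b * p⁻¹ * b⁻¹) * a⁻¹ by group,
        mem_center_iff.mp h2 (p * a * p⁻¹), mul_assoc]
      exact mul_mem h2 (ha.2.2 p hp)
  inv_mem' := fun {a} ha => by
    refine ⟨inv_mem ha.1, ?_, fun p hp => ?_⟩
    · rw [← mul_inv_rev]
      exact inv_mem ha.2.1
    · have h2 := inv_mem (ha.2.2 p hp)
      rw [show p * a⁻¹ * p⁻¹ * a⁻¹⁻¹ = a⁻¹ * (p * a * p⁻¹ * a⁻¹)⁻¹ * a by group,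
        mem_center_iff.mp h2 a⁻¹, mul_assoc, inv_mul_cancel, mul_one]
      exact h2

theorem CoverData.mem_A {a : K} : a ∈ hK.A ↔ a ∈ (P : Subgroup K) ∧ a * a ∈ center K ∧
    ∀ p ∈ (P : Subgroup K), p * a * p⁻¹ * a⁻¹ ∈ center K := Iff.rfl

theorem CoverData.A_le : hK.A ≤ (P : Subgroup K) := fun _ ha => ha.1

theorem CoverData.center_le_A : center K ≤ hK.A := fun c hc =>
  ⟨hK.center_le hc, mul_mem hc hc, fun p _ => by
    rw [mem_center_iff.mp hc p, mul_inv_cancel_right, mul_inv_cancel]; exact one_mem _⟩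

/-- Conjugation by `P` moves an element of the layer at most by `z`. -/
theorem CoverData.conj_A {a p : K} (ha : a ∈ hK.A) (hp : p ∈ (P : Subgroup K)) :
    p * a * p⁻¹ = a ∨ p * a * p⁻¹ = a * z := by
  set w := p * a * p⁻¹ * a⁻¹ with hw
  have hwc : w ∈ center K := ha.2.2 p hp
  have e : p * a * p⁻¹ = w * a := by rw [hw, inv_mul_cancel_right]
  have h1 : w * w = 1 := by
    have h2 : (p * a * p⁻¹) * (p * a * p⁻¹) = a * a := by
      rw [show (p * a * p⁻¹) * (p * a * p⁻¹) = p * (a * a) * p⁻¹ by group,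
        mem_center_iff.mp ha.2.1 p, mul_inv_cancel_right]
    rw [e, show w * a * (w * a) = w * (a * w) * a by group, mem_center_iff.mp hwc a] at h2
    rwa [show w * (w * a) * a = w * w * (a * a) by group, mul_eq_right] at h2
  rcases hK.cenu w hwc h1 with h | h
  · exact Or.inl (by rw [e, h, one_mul])
  · exact Or.inr (by rw [e, h]; exact (hK.comm a).eq)

/-- The normalizer of `P` normalizes the layer. -/
theorem CoverData.A_invariant {n : K} (hn : n ∈ normalizer ((P : Subgroup K) : Set K)) {a : K}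
    (ha : a ∈ hK.A) : n * a * n⁻¹ ∈ hK.A := by
  refine ⟨(mem_normalizer_iff.mp hn a).mp ha.1, ?_, fun p hp => ?_⟩
  · rw [show n * a * n⁻¹ * (n * a * n⁻¹) = n * (a * a) * n⁻¹ by group, mem_center_iff.mp ha.2.1 n,
      mul_inv_cancel_right]
    exact ha.2.1
  · have hp' : n⁻¹ * p * n ∈ (P : Subgroup K) := by
      have := (mem_normalizer_iff.mp (inv_mem hn) p).mp hp
      rwa [inv_inv] at this
    have h := ha.2.2 _ hp'
    rw [show p * (n * a * n⁻¹) * p⁻¹ * (n * a * n⁻¹)⁻¹ =
      n * ((n⁻¹ * p * n) * a * (n⁻¹ * p * n)⁻¹ * a⁻¹) * n⁻¹ by group, mem_center_iff.mp h n,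
      mul_inv_cancel_right]
    exact h

/-- The centre of the layer. -/
def CoverData.ZA : Subgroup K := hK.A ⊓ centralizer (hK.A : Set K)

theorem CoverData.ZA_comm {c a : K} (hc : c ∈ hK.ZA) (ha : a ∈ hK.A) : Commute c a :=
  (mem_centralizer_iff.mp hc.2 a ha).symm

theorem CoverData.center_le_ZA : center K ≤ hK.ZA :=
  le_inf hK.center_le_A fun _ hc => mem_centralizer_iff.mpr fun a _ => mem_center_iff.mp hc a

theorem CoverData.ZA_invariant {n : K} (hn : n ∈ normalizer ((P : Subgroup K) : Set K)) {c : K}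
    (hc : c ∈ hK.ZA) : n * c * n⁻¹ ∈ hK.ZA := by
  refine ⟨hK.A_invariant hn hc.1, mem_centralizer_iff.mpr fun a ha => ?_⟩
  have ha' : n⁻¹ * a * n ∈ hK.A := by simpa using hK.A_invariant (inv_mem hn) ha
  have e := (hK.ZA_comm hc ha').map (MulAut.conj n).toMonoidHom
  simp only [MulEquiv.toMonoidHom_eq_coe, MonoidHom.coe_coe, MulAut.conj_apply] at e
  rw [show n * (n⁻¹ * a * n) * n⁻¹ = a by group] at e
  exact e.eq.symm

end Cfsg.Agent.H30.RankInt
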