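import Cfsg.Agent.H30.RankInt.CoverBase
import Cfsg.Agent.H91.CI.Global

/-!
# A central involution of the layer gives a strongly closed subgroup of the quotient
-/

set_option autoImplicit false
set_option linter.style.haveILetI false
set_option linter.unusedSectionVars false

namespace Cfsg.Agent.H30.RankInt

open Subgroup
open scoped Pointwise

universe u

local instance factTwoCC : Fact (Nat.Prime 2) := ⟨Nat.prime_two⟩

variable {K : Type u} [Group K] [Finite K] {P : Sylow 2 K} {z : K} (hK : CoverData K P z)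
include hK

theorem CoverData.mem_of_image {x : K} (hx : QuotientGroup.mk' (center K) x ∈
    (P : Subgroup K).map (QuotientGroup.mk' (center K))) : x ∈ (P : Subgroup K) := by
  obtain ⟨p, hp, e⟩ := hx
  have h1 : p⁻¹ * x ∈ center K := QuotientGroup.eq.mp e
  have := mul_mem hp (hK.center_le h1)
  rwa [mul_inv_cancel_left] at this

/-- A central involution of the layer other than `z` gives a strongly embedded subgroup. -/
theorem CoverData.se_of_central (hEmb : H91.CI.EmbCriterion.{u}) {w : K} (hw : w ∈ hK.ZA)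
    (hw2 : w * w = 1) (hw1 : w ≠ 1) (hwz : w ≠ z) :
    ∃ H : Subgroup (K ⧸ center K), Cfsg.IsStronglyEmbedded H := by
  classical
  haveI := hK.simple
  set π := QuotientGroup.mk' (center K) with hπ
  have hsurj : Function.Surjective π := QuotientGroup.mk'_surjective _
  let W : Subgroup K :=
    { carrier := {v | v ∈ hK.ZA ∧ v * v = 1}
      one_mem' := ⟨one_mem _, one_mul 1⟩
      mul_mem' := fun {a b} ha hb => ⟨mul_mem ha.1 hb.1, by
        rw [show a * b * (a * b) = a * (b * a) * b by group, (hK.ZA_comm hb.1 ha.1.1).eq,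
          show a * (a * b) * b = a * a * (b * b) by group, ha.2, hb.2, one_mul]⟩
      inv_mem' := fun {a} ha => ⟨inv_mem ha.1, by rw [← mul_inv_rev, ha.2, inv_one]⟩ }
  have hWinv : ∀ n ∈ normalizer ((P : Subgroup K) : Set K), ∀ v ∈ W, n * v * n⁻¹ ∈ W := fun n hn v hv =>
    ⟨hK.ZA_invariant hn hv.1, by
      rw [show n * v * n⁻¹ * (n * v * n⁻¹) = n * (v * v) * n⁻¹ by group, hv.2, mul_one, mul_inv_cancel]⟩
  have hWP : W ≤ (P : Subgroup K) := fun v hv => hv.1.1.1
  have hWz : ∀ v ∈ W, π v ≠ 1 → orderOf v = 2 ∧ v ≠ z := fun v hv hne => by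
    refine ⟨H39.orderOf_eq_two_of_mul_self hv.2 (fun e => hne (by rw [e, map_one])), fun e => hne ?_⟩
    rw [e]; exact (QuotientGroup.eq_one_iff z).mpr hK.zc
  -- conjugates into `P` come from the normalizer
  have hnorm : ∀ v ∈ W, π v ≠ 1 → ∀ k : K, k * v * k⁻¹ ∈ (P : Subgroup K) →
      k ∈ normalizer ((P : Subgroup K) : Set K) := fun v hv hne k hk => by
    obtain ⟨h2, hz⟩ := hWz v hv hne
    exact mem_normalizer_of_conj hK.ri P h2 hK.z2 (hK.comm v).symm hz (hWP hv) hK.z_mem hk
      (by rw [← (hK.comm k).eq, mul_inv_cancel_right]; exact hK.z_mem)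
  set Q : Sylow 2 (K ⧸ center K) := P.mapSurjective hsurj with hQ
  have hQcoe : (Q : Subgroup (K ⧸ center K)) = (P : Subgroup K).map π := Sylow.coe_mapSurjective hsurj P
  refine hEmb (K ⧸ center K) hK.simple Q (W.map π) ?_ ⟨hQcoe ▸ map_mono hWP, ?_⟩ ?_
  · intro e
    have h1 : π w ∈ W.map π := ⟨w, ⟨hw, hw2⟩, rfl⟩
    rw [e, mem_bot] at h1
    rcases hK.cenu w ((QuotientGroup.eq_one_iff w).mp h1) hw2 with h | h
    · exact hw1 h
    · exact hwz h
  · rintro _ ⟨v, hv, rfl⟩ g hg
    by_cases hne : π v = 1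
    · rw [hne, mul_one, mul_inv_cancel]
      exact one_mem _
    obtain ⟨k, rfl⟩ := hsurj g
    rw [← map_inv, ← map_mul, ← map_mul] at hg ⊢
    exact ⟨k * v * k⁻¹, hWinv k (hnorm v hv hne k (hK.mem_of_image (hQcoe ▸ hg))) v hv, rfl⟩
  · -- the centralizers lie in the image of the normalizer
    have hle : (⨆ t : {t : K ⧸ center K // t ∈ W.map π ∧ orderOf t = 2},
        centralizer ({(t : K ⧸ center K)} : Set (K ⧸ center K))) ≤
        (normalizer ((P : Subgroup K) : Set K)).map π := by
      refine iSup_le ?_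
      rintro ⟨_, ⟨v, hv, rfl⟩, hv2⟩ g hg
      obtain ⟨k, rfl⟩ := hsurj g
      have hne : π v ≠ 1 := fun e => by simp [e] at hv2
      refine ⟨k, hnorm v hv hne k (hK.mem_of_image ⟨v, hWP hv, ?_⟩), rfl⟩
      show π v = π (k * v * k⁻¹)
      rw [map_mul, map_mul, map_inv, mem_centralizer_singleton_iff.mp hg, mul_inv_cancel_right]
    refine ne_top_of_le_ne_top ?_ hle
    intro e
    have h1 : normalizer ((P : Subgroup K) : Set K) = ⊤ := by
      rw [eq_top_iff]
      intro k _
      obtain ⟨n, hn, en⟩ : π k ∈ (normalizer ((P : Subgroup K) : Set K)).map π := e ▸ mem_top _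
      have h2 : n⁻¹ * k ∈ center K := QuotientGroup.eq.mp en
      have := mul_mem hn (le_normalizer (hK.center_le h2))
      rwa [mul_inv_cancel_left] at this
    haveI := normalizer_eq_top_iff.mp h1
    haveI : (Q : Subgroup (K ⧸ center K)).Normal := hQcoe ▸ Subgroup.Normal.map inferInstance π hsurj
    have hP1 : π w ∈ (Q : Subgroup (K ⧸ center K)) := hQcoe ▸ ⟨w, hWP ⟨hw, hw2⟩, rfl⟩
    rcases (inferInstance : (Q : Subgroup (K ⧸ center K)).Normal).eq_bot_or_eq_top with hb | ht
    · rw [hb, mem_bot] at hP1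
      rcases hK.cenu w ((QuotientGroup.eq_one_iff w).mp hP1) hw2 with h | h
      · exact hw1 h
      · exact hwz h
    · haveI : Group.IsNilpotent (K ⧸ center K) := by
        have hp : IsPGroup 2 (⊤ : Subgroup (K ⧸ center K)) := ht ▸ Q.isPGroup'
        exact (hp.of_equiv topEquiv).isNilpotent
      exact hK.nab ⟨⟨fun a b => IsSimpleGroup.comm_iff_isSolvable.mpr inferInstance a b⟩⟩

end Cfsg.Agent.H30.RankInt
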