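import Cfsg.Agent.H30.RankInt.CoverUnique
import Cfsg.Agent.H30.RankInt.CoverClosed

/-!
# Perfect central extensions with intersections of rank one have strongly embedded quotients
-/

set_option autoImplicit false
set_option linter.style.haveILetI false
set_option linter.unusedSectionVars false

namespace Cfsg.Agent.H30.RankInt

open Subgroup
open scoped Pointwise commutatorElement

universe u

local instance factTwoF : Fact (Nat.Prime 2) := ⟨Nat.prime_two⟩

variable {K : Type u} [Group K] [Finite K] {P : Sylow 2 K} {z : K} (hK : CoverData K P z)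
include hK

omit [Finite K] in
theorem CoverData.sign_comm {x y : K} (h : x * y * x⁻¹ = y ∨ x * y * x⁻¹ = y * z) :
    ∃ e ∈ ({1, z} : Set K), x * y = y * x * e := by
  rcases h with h | h
  · exact ⟨1, by simp, by rw [mul_one]; exact mul_inv_eq_iff_eq_mul.mp h⟩
  · refine ⟨z, by simp, ?_⟩
    rw [mul_assoc, (mem_center_iff.mp hK.zc x), ← mul_assoc]
    exact mul_inv_eq_iff_eq_mul.mp h

/-- Commutators of `P` are `1` or `z`. -/
theorem CoverData.comm_or (hu : hK.Uniq) :
    ∀ x ∈ (P : Subgroup K), ∀ y ∈ (P : Subgroup K), x * y * x⁻¹ = y ∨ x * y * x⁻¹ = y * z := by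
  set C := (P : Subgroup K) ⊓ centralizer (hK.A : Set K) with hC
  have hzC : z ∈ C := ⟨hK.z_mem, mem_centralizer_iff.mpr fun b _ => (hK.comm b).eq.symm⟩
  have hdec : ∀ p ∈ (P : Subgroup K), ∃ a ∈ hK.A, p * a ∈ C := by
    intro p hp
    obtain ⟨a, ha, h⟩ := hK.exists_reduce hK.A le_rfl hp fun b hb hc =>
      hK.commute_ZA hu hp ⟨hb, mem_centralizer_iff.mpr fun d hd => (hc d hd).eq.symm⟩
    exact ⟨a, ha, mul_mem hp (hK.A_le ha), mem_centralizer_iff.mpr fun b hb => (h b hb).eq.symm⟩
  have hAC : ∀ a ∈ hK.A, ∀ q ∈ C, Commute a q := fun a ha q hq => mem_centralizer_iff.mp hq.2 a ha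
  -- commutators inside `C`
  have hCC : ∀ x ∈ C, ∀ y ∈ C, x * y * x⁻¹ = y ∨ x * y * x⁻¹ = y * z := by
    rcases hK.four_or_twisted C inf_le_left hzC with ⟨t, htC, ht2, ht1, htz, ht⟩ | ⟨a₀, ha₀⟩
    · exfalso
      have htA := hK.mem_A_of_fixed htC.1 ht2 fun p hp => by
        obtain ⟨a, ha, hpa⟩ := hdec p hp
        have := ht _ hpa
        rwa [show p * a * t * (p * a)⁻¹ = p * (a * t * a⁻¹) * p⁻¹ by group, (hAC a ha t htC).eq,
          mul_inv_cancel_right] at this
      rcases hu t ⟨htA, htC.2⟩ ht2 with h | h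
      · exact ht1 h
      · exact htz h
    · set Z₀ : ↥C := ⟨z, hzC⟩ with hZ₀
      have hzc' : ∀ s : ↥C, Commute Z₀ s := fun s => Subtype.ext (hK.comm s).eq
      have hz2' : orderOf Z₀ = 2 := by rw [← Subgroup.orderOf_coe]; exact hK.z2
      intro x hx y hy
      by_cases hna : ∃ p q : ↥C, ¬ Commute p q
      swap
      · push Not at hna
        refine Or.inl ?_
        have e : x * y = y * x := congrArg Subtype.val (hna ⟨x, hx⟩ ⟨y, hy⟩).eq
        rw [e, mul_inv_cancel_right]
      -- the generator has order at most four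
      have hsq4 : a₀ ^ (4 : ℤ) = 1 := by
        obtain ⟨k, hk⟩ := IsPGroup.iff_orderOf.mp (P.isPGroup'.to_le (inf_le_left : C ≤ _)) a₀
        by_cases hk2 : k ≤ 2
        · refine orderOf_dvd_iff_zpow_eq_one.mp ?_
          rw [hk]
          exact_mod_cast pow_dvd_pow 2 hk2
        exfalso
        set g := a₀ ^ 2 ^ (k - 2) with hg
        have hg4 : orderOf g = 4 := by
          rw [hg, orderOf_pow' _ (pow_ne_zero _ two_ne_zero), hk, Nat.gcd_eq_right (pow_dvd_pow 2 (by omega)),
            Nat.pow_div (by omega) two_pos, show k - (k - 2) = 2 by omega]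
          rfl
        have hgm : g ∈ zpowers a₀ := pow_mem (mem_zpowers a₀) _
        have hgg : g * g = Z₀ := by
          refine PGroups.eq_of_sq_eq_one inferInstance (mul_mem hgm hgm) ha₀.1 ?_ ?_ ?_ ?_
          · rw [pow_two, show g * g * (g * g) = g ^ 4 by simp [pow_succ, mul_assoc], ← hg4, pow_orderOf_eq_one]
          · rw [pow_two]; exact H39.mul_self_of_orderOf_eq_two hz2'
          · intro e
            have := orderOf_dvd_of_pow_eq_one (show g ^ 2 = 1 by rw [pow_two]; exact e)
            rw [hg4] at this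
            exact absurd (Nat.le_of_dvd two_pos this) (by norm_num)
          · exact H39.ne_one_of_orderOf_eq_two hz2'
        obtain ⟨j, hj⟩ : Even (2 ^ (k - 2)) := Nat.even_pow.mpr ⟨even_two, by omega⟩
        have hconj : ∀ w : ↥C, w ∉ zpowers a₀ → w * g * w⁻¹ = g * Z₀ := by
          intro w hw
          have e1 : w * g * w⁻¹ = g⁻¹ := by
            rw [hg, ← conj_pow]
            rcases (ha₀.2 w hw).1 with e | e
            · rw [e, inv_pow]
            · rw [e, (hzc' a₀⁻¹).symm.mul_pow, inv_pow]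
              have : Z₀ ^ 2 ^ (k - 2) = 1 := by
                rw [hj, pow_add, ← (Commute.refl Z₀).mul_pow, H39.mul_self_of_orderOf_eq_two hz2', one_pow]
              rw [this, mul_one]
          rw [e1]
          refine inv_eq_of_mul_eq_one_right ?_
          rw [← mul_assoc, hgg, H39.mul_self_of_orderOf_eq_two hz2']
        have hfix : ∀ w : ↥C, w * g * w⁻¹ = g ∨ w * g * w⁻¹ = g * Z₀ := fun w => by
          by_cases hw : w ∈ zpowers a₀
          · obtain ⟨i, rfl⟩ := mem_zpowers_iff.mp hw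
            exact Or.inl (by rw [hg, ((Commute.refl a₀).zpow_left i |>.pow_right _).eq, mul_inv_cancel_right])
          · exact Or.inr (hconj w hw)
        have hgA : (g : K) ∈ hK.A := by
          refine ⟨g.2.1, ?_, fun p hp => ?_⟩
          · rw [show (g : K) * g = z from congrArg Subtype.val hgg]; exact hK.zc
          · obtain ⟨a, ha, hpa⟩ := hdec p hp
            have hcase : p * a * (g : K) * (p * a)⁻¹ = g ∨ p * a * (g : K) * (p * a)⁻¹ = g * z :=
              (hfix ⟨p * a, hpa⟩).imp (fun e => congrArg Subtype.val e) fun e => congrArg Subtype.val e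
            rw [show p * a * (g : K) * (p * a)⁻¹ = p * (a * g * a⁻¹) * p⁻¹ by group, (hAC a ha g g.2).eq,
              mul_inv_cancel_right] at hcase
            rcases hcase with e | e <;> rw [e]
            · rw [mul_inv_cancel]; exact one_mem _
            · rw [mul_assoc, (hK.comm _).eq, mul_inv_cancel_left]; exact hK.zc
        obtain ⟨w, hw⟩ : ∃ w : ↥C, w ∉ zpowers a₀ := by
          by_contra hall
          push Not at hall
          obtain ⟨p, q, hpq⟩ := hna
          exact hpq (H39.commute_of_mem_zpowers ((H39.commute_of_mem_zpowers (Commute.refl a₀) (hall q)).symm)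
            (hall p)).symm
        have hcom : Commute (w : K) (g : K) := hK.commute_ZA hu w.2.1 ⟨hgA, g.2.2⟩
        refine hK.not_commute_of_moved (a := (g : K)) (p := (w : K)) ?_ hcom
        exact congrArg Subtype.val (hconj w hw)
      have ha2 : a₀ * a₀ = 1 ∨ a₀ * a₀ = Z₀ := by
        by_cases h1 : a₀ * a₀ = 1
        · exact Or.inl h1
        · refine Or.inr (PGroups.eq_of_sq_eq_one inferInstance (mul_mem (mem_zpowers a₀) (mem_zpowers a₀)) ha₀.1 ?_
            ?_ h1 (H39.ne_one_of_orderOf_eq_two hz2'))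
          · rw [pow_two, ← hsq4]; simp [zpow_ofNat, pow_succ, mul_assoc]
          · rw [pow_two]; exact H39.mul_self_of_orderOf_eq_two hz2'
      have hgen : ∀ w : ↥C, w * a₀ * w⁻¹ = a₀ ∨ w * a₀ * w⁻¹ = a₀ * Z₀ := fun w => by
        by_cases hw : w ∈ zpowers a₀
        · obtain ⟨i, rfl⟩ := mem_zpowers_iff.mp hw
          exact Or.inl (by rw [((Commute.refl a₀).zpow_left i).eq, mul_inv_cancel_right])
        · have hinv : a₀⁻¹ = a₀ ∨ a₀⁻¹ = a₀ * Z₀ := by
            rcases ha2 with e | e
            · exact Or.inl (inv_eq_of_mul_eq_one_right e)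
            · exact Or.inr (inv_eq_of_mul_eq_one_right (by
                rw [← mul_assoc, e, H39.mul_self_of_orderOf_eq_two hz2']))
          rcases (ha₀.2 w hw).1 with e | e <;> rw [e]
          · exact hinv
          · rcases hinv with e' | e' <;> rw [e']
            · exact Or.inr rfl
            · exact Or.inl (by rw [mul_assoc, H39.mul_self_of_orderOf_eq_two hz2', mul_one])
      -- an element moved only by `z` by the generator and by a representative
      have hall : ∀ v w : ↥C, w * v * w⁻¹ = v ∨ w * v * w⁻¹ = v * Z₀ := by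
        have hpow : ∀ (i : ℤ) (w : ↥C), w * a₀ ^ i * w⁻¹ = a₀ ^ i ∨ w * a₀ ^ i * w⁻¹ = a₀ ^ i * Z₀ := by
          intro i w
          rw [← conj_zpow]
          rcases hgen w with e | e
          · exact Or.inl (by rw [e])
          · rw [e, (hzc' a₀).symm.mul_zpow]
            rcases Int.even_or_odd i with he | ho
            · exact Or.inl (by rw [H14.Asch.zpow_even_of_orderOf_two hz2' he, mul_one])
            · exact Or.inr (by rw [H14.Asch.zpow_odd_of_orderOf_two hz2' ho])
        intro v w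
        by_cases hv : v ∈ zpowers a₀
        · obtain ⟨i, rfl⟩ := mem_zpowers_iff.mp hv
          exact hpow i w
        by_cases hw : w ∈ zpowers a₀
        · obtain ⟨i, rfl⟩ := mem_zpowers_iff.mp hw
          rcases hpow i v with e | e
          · refine Or.inl ?_
            rw [(mul_inv_eq_iff_eq_mul.mp e).symm, mul_inv_cancel_right]
          · refine Or.inr ?_
            have e' : v * a₀ ^ i = a₀ ^ i * Z₀ * v := mul_inv_eq_iff_eq_mul.mp e
            calc a₀ ^ i * v * (a₀ ^ i)⁻¹ = a₀ ^ i * Z₀ * v * Z₀ * (a₀ ^ i)⁻¹ := by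
                  rw [mul_assoc (a₀ ^ i) Z₀ v, (hzc' v).eq, ← mul_assoc (a₀ ^ i), mul_assoc (a₀ ^ i * v),
                    H39.mul_self_of_orderOf_eq_two hz2', mul_one]
              _ = v * a₀ ^ i * ((a₀ ^ i)⁻¹ * Z₀) := by
                  rw [← e', mul_assoc, mul_assoc, mul_assoc, (hzc' (a₀ ^ i)⁻¹).eq]
              _ = v * Z₀ := by group
        · -- both outside: their product is a power of the generator
          obtain ⟨i, hi⟩ := mem_zpowers_iff.mp ((ha₀.2 w hw).2 v hv)
          have hv' : v = w⁻¹ * a₀ ^ i := by rw [hi, inv_mul_cancel_left]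
          rw [hv']
          rcases hpow i w with e | e
          · refine Or.inl ?_
            calc w * (w⁻¹ * a₀ ^ i) * w⁻¹ = w⁻¹ * (w * a₀ ^ i * w⁻¹) * (w * w⁻¹) := by group
              _ = w⁻¹ * a₀ ^ i := by rw [e]; group
          · refine Or.inr ?_
            calc w * (w⁻¹ * a₀ ^ i) * w⁻¹ = w⁻¹ * (w * a₀ ^ i * w⁻¹) * (w * w⁻¹) := by group
              _ = w⁻¹ * a₀ ^ i * Z₀ := by rw [e]; group
      exact (hall ⟨y, hy⟩ ⟨x, hx⟩).imp (fun e => congrArg Subtype.val e) fun e => congrArg Subtype.val e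
  -- assemble
  have hflip : ∀ u w : K, (u * w * u⁻¹ = w ∨ u * w * u⁻¹ = w * z) →
      (w * u * w⁻¹ = u ∨ w * u * w⁻¹ = u * z) := by
    intro u w h
    obtain ⟨e, he, h'⟩ := hK.sign_comm h
    rcases he with rfl | he
    · exact Or.inl (by rw [mul_one] at h'; rw [← h', mul_inv_cancel_right])
    · refine Or.inr ?_
      rw [show e = z from he] at h'
      calc w * u * w⁻¹ = w * u * z * z * w⁻¹ := by rw [mul_assoc (w * u), hK.zz, mul_one]
        _ = u * w * (z * w⁻¹) := by rw [← h']; group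
        _ = u * z := by rw [(hK.comm w⁻¹).eq]; group
  have hmul : ∀ u v w : K, (u * w * u⁻¹ = w ∨ u * w * u⁻¹ = w * z) → (v * w * v⁻¹ = w ∨ v * w * v⁻¹ = w * z) →
      (u * v * w * (u * v)⁻¹ = w ∨ u * v * w * (u * v)⁻¹ = w * z) := by
    intro u v w h1 h2
    have e0 : u * v * w * (u * v)⁻¹ = u * (v * w * v⁻¹) * u⁻¹ := by group
    rcases h2 with e | e <;> rw [e0, e]
    · exact h1
    · rw [show u * (w * z) * u⁻¹ = u * w * (z * u⁻¹) by group, (hK.comm u⁻¹).eq,
        show u * w * (u⁻¹ * z) = u * w * u⁻¹ * z by group]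
      rcases h1 with e' | e' <;> rw [e']
      · exact Or.inr rfl
      · exact Or.inl (by rw [mul_assoc, hK.zz, mul_one])
  have hinvA : ∀ a ∈ hK.A, ∀ p ∈ (P : Subgroup K), p * a⁻¹ * p⁻¹ = a⁻¹ ∨ p * a⁻¹ * p⁻¹ = a⁻¹ * z :=
    fun a ha p hp => hK.conj_A (inv_mem ha) hp
  intro x hx y hy
  obtain ⟨a, ha, hxa⟩ := hdec x hx
  obtain ⟨b, hb, hyb⟩ := hdec y hy
  rw [show x = x * a * a⁻¹ by group]
  refine hmul _ _ _ (hflip _ _ ?_) (hflip _ _ (hinvA a ha y hy))
  rw [show y = y * b * b⁻¹ by group]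
  exact hmul _ _ _ (hCC _ hyb _ hxa) (Or.inl (by rw [(hAC _ (inv_mem hb) _ hxa).eq, mul_inv_cancel_right]))

/-- The centre is `{1, z}`. -/
theorem CoverData.center_small (hu : hK.Uniq) {w : K} (hw : w ∈ center K) : w = 1 ∨ w = z := by
  haveI := hK.perfect
  let φ : ↥(P : Subgroup K) →* Abelianization ↥(P : Subgroup K) := Abelianization.of
  have key : ∀ (k : ℕ) (g₀ : K), g₀⁻¹ * w ^ k * g₀ ∈ (P : Subgroup K) → g₀⁻¹ * w ^ k * g₀ = w ^ k :=
    fun k g₀ _ => by rw [mul_assoc, ← mem_center_iff.mp (pow_mem hw k) g₀, inv_mul_cancel_left]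
  have ht := MonoidHom.transfer_eq_pow φ w key
  have hone : (MonoidHom.transfer φ) w = 1 :=
    MonoidHom.mem_ker.mp (Abelianization.commutator_subset_ker _
      (Group.IsPerfect.commutator_eq_top (G := K) ▸ mem_top w))
  rw [hone] at ht
  have hker : (⟨w ^ (P : Subgroup K).index, MonoidHom.transfer_eq_pow_aux w key⟩ : ↥(P : Subgroup K)) ∈
      commutator ↥(P : Subgroup K) := (QuotientGroup.eq_one_iff _).mp ht.symm
  have hle : commutator ↥(P : Subgroup K) ≤ (zpowers z).subgroupOf (P : Subgroup K) := by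
    rw [commutator_def, commutator_le]
    intro a _ b _
    show ((⁅a, b⁆ : ↥(P : Subgroup K)) : K) ∈ zpowers z
    rw [commutatorElement_def]
    push_cast
    rcases hK.comm_or hu a a.2 b b.2 with e | e <;> rw [e]
    · rw [mul_inv_cancel]; exact one_mem _
    · rw [mul_assoc, (hK.comm _).eq, mul_inv_cancel_left]; exact mem_zpowers z
  have h1 : w ^ (P : Subgroup K).index ∈ zpowers z := hle hker
  obtain ⟨j, hj⟩ : Odd (P : Subgroup K).index :=
    Nat.not_even_iff_odd.mp fun he => P.not_dvd_index (even_iff_two_dvd.mp he)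
  obtain ⟨k, hk⟩ := hK.cen2 ⟨w, hw⟩
  have hk' : w ^ 2 ^ k = 1 := congrArg Subtype.val hk
  obtain ⟨m, hm⟩ := exists_pow_eq_self_of_coprime (x := w) (n := (P : Subgroup K).index)
    ((Nat.Coprime.pow_left k (Nat.coprime_two_left.mpr ⟨j, hj⟩)).coprime_dvd_left
      (orderOf_dvd_of_pow_eq_one hk')).symm
  have h2 : w ∈ zpowers z := hm ▸ pow_mem h1 m
  refine hK.cenu w hw ?_
  obtain ⟨i, rfl⟩ := mem_zpowers_iff.mp h2
  rw [← zpow_add]
  exact H14.Asch.zpow_even_of_orderOf_two hK.z2 ⟨i, rfl⟩

/-- A perfect central extension with intersections of rank one has a strongly embedded quotient. -/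
theorem CoverData.exists_se (hEmb : H91.CI.EmbCriterion.{u}) (hAb : H91.CI.AbFacts.{u}) :
    ∃ H : Subgroup (K ⧸ center K), Cfsg.IsStronglyEmbedded H := by
  classical
  by_cases hu : hK.Uniq
  swap
  · simp only [CoverData.Uniq] at hu
    push Not at hu
    obtain ⟨w, hw, hw2, hw1, hwz⟩ := hu
    exact hK.se_of_central hEmb hw hw2 hw1 hwz
  exfalso
  haveI := hK.simple
  set π := QuotientGroup.mk' (center K) with hπ
  have hsurj : Function.Surjective π := QuotientGroup.mk'_surjective _
  set Q : Sylow 2 (K ⧸ center K) := P.mapSurjective hsurj with hQ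
  have hQcoe : (Q : Subgroup (K ⧸ center K)) = (P : Subgroup K).map π := Sylow.coe_mapSurjective hsurj P
  have hQab : IsMulCommutative ↥(Q : Subgroup (K ⧸ center K)) := by
    refine ⟨⟨fun a b => Subtype.ext ?_⟩⟩
    obtain ⟨x, hx, ex⟩ : (a : K ⧸ center K) ∈ (P : Subgroup K).map π := hQcoe ▸ a.2
    obtain ⟨y, hy, ey⟩ : (b : K ⧸ center K) ∈ (P : Subgroup K).map π := hQcoe ▸ b.2
    show (a : K ⧸ center K) * b = b * a
    rw [← ex, ← ey, ← map_mul, ← map_mul]
    obtain ⟨e, he, h⟩ := hK.sign_comm (hK.comm_or hu x hx y hy)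
    rw [h, map_mul]
    suffices π e = 1 by rw [this, mul_one]
    rcases he with rfl | rfl
    · exact map_one π
    · exact (QuotientGroup.eq_one_iff _).mpr hK.zc
  obtain ⟨t, ht, a, ha, ht2, hat⟩ := hK.exists_pair hu
  have htc : t ∉ center K := fun h => hK.not_commute_of_moved hat (mem_center_iff.mp h a)
  have hac : a ∉ center K := fun h => hK.not_commute_of_moved hat (mem_center_iff.mp h t).symm
  obtain ⟨e, heP, hec, he2⟩ : ∃ e ∈ (P : Subgroup K), e ∉ center K ∧ e * e = z := by
    rcases hK.center_small hu ha.2.1 with h | h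
    · refine ⟨t * a, mul_mem ht.1 ha.1, fun hc => hK.not_commute_of_moved hat ?_, ?_⟩
      · have h1 : Commute t (t * a) := mem_center_iff.mp hc t
        have h2 := (Commute.refl t).inv_right.mul_right h1
        rw [inv_mul_cancel_left] at h2
        exact h2.symm
      · calc t * a * (t * a) = t * (a * t * a⁻¹) * (a * a) := by group
          _ = z := by rw [hat, h, mul_one, ← mul_assoc, ht2, one_mul]
    · exact ⟨a, ha.1, hac, h⟩
  obtain ⟨n, hn, hconj⟩ := hAb (K ⧸ center K) hK.simple hK.nab Q hQab (π t) (hQcoe ▸ ⟨t, ht.1, rfl⟩)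
    (π e) (hQcoe ▸ ⟨e, heP, rfl⟩) (fun h => htc ((QuotientGroup.eq_one_iff _).mp h))
    (fun h => hec ((QuotientGroup.eq_one_iff _).mp h))
  obtain ⟨k, rfl⟩ := hsurj n
  rw [← map_inv, ← map_mul, ← map_mul] at hconj
  have hd : (k * t * k⁻¹)⁻¹ * e ∈ center K := QuotientGroup.eq.mp hconj
  have h2 : (k * t * k⁻¹) * (k * t * k⁻¹) = 1 := by
    rw [show (k * t * k⁻¹) * (k * t * k⁻¹) = k * (t * t) * k⁻¹ by group, ht2, mul_one, mul_inv_cancel]
  have he : e = (k * t * k⁻¹) * ((k * t * k⁻¹)⁻¹ * e) := by rw [mul_inv_cancel_left]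
  have h3 : ∀ s d : K, s * s = 1 → d * d = 1 → Commute s d → s * d * (s * d) = 1 := fun s d h1 h2 hc => by
    rw [show s * d * (s * d) = s * (d * s) * d by group, ← hc.eq, show s * (s * d) * d = s * s * (d * d) by group,
      h1, h2, one_mul]
  have : e * e = 1 := by
    rw [he]
    refine h3 _ _ h2 ?_ (mem_center_iff.mp hd _)
    rcases hK.center_small hu hd with h | h <;> rw [h]
    · exact one_mul 1
    · exact hK.zz
  rw [he2] at this
  exact H39.ne_one_of_orderOf_eq_two hK.z2 this

end Cfsg.Agent.H30.RankInt
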