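import Cfsg.Agent.H30.RankInt.CoverBase

/-!
# The layer when `z` is its only central involution
-/

set_option autoImplicit false
set_option linter.style.haveILetI false
set_option linter.unusedSectionVars false

namespace Cfsg.Agent.H30.RankInt

open Subgroup
open scoped Pointwise

universe u

local instance factTwoL : Fact (Nat.Prime 2) := ⟨Nat.prime_two⟩

variable {K : Type u} [Group K] [Finite K] {P : Sylow 2 K} {z : K} (hK : CoverData K P z)
include hK

theorem CoverData.commute_or {a p : K} (ha : a ∈ hK.A) (hp : p ∈ (P : Subgroup K)) :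
    Commute p a ∨ p * a * p⁻¹ = a * z :=
  (hK.conj_A ha hp).imp_left mul_inv_eq_iff_eq_mul.mp

theorem CoverData.not_commute_of_moved {a p : K} (h : p * a * p⁻¹ = a * z) : ¬ Commute p a := fun hc => by
  rw [hc.eq, mul_inv_cancel_right] at h
  exact H39.ne_one_of_orderOf_eq_two hK.z2 (mul_eq_left.mp h.symm)

theorem CoverData.commute_mul_of_moved {a p q : K} (hp : p * a * p⁻¹ = a * z) (hq : q * a * q⁻¹ = a * z) :
    Commute (p * q) a := by
  refine mul_inv_eq_iff_eq_mul.mp ?_
  calc p * q * a * (p * q)⁻¹ = p * (q * a * q⁻¹) * p⁻¹ := by group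
    _ = p * a * (z * p⁻¹) := by rw [hq]; group
    _ = p * a * p⁻¹ * z := by rw [(hK.comm p⁻¹).eq]; group
    _ = a := by rw [hp, mul_assoc, hK.zz, mul_one]

theorem CoverData.commute_mul_right {a b p : K} (hab : p * a * p⁻¹ = a * z) (hbb : p * b * p⁻¹ = b * z) :
    Commute p (a * b) := by
  refine mul_inv_eq_iff_eq_mul.mp ?_
  calc p * (a * b) * p⁻¹ = (p * a * p⁻¹) * (p * b * p⁻¹) := by group
    _ = a * (z * b) * z := by rw [hab, hbb]; group
    _ = a * b * (z * z) := by rw [(hK.comm b).eq]; group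
    _ = a * b := by rw [hK.zz, mul_one]

/-- Every element of `P` commuting with the centre of a subgroup of the layer can be corrected by it to
commute with it. -/
theorem CoverData.exists_reduce (B : Subgroup K) (hBA : B ≤ hK.A) {p : K} (hp : p ∈ (P : Subgroup K))
    (hcen : ∀ b ∈ B, (∀ d ∈ B, Commute b d) → Commute p b) :
    ∃ a ∈ B, ∀ b ∈ B, Commute (p * a) b := by
  induction B using WellFoundedLT.induction generalizing p with
  | ind B ih =>
  by_cases hab : ∀ b ∈ B, ∀ d ∈ B, Commute b d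
  · exact ⟨1, one_mem B, fun b hb => by rw [mul_one]; exact hcen b hb (hab b hb)⟩
  push Not at hab
  obtain ⟨x, hx, y, hy, hxy⟩ := hab
  have hyx : y * x * y⁻¹ = x * z := (hK.commute_or (hBA hx) (hK.A_le (hBA hy))).resolve_left
    fun h => hxy h.symm
  have hxy' : x * y * x⁻¹ = y * z := (hK.commute_or (hBA hy) (hK.A_le (hBA hx))).resolve_left hxy
  have hstep : ∀ q ∈ (P : Subgroup K), ∀ u v : K, u ∈ B → v ∈ B → v * u * v⁻¹ = u * z →
      ∃ e ∈ B, Commute (q * e) u ∧ ∀ d : K, Commute v d → Commute q d → Commute (q * e) d := by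
    intro q hq u v hu hv hvu
    rcases hK.commute_or (hBA hu) hq with h | h
    · exact ⟨1, one_mem B, by rw [mul_one]; exact h, fun d _ hd => by rw [mul_one]; exact hd⟩
    · exact ⟨v, hv, hK.commute_mul_of_moved h hvu, fun d h1 h2 => h2.mul_left h1⟩
  obtain ⟨e₁, he₁, hc₁, -⟩ := hstep p hp x y hx hy hyx
  obtain ⟨e₂, he₂, hc₂, hk₂⟩ := hstep (p * e₁) (mul_mem hp (hK.A_le (hBA he₁))) y x hy hx hxy'
  have hc₁' : Commute (p * e₁ * e₂) x := hk₂ x (Commute.refl x) hc₁
  set B' := B ⊓ centralizer ({x, y} : Set K) with hB'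
  have hlt : B' < B := lt_of_le_of_ne inf_le_left fun e => hxy (by
    have h1 : x ∈ B' := e.symm ▸ hx
    exact (mem_centralizer_iff.mp h1.2 y (Or.inr rfl)).symm)
  have hdec : ∀ b ∈ B, ∃ e ∈ B, b * e ∈ B' ∧ ∀ d ∈ B', Commute e d := by
    intro b hb
    have hsplit : ∀ u v : K, ∀ w ∈ B, u ∈ B → v ∈ B → v * u * v⁻¹ = u * z →
        ∃ e, (e = 1 ∨ e = v) ∧ Commute (w * e) u := by
      intro u v w hw hu hv hvu
      rcases hK.commute_or (hBA hu) (hK.A_le (hBA hw)) with h | h
      · exact ⟨1, Or.inl rfl, by rw [mul_one]; exact h⟩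
      · exact ⟨v, Or.inr rfl, hK.commute_mul_of_moved h hvu⟩
    obtain ⟨e, he, hce⟩ := hsplit x y b hb hx hy hyx
    have heB : e ∈ B := by rcases he with rfl | rfl; exacts [one_mem B, hy]
    obtain ⟨f, hf, hcf⟩ := hsplit y x (b * e) (mul_mem hb heB) hy hx hxy'
    have hfB : f ∈ B := by rcases hf with rfl | rfl; exacts [one_mem B, hx]
    refine ⟨e * f, mul_mem heB hfB, ⟨mul_mem hb (mul_mem heB hfB), mem_centralizer_iff.mpr ?_⟩,
      fun d hd => ?_⟩
    · rw [← mul_assoc]
      rintro d (rfl | rfl)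
      · rcases hf with rfl | rfl
        · rw [mul_one]; exact hce.eq.symm
        · exact (hce.mul_left (Commute.refl _)).eq.symm
      · exact hcf.eq.symm
    · refine Commute.mul_left ?_ ?_
      · rcases he with rfl | rfl
        · exact Commute.one_left d
        · exact mem_centralizer_iff.mp hd.2 _ (Or.inr rfl)
      · rcases hf with rfl | rfl
        · exact Commute.one_left d
        · exact mem_centralizer_iff.mp hd.2 _ (Or.inl rfl)
  have he12 : e₁ * e₂ ∈ B := mul_mem he₁ he₂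
  have hbase : ∀ b ∈ B, (∀ d ∈ B, Commute b d) → Commute (p * e₁ * e₂) b := fun b hb hc => by
    rw [mul_assoc]
    exact (hcen b hb hc).mul_left (hc _ he12).symm
  obtain ⟨a', ha', hcomm⟩ := ih B' hlt (inf_le_left.trans hBA)
    (mul_mem (mul_mem hp (hK.A_le (hBA he₁))) (hK.A_le (hBA he₂))) fun b hb hc => by
      refine hbase b hb.1 fun d hd => ?_
      obtain ⟨e, he, hde, hed⟩ := hdec d hd
      have h1 := (hc _ hde).mul_right (hed b hb).symm.inv_right
      rwa [mul_inv_cancel_right] at h1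
  refine ⟨e₁ * e₂ * a', mul_mem he12 ha'.1, fun b hb => ?_⟩
  obtain ⟨e, he, hbe, hed⟩ := hdec b hb
  have hx' : Commute (p * e₁ * e₂ * a') x :=
    hc₁'.mul_left (mem_centralizer_iff.mp ha'.2 x (Or.inl rfl)).symm
  have hy' : Commute (p * e₁ * e₂ * a') y :=
    hc₂.mul_left (mem_centralizer_iff.mp ha'.2 y (Or.inr rfl)).symm
  rw [show p * (e₁ * e₂ * a') = p * e₁ * e₂ * a' by group]
  -- decompose `b` along `x`, `y`
  have hgen : ∀ u v : K, ∀ w : K, w ∈ B → u ∈ B → v ∈ B → v * u * v⁻¹ = u * z →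
      ∃ f, (f = 1 ∨ f = v) ∧ Commute (w * f) u := by
    intro u v w hw hu hv hvu
    rcases hK.commute_or (hBA hu) (hK.A_le (hBA hw)) with h | h
    · exact ⟨1, Or.inl rfl, by rw [mul_one]; exact h⟩
    · exact ⟨v, Or.inr rfl, hK.commute_mul_of_moved h hvu⟩
  obtain ⟨f₁, hf₁, hd₁⟩ := hgen x y b hb hx hy hyx
  have hf₁B : f₁ ∈ B := by rcases hf₁ with rfl | rfl; exacts [one_mem B, hy]
  obtain ⟨f₂, hf₂, hd₂⟩ := hgen y x (b * f₁) (mul_mem hb hf₁B) hy hx hxy'
  have hf₂B : f₂ ∈ B := by rcases hf₂ with rfl | rfl; exacts [one_mem B, hx]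
  have hmem : b * f₁ * f₂ ∈ B' := ⟨mul_mem (mul_mem hb hf₁B) hf₂B, mem_centralizer_iff.mpr (by
    rintro d (rfl | rfl)
    · rcases hf₂ with rfl | rfl
      · rw [mul_one]; exact hd₁.eq.symm
      · exact (hd₁.mul_left (Commute.refl _)).eq.symm
    · exact hd₂.eq.symm)⟩
  have hf₁c : Commute (p * e₁ * e₂ * a') f₁ := by
    rcases hf₁ with rfl | rfl
    · exact Commute.one_right _
    · exact hy'
  have hf₂c : Commute (p * e₁ * e₂ * a') f₂ := by
    rcases hf₂ with rfl | rfl
    · exact Commute.one_right _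
    · exact hx'
  have h1 := ((hcomm _ hmem).mul_right hf₂c.inv_right).mul_right hf₁c.inv_right
  rwa [mul_inv_cancel_right, mul_inv_cancel_right] at h1

end Cfsg.Agent.H30.RankInt
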