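import Cfsg.Agent.H30.RankInt.CoverLayer
import Cfsg.Agent.Derange.Fixed

/-!
# When `z` is the only central involution of the layer, `P` centralizes the centre of the layer
-/

set_option autoImplicit false
set_option linter.style.haveILetI false
set_option linter.unusedSectionVars false

namespace Cfsg.Agent.H30.RankInt

open Subgroup
open scoped Pointwise

universe u

local instance factTwoU : Fact (Nat.Prime 2) := ⟨Nat.prime_two⟩

variable {K : Type u} [Group K] [Finite K] {P : Sylow 2 K} {z : K}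

/-- `z` is the only involution of the centre of the layer. -/
def CoverData.Uniq (hK : CoverData K P z) : Prop := ∀ w ∈ hK.ZA, w * w = 1 → w = 1 ∨ w = z

variable (hK : CoverData K P z)
include hK

/-- A subgroup of `P` through `z` has an involution normal modulo `z` or is built on a cyclic subgroup. -/
theorem CoverData.four_or_twisted (R : Subgroup K) (hR : R ≤ (P : Subgroup K)) (hzR : z ∈ R) :
    (∃ t ∈ R, t * t = 1 ∧ t ≠ 1 ∧ t ≠ z ∧ ∀ r ∈ R, r * t * r⁻¹ = t ∨ r * t * r⁻¹ = t * z) ∨
      ∃ a : ↥R, Twisted a ⟨z, hzR⟩ := by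
  rcases H14.Asch.exists_normal_four_or_cyclic (S := ↥R) (P.isPGroup'.to_le hR) (z := ⟨z, hzR⟩)
    (by rw [← Subgroup.orderOf_coe]; exact hK.z2) (fun s => Subtype.ext (hK.comm s).eq) with
    ⟨t, ht2, htz, ht⟩ | h
  · refine Or.inl ⟨t, t.2, congrArg Subtype.val (H39.mul_self_of_orderOf_eq_two ht2), ?_, ?_, fun r hr => ?_⟩
    · exact fun e => H39.ne_one_of_orderOf_eq_two ht2 (Subtype.ext e)
    · exact fun e => htz (Subtype.ext e)
    · exact (ht ⟨r, hr⟩).imp (fun e => congrArg Subtype.val e) fun e => congrArg Subtype.val e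
  · exact Or.inr h

/-- An involution which `P` fixes modulo `z` belongs to the layer. -/
theorem CoverData.mem_A_of_fixed {t : K} (htP : t ∈ (P : Subgroup K)) (ht2 : t * t = 1)
    (ht : ∀ p ∈ (P : Subgroup K), p * t * p⁻¹ = t ∨ p * t * p⁻¹ = t * z) : t ∈ hK.A :=
  ⟨htP, by rw [ht2]; exact one_mem _, fun p hp => by
    rcases ht p hp with e | e <;> rw [e]
    · rw [mul_inv_cancel]; exact one_mem _
    · rw [show t * z * t⁻¹ = t * (z * t⁻¹) by group, (hK.comm t⁻¹).eq, mul_inv_cancel_left]
      exact hK.zc⟩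

/-- The layer contains two non-commuting elements, one an involution. -/
theorem CoverData.exists_pair (hu : hK.Uniq) :
    ∃ t ∈ hK.A, ∃ a ∈ hK.A, t * t = 1 ∧ a * t * a⁻¹ = t * z := by
  obtain ⟨u, huP, hu2, huz⟩ := hK.rank
  rcases hK.four_or_twisted (P : Subgroup K) le_rfl hK.z_mem with ⟨t, htP, ht2, ht1, htz, ht⟩ | ⟨a, ha⟩
  · have htA := hK.mem_A_of_fixed htP ht2 ht
    have hex : ∃ a ∈ hK.A, a * t * a⁻¹ = t * z := by
      by_contra hall
      push Not at hall
      have hZ : t ∈ hK.ZA := ⟨htA, mem_centralizer_iff.mpr fun a haA =>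
        ((hK.commute_or htA (hK.A_le haA)).resolve_right (hall a haA)).eq⟩
      rcases hu t hZ ht2 with h | h
      · exact ht1 h
      · exact htz h
    obtain ⟨a, haA, he⟩ := hex
    exact ⟨t, htA, a, haA, ht2, he⟩
  · exfalso
    have hnot : (⟨u, huP⟩ : ↥(P : Subgroup K)) ∉ zpowers a := by
      intro hin
      refine huz (congrArg Subtype.val (PGroups.eq_of_sq_eq_one inferInstance hin ha.1 ?_ ?_ ?_ ?_))
      · exact Subtype.ext (by push_cast [pow_two]; exact H39.mul_self_of_orderOf_eq_two hu2)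
      · exact Subtype.ext (by push_cast [pow_two]; exact hK.zz)
      · exact fun e => H39.ne_one_of_orderOf_eq_two hu2 (congrArg Subtype.val e)
      · exact fun e => H39.ne_one_of_orderOf_eq_two hK.z2 (congrArg Subtype.val e)
    have hprod : ∀ x ∈ (P : Subgroup K), x ∉ (zpowers a).map (P : Subgroup K).subtype →
        ∀ y ∈ (P : Subgroup K), y ∉ (zpowers a).map (P : Subgroup K).subtype →
          x * y ∈ (zpowers a).map (P : Subgroup K).subtype := by
      intro x hx hx' y hy hy'
      exact ⟨⟨x, hx⟩ * ⟨y, hy⟩, (ha.2 ⟨x, hx⟩ fun h => hx' ⟨_, h, rfl⟩).2 ⟨y, hy⟩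
        (fun h => hy' ⟨_, h, rfl⟩), rfl⟩
    obtain ⟨g, v, hv, e⟩ := hK.exists_conj_mem _ (map_subtype_le _) hprod hu2 huP (by
      rintro ⟨w, hw, e⟩
      exact hnot ((Subtype.ext e : w = ⟨u, huP⟩) ▸ hw))
    have hv2 : orderOf (v : K) = 2 := by
      rw [show (v : K) = g * u * g⁻¹ from e, H39.orderOf_conj, hu2]
    have hvz : (v : K) = z := congrArg Subtype.val (PGroups.eq_of_sq_eq_one inferInstance hv ha.1
      (Subtype.ext (by push_cast [pow_two]; exact H39.mul_self_of_orderOf_eq_two hv2))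
      (Subtype.ext (by push_cast [pow_two]; exact hK.zz))
      (fun e => H39.ne_one_of_orderOf_eq_two hv2 (congrArg Subtype.val e))
      (fun e => H39.ne_one_of_orderOf_eq_two hK.z2 (congrArg Subtype.val e)))
    refine huz ?_
    have h1 : g * u * g⁻¹ = z := by rw [← e]; exact hvz
    rw [show u = g⁻¹ * (g * u * g⁻¹) * g by group, h1, mul_assoc, (hK.comm g).eq, inv_mul_cancel_left]

/-- The centre of the layer is cyclic. -/
theorem CoverData.exists_gen (hu : hK.Uniq) : ∃ c ∈ hK.ZA, hK.ZA = zpowers c := by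
  refine Derange.isCyclic_of_unique (q := 2) (P.isPGroup'.to_le (inf_le_left.trans hK.A_le))
    (fun x hx y hy => hK.ZA_comm hx hy.1) fun x hx y hy hx2 hx1 hy2 => ?_
  rw [pow_two] at hx2 hy2
  rw [(hu x hx hx2).resolve_left hx1]
  rcases hu y hy hy2 with rfl | rfl
  · exact one_mem _
  · exact mem_zpowers y

/-- `P` centralizes the centre of the layer. -/
theorem CoverData.commute_ZA (hu : hK.Uniq) {p : K} (hp : p ∈ (P : Subgroup K)) {w : K}
    (hw : w ∈ hK.ZA) : Commute p w := by
  obtain ⟨c, hc, hgen⟩ := hK.exists_gen hu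
  suffices hmain : ∀ r ∈ (P : Subgroup K), Commute r c by
    rw [hgen] at hw
    obtain ⟨i, rfl⟩ := mem_zpowers_iff.mp hw
    exact (hmain p hp).zpow_right i
  by_contra hall
  push Not at hall
  obtain ⟨r, hrP, hrc⟩ := hall
  have hrc' : r * c * r⁻¹ = c * z := (hK.commute_or hc.1 hrP).resolve_left hrc
  have hc1 : c ≠ 1 := fun e => hrc (e ▸ Commute.one_right r)
  have hcz : c ≠ z := fun e => hrc (e ▸ (hK.comm r).symm)
  -- no involution of `P` moves `c`
  have hout : ∀ v ∈ (P : Subgroup K), ¬ Commute v c → v * v ≠ 1 := by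
    intro v hv hvc hv2
    have hv' : orderOf v = 2 :=
      H39.orderOf_eq_two_of_mul_self hv2 fun e => hvc (e ▸ Commute.one_left c)
    obtain ⟨g, hg, hgc⟩ := hK.exists_conj_mem ((P : Subgroup K) ⊓ centralizer ({c} : Set K)) inf_le_left
      (fun x hx hx' y hy hy' => ⟨mul_mem hx hy, mem_centralizer_singleton_iff.mpr
        (hK.commute_mul_of_moved
          ((hK.commute_or hc.1 hx).resolve_left fun h => hx' ⟨hx, mem_centralizer_singleton_iff.mpr h.eq⟩)
          ((hK.commute_or hc.1 hy).resolve_left fun h =>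
            hy' ⟨hy, mem_centralizer_singleton_iff.mpr h.eq⟩)).eq⟩)
      hv' hv (fun h => hvc (mem_centralizer_singleton_iff.mp h.2))
    obtain ⟨n, hn, en⟩ := exists_normalizer_conj hK.ri P hv' hv hg
    have hnc : n⁻¹ * c * n ∈ hK.ZA := by simpa using hK.ZA_invariant (inv_mem hn) hc
    have hcomm : Commute v (n⁻¹ * c * n) := by
      have e := (show Commute (g * v * g⁻¹) c from mem_centralizer_singleton_iff.mp hgc).map
        (MulAut.conj n⁻¹).toMonoidHom
      rw [← en] at e
      simpa [mul_assoc] using e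
    -- the conjugate generates the centre of the layer
    refine hvc ?_
    have hgen' : c ∈ zpowers (n⁻¹ * c * n) := by
      have hle : zpowers (n⁻¹ * c * n) ≤ zpowers c := zpowers_le.mpr (hgen ▸ hnc)
      have hcard : Nat.card (zpowers c) ≤ Nat.card (zpowers (n⁻¹ * c * n)) := by
        rw [Nat.card_zpowers, Nat.card_zpowers]
        refine le_of_eq ?_
        have := H39.orderOf_conj (g := n⁻¹) (a := c)
        rw [inv_inv] at this
        exact this.symm
      rw [eq_of_le_of_card_ge hle hcard]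
      exact mem_zpowers c
    obtain ⟨i, hi⟩ := mem_zpowers_iff.mp hgen'
    rw [← hi]
    exact hcomm.zpow_right i
  -- the subgroup of the layer centralized by `r`
  set E₀ := hK.A ⊓ centralizer ({r} : Set K) with hE₀
  have hsplit : ∀ a ∈ hK.A, a ∈ E₀ ∨ a * c ∈ E₀ := by
    intro a ha
    rcases hK.commute_or ha hrP with h | h
    · exact Or.inl ⟨ha, mem_centralizer_singleton_iff.mpr h.eq.symm⟩
    · exact Or.inr ⟨mul_mem ha hc.1, mem_centralizer_singleton_iff.mpr (hK.commute_mul_right h hrc').eq.symm⟩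
  have hcomA : ∀ (q : K), (∀ b ∈ E₀, Commute q b) → Commute q c → ∀ a ∈ hK.A, Commute q a := by
    intro q hq hqc a ha
    rcases hsplit a ha with h | h
    · exact hq a h
    · have := (hq _ h).mul_right hqc.inv_right
      rwa [mul_inv_cancel_right] at this
  set R := (P : Subgroup K) ⊓ centralizer (E₀ : Set K) with hR
  have hzR : z ∈ R := ⟨hK.z_mem, mem_centralizer_iff.mpr fun b _ => (hK.comm b).eq.symm⟩
  have hcR : c ∈ R := ⟨hK.A_le hc.1, mem_centralizer_iff.mpr fun b hb => (hK.ZA_comm hc hb.1).eq.symm⟩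
  have hrR : r ∈ R :=
    ⟨hrP, mem_centralizer_iff.mpr fun b hb => (mem_centralizer_singleton_iff.mp hb.2)⟩
  rcases hK.four_or_twisted R inf_le_left hzR with ⟨t, htR, ht2, ht1, htz, ht⟩ | ⟨a₀, ha₀⟩
  · have htfix : ∀ p ∈ (P : Subgroup K), p * t * p⁻¹ = t ∨ p * t * p⁻¹ = t * z := by
      intro p hp
      obtain ⟨a, ha, hpa⟩ := hK.exists_reduce E₀ inf_le_left hp fun b hb hbc => by
        have hbZ : b ∈ hK.ZA := ⟨hb.1, mem_centralizer_iff.mpr fun d hd =>
          (hcomA b hbc (hK.ZA_comm hc hb.1).symm d hd).eq.symm⟩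
        obtain ⟨i, rfl⟩ := mem_zpowers_iff.mp (hgen ▸ hbZ)
        rcases hK.commute_or hc.1 hp with h | h
        · exact h.zpow_right i
        · refine mul_inv_eq_iff_eq_mul.mp ?_
          have hrb : Commute r (c ^ i) := (mem_centralizer_singleton_iff.mp hb.2).symm
          have e1 : r * c ^ i * r⁻¹ = c ^ i * z ^ i := by
            rw [← conj_zpow, hrc', (hK.comm c).symm.mul_zpow]
          rw [hrb.eq, mul_inv_cancel_right] at e1
          rw [← conj_zpow, h, (hK.comm c).symm.mul_zpow, ← e1]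
      have hat : a * t * a⁻¹ = t := by
        rw [(mem_centralizer_iff.mp htR.2 a ha : a * t = t * a), mul_inv_cancel_right]
      have hpaR : p * a ∈ R :=
        ⟨mul_mem hp (hK.A_le ha.1), mem_centralizer_iff.mpr fun b hb => (hpa b hb).eq.symm⟩
      have := ht _ hpaR
      rwa [show p * a * t * (p * a)⁻¹ = p * (a * t * a⁻¹) * p⁻¹ by group, hat] at this
    have htA := hK.mem_A_of_fixed htR.1 ht2 htfix
    have htc : Commute t c := hK.ZA_comm hc htA |>.symm
    have htZ : t ∈ hK.ZA := ⟨htA, mem_centralizer_iff.mpr fun a ha =>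
      (hcomA t (fun b hb => (mem_centralizer_iff.mp htR.2 b hb).symm) htc a ha).eq.symm⟩
    rcases hu t htZ ht2 with h | h
    · exact ht1 h
    · exact htz h
  · have hzc' : ∀ s : ↥R, Commute (⟨z, hzR⟩ : ↥R) s := fun s => Subtype.ext (hK.comm s).eq
    have hz2' : orderOf (⟨z, hzR⟩ : ↥R) = 2 := by rw [← Subgroup.orderOf_coe]; exact hK.z2
    have hna : ∃ p q : ↥R, ¬ Commute p q := ⟨⟨r, hrR⟩, ⟨c, hcR⟩, fun h => hrc (congrArg Subtype.val h.eq)⟩
    have hcr' : c * r * c⁻¹ = r * z := by
      have e : r * c = c * z * r := mul_inv_eq_iff_eq_mul.mp hrc'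
      have e2 : r * c = c * r * z := by rw [e, mul_assoc, (hK.comm r).eq, ← mul_assoc]
      calc c * r * c⁻¹ = c * r * z * z * c⁻¹ := by rw [mul_assoc (c * r), hK.zz, mul_one]
        _ = r * c * (z * c⁻¹) := by rw [← e2]; group
        _ = r * (c * c⁻¹) * z := by rw [(hK.comm c⁻¹).eq]; group
        _ = r * z := by rw [mul_inv_cancel, mul_one]
    have hsq : ∀ x y : ↥R, (y : K) * x * (y : K)⁻¹ = (x : K) * z → (x : K) * x = 1 ∨ (x : K) * x = z := by
      intro x y hxy
      have hres : x * x = 1 ∨ x * x = ⟨z, hzR⟩ := by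
        by_cases hx : x ∈ zpowers a₀
        · exact ha₀.sq_of_moved hzc' hz2' hx (y := y) (Subtype.ext hxy)
        · exact ha₀.sq_of_notMem (P.isPGroup'.to_le inf_le_left) hzc' hz2' hna hx
      exact hres.imp (fun e => congrArg Subtype.val e) fun e => congrArg Subtype.val e
    have hc2 : c * c = z := (hsq ⟨c, hcR⟩ ⟨r, hrR⟩ hrc').resolve_left fun e =>
      (hu c hc e).elim hc1 hcz
    have hr2 : r * r = z := (hsq ⟨r, hrR⟩ ⟨c, hcR⟩ hcr').resolve_left (hout r hrP hrc)
    -- the centre of `K` is `{1, z}`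
    have hcen : ∀ w ∈ center K, w = 1 ∨ w = z := by
      intro w hw
      obtain ⟨i, rfl⟩ := mem_zpowers_iff.mp (hgen ▸ hK.center_le_ZA hw)
      have hfix : r * c ^ i * r⁻¹ = c ^ i := by rw [mem_center_iff.mp hw r, mul_inv_cancel_right]
      rw [← conj_zpow, hrc', (hK.comm c).symm.mul_zpow, mul_eq_left] at hfix
      rcases Int.even_or_odd i with ⟨j, rfl⟩ | ho
      · rw [← two_mul, zpow_mul, zpow_two, hc2]
        rcases Int.even_or_odd j with he | ho
        · exact Or.inl (H14.Asch.zpow_even_of_orderOf_two hK.z2 he)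
        · exact Or.inr (H14.Asch.zpow_odd_of_orderOf_two hK.z2 ho)
      · rw [H14.Asch.zpow_odd_of_orderOf_two hK.z2 ho] at hfix
        exact absurd hfix (H39.ne_one_of_orderOf_eq_two hK.z2)
    -- an element of `E₀` with square `z`
    have hnc : ∃ x ∈ E₀, ∃ y ∈ E₀, y * x * y⁻¹ = x * z := by
      by_contra hall
      push Not at hall
      have habel : ∀ x ∈ E₀, ∀ y ∈ E₀, Commute y x := fun x hx y hy =>
        (hK.commute_or hx.1 (hK.A_le hy.1)).resolve_right (hall x hx y hy)
      obtain ⟨t, ht, a, ha, -, hat⟩ := hK.exists_pair hu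
      refine hK.not_commute_of_moved hat ?_
      exact hcomA a (fun b hb => (hcomA b (fun d hd => habel d hd b hb)
        (hK.ZA_comm hc hb.1).symm a ha).symm) (hK.ZA_comm hc ha).symm t ht
    obtain ⟨x, hx, y, hy, hyx⟩ := hnc
    obtain ⟨e, he, he2⟩ : ∃ e ∈ E₀, e * e = z := by
      by_cases h1 : x * x = z
      · exact ⟨x, hx, h1⟩
      by_cases h2 : y * y = z
      · exact ⟨y, hy, h2⟩
      refine ⟨x * y, mul_mem hx hy, ?_⟩
      have hx2 := (hcen _ hx.1.2.1).resolve_right h1
      have hy2 := (hcen _ hy.1.2.1).resolve_right h2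
      calc x * y * (x * y) = x * (y * x * y⁻¹) * (y * y) := by group
        _ = z := by rw [hyx, hy2, mul_one, ← mul_assoc, hx2, one_mul]
    refine hout (r * e) (mul_mem hrP (hK.A_le he.1)) (fun h => hrc ?_) ?_
    · have := h.mul_left (hK.ZA_comm hc he.1).symm.inv_left
      rwa [mul_inv_cancel_right] at this
    · have hre : Commute r e := (mem_centralizer_singleton_iff.mp he.2).symm
      rw [show r * e * (r * e) = r * (e * r) * e by group, hre.eq.symm,
        show r * (r * e) * e = r * r * (e * e) by group, hr2, he2, hK.zz]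

end Cfsg.Agent.H30.RankInt
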