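import Cfsg.Agent.H30.RankInt.CentralZ
import Cfsg.Agent.H74.Quat.QuatOuter
import Cfsg.Agent.H58.CI.Inputs
import Cfsg.Agent.H91.CI.Main
import Cfsg.Agent.H62.GW.Dihedral

/-!
# Non-solvable groups with Sylow 2-intersections of rank one, one of them noncyclic
-/

set_option autoImplicit false
set_option linter.style.haveILetI false
set_option linter.unusedSectionVars false

namespace Cfsg.Agent.H30.RankInt

open Subgroup Cfsg.Agent
open scoped Pointwise

universe u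

local instance factTwoFin : Fact (Nat.Prime 2) := ⟨Nat.prime_two⟩

theorem noOuter : NoOuter.{u} := fun K _ _ hsimp _ hzK hz hcent hone P _ hw hwK hwP hnorm =>
  H74.Quat.no_outer_involution H62.GW.dihedralStatement K hsimp hzK hz hcent hone P hw hwK hwP hnorm

theorem abFactsHolds : H91.CI.AbFacts.{u} := H91.CI.abFacts H58.CI.walterHyp H50.Walter.shapeData

/-- The structure theorem. -/
theorem structure_of_rankInt {G : Type u} [Group G] [Finite G] (hns : ¬ Group.IsSolvable G)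
    (hI : ∀ S T : Sylow 2 G, S ≠ T → Cfsg.PRankLE 2 1 ↥((S : Subgroup G) ⊓ (T : Subgroup G)))
    (hnC : ∃ S T : Sylow 2 (G ⧸ Cfsg.oddCore G), S ≠ T ∧
      ¬ IsCyclic ↥((S : Subgroup (G ⧸ Cfsg.oddCore G)) ⊓ (T : Subgroup (G ⧸ Cfsg.oddCore G))))
    (hnQ : ∀ S : Sylow 2 G, ∀ n : ℕ, IsEmpty (↥(S : Subgroup G) ≃* QuaternionGroup (2 ^ (n + 1)))) :
    (∃ (G₁ : Subgroup G) (_ : G₁.Normal) (_ : ((Cfsg.pCore 2 G ⊔ Cfsg.oddCore G).subgroupOf G₁).Normal),
      Odd G₁.index ∧ Cfsg.pCore 2 G ⊔ Cfsg.oddCore G ≤ G₁ ∧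
      (∃ n : ℕ, Nonempty (↥(Cfsg.pCore 2 G) ≃* QuaternionGroup (2 ^ (n + 1)))) ∧
      BenderList (↥G₁ ⧸ (Cfsg.pCore 2 G ⊔ Cfsg.oddCore G).subgroupOf G₁)) ∨
    (∃ (G₁ : Subgroup G) (_ : G₁.Normal) (_ : ((Cfsg.oddCore G).subgroupOf G₁).Normal),
      (Odd G₁.index ∨ ∃ k : ℕ, Odd k ∧ G₁.index = 2 * k) ∧ Cfsg.oddCore G ≤ G₁ ∧
      ∃ (Z : Subgroup (Matrix.SpecialLinearGroup (Fin 2) (ZMod 5) × Matrix.SpecialLinearGroup (Fin 2) (ZMod 5))) (_ : Z.Normal),
        Z = Subgroup.zpowers ((-1 : Matrix.SpecialLinearGroup (Fin 2) (ZMod 5)), (-1 : Matrix.SpecialLinearGroup (Fin 2) (ZMod 5))) ∧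
        Nonempty (↥G₁ ⧸ (Cfsg.oddCore G).subgroupOf G₁ ≃*
          (Matrix.SpecialLinearGroup (Fin 2) (ZMod 5) × Matrix.SpecialLinearGroup (Fin 2) (ZMod 5)) ⧸ Z)) := by
  classical
  haveI : (Cfsg.oddCore G).Characteristic := Cores.pPrimeCore_characteristic
  have hOodd : Odd (Nat.card (Cfsg.oddCore G)) := Cores.odd_card_oddCore
  set φ := QuotientGroup.mk' (Cfsg.oddCore G) with hφ
  have hsurj : Function.Surjective φ := QuotientGroup.mk'_surjective _
  have hdisj : ∀ R : Sylow 2 G, ∀ w ∈ (R : Subgroup G), φ w = 1 → w = 1 := by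
    intro R w hw h
    obtain ⟨k, hk⟩ := H91.CI.exists_orderOf_pow hw
    exact orderOf_eq_one_iff.mp (Nat.eq_one_of_dvd_coprimes
      (Nat.Coprime.pow_left k (Nat.coprime_two_left.mpr hOodd)) (orderOf_dvd_of_pow_eq_one hk)
      (orderOf_dvd_natCard _ ((QuotientGroup.eq_one_iff w).mp h)))
  have hIb := rankInt_quotient hI (Cfsg.oddCore G) hOodd
  have hOb : Cfsg.oddCore (G ⧸ Cfsg.oddCore G) = ⊥ := Cores.pPrimeCore_quotient_pPrimeCore
  have hnsb : ¬ Group.IsSolvable (G ⧸ Cfsg.oddCore G) := fun h => hns (by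
    haveI : Group.IsSolvable ↥(Cfsg.oddCore G) := S0205.result hOodd
    exact Group.isSolvable_of_ker_le_range (Cfsg.oddCore G).subtype φ
      (by rw [QuotientGroup.ker_mk', range_subtype]))
  have hlift : ∀ T : Sylow 2 (G ⧸ Cfsg.oddCore G), ∃ S : Sylow 2 G,
      (T : Subgroup (G ⧸ Cfsg.oddCore G)) = (S : Subgroup G).map φ := fun T => by
    obtain ⟨S, rfl⟩ := Sylow.mapSurjective_surjective hsurj 2 T
    exact ⟨S, Sylow.coe_mapSurjective _ _⟩
  have hnQb : ∀ T : Sylow 2 (G ⧸ Cfsg.oddCore G), ∀ n : ℕ,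
      IsEmpty (↥(T : Subgroup (G ⧸ Cfsg.oddCore G)) ≃* QuaternionGroup (2 ^ (n + 1))) := by
    intro T n
    obtain ⟨S, hS⟩ := hlift T
    have hi : Function.Injective (φ.subgroupMap (S : Subgroup G)) := (injective_iff_map_eq_one _).2
      fun w hw => Subtype.ext (hdisj S w w.2 (congrArg Subtype.val hw))
    exact ⟨fun e => (hnQ S n).false
      ((MulEquiv.ofBijective _ ⟨hi, φ.subgroupMap_surjective _⟩).trans
        ((MulEquiv.subgroupCongr hS.symm).trans e))⟩
  obtain ⟨z, hz⟩ := exists_central H58.CI.embCriterion abFactsHolds noOuter hIb hOb hnC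
  have hgood := good_of_central hz H58.CI.embCriterion abFactsHolds noOuter hnsb hnC hnQb
  -- a Sylow 2-subgroup centralizes the core
  obtain ⟨S, hS8⟩ : ∃ S : Sylow 2 G, HasEight (S : Subgroup G) := by
    obtain ⟨T, hT⟩ : ∃ T : Sylow 2 (G ⧸ Cfsg.oddCore G), HasEight (T : Subgroup (G ⧸ Cfsg.oddCore G)) := by
      rcases hgood with h | h
      · exact h.eight
      · exact h.eight
    obtain ⟨S, hS⟩ := hlift T
    obtain ⟨B, hB, hBc, hB2, hB8⟩ := hT
    haveI := hBc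
    refine ⟨S, (S : Subgroup G) ⊓ B.comap φ, inf_le_left, ⟨⟨fun a b => Subtype.ext ?_⟩⟩, fun b hb => ?_, ?_⟩
    · refine inv_mul_eq_one.mp (hdisj S _ (mul_mem (inv_mem (mul_mem a.2.1 b.2.1)) (mul_mem b.2.1 a.2.1)) ?_)
      have h := congrArg Subtype.val (mul_comm' (⟨φ a, a.2.2⟩ : ↥B) ⟨φ b, b.2.2⟩)
      simp only [Subgroup.coe_mul] at h
      simp only [Subgroup.coe_mul, map_mul, map_inv]
      rw [h, inv_mul_cancel]
    · exact hdisj S _ (mul_mem hb.1 hb.1) (by rw [map_mul]; exact hB2 _ hb.2)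
    · refine hB8.trans (Nat.card_le_card_of_surjective
        (fun b : ↥((S : Subgroup G) ⊓ B.comap φ) => (⟨φ b, b.2.2⟩ : ↥B)) ?_)
      rintro ⟨b, hb⟩
      obtain ⟨s, hs, rfl⟩ := hS.le (hB hb)
      exact ⟨⟨s, hs, hb⟩, rfl⟩
  have hOS : Cfsg.oddCore G ≤ centralizer ((S : Subgroup G) : Set G) := by
    obtain ⟨B, hB, hBc, hB2, hB8⟩ := hS8
    haveI := hBc
    exact le_centralizer_of_rank_three hI S B hB hB2 hB8 _ hOodd (Components.le_normalizer_of_normal _)
  rcases hgood with hA | hB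
  · left
    obtain ⟨⟨n, ⟨e⟩⟩, ⟨E, hEn, hQEn, hQE, hEodd, hlist⟩, -, -⟩ := hA
    haveI := hEn
    haveI := hQEn
    set Qb := Cfsg.pCore 2 (G ⧸ Cfsg.oddCore G) with hQb
    have hQS : ∀ x ∈ Qb, ∃ p ∈ (S : Subgroup G), φ p = x := fun x hx =>
      (Sylow.coe_mapSurjective hsurj S).le (Cores.pCore_le_sylow (S.mapSurjective hsurj) hx)
    have htwo : ∀ x : G, φ x ∈ Qb → ∀ k : ℕ, x ^ 2 ^ k = 1 → x ∈ (S : Subgroup G) := by
      intro x hx k hk
      obtain ⟨p, hp, hpx⟩ := hQS _ hx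
      have ho : p⁻¹ * x ∈ Cfsg.oddCore G := QuotientGroup.eq.mp hpx
      have hcm : Commute p (p⁻¹ * x) := mem_centralizer_iff.mp (hOS ho) p hp
      have h1 : (p⁻¹ * x) ^ 2 ^ k = (p ^ 2 ^ k)⁻¹ := by
        have := hcm.mul_pow (2 ^ k)
        rw [mul_inv_cancel_left, hk] at this
        exact eq_inv_of_mul_eq_one_right this.symm
      have h2 : (p⁻¹ * x) ^ 2 ^ k = 1 := hdisj S _ (h1 ▸ inv_mem (pow_mem hp _))
        ((QuotientGroup.eq_one_iff _).mpr (pow_mem ho _))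
      have h3 : p⁻¹ * x = 1 := orderOf_eq_one_iff.mp (Nat.eq_one_of_dvd_coprimes
        (Nat.Coprime.pow_left k (Nat.coprime_two_left.mpr hOodd)) (orderOf_dvd_of_pow_eq_one h2)
        (orderOf_dvd_natCard _ ho))
      rwa [← inv_mul_eq_one.mp h3]
    have hpc : Cfsg.pCore 2 G = (S : Subgroup G) ⊓ Qb.comap φ := by
      refine le_antisymm (le_inf (Cores.pCore_le_sylow S) (map_le_iff_le_comap.mp ?_)) ?_
      · exact le_sSup (show (Cfsg.pCore 2 G).map φ ∈
          {N : Subgroup (G ⧸ Cfsg.oddCore G) | N.Normal ∧ IsPGroup 2 N} from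
            ⟨Subgroup.Normal.map inferInstance φ hsurj, (Components.isPGroup_pCore 2).map φ⟩)
      · refine le_sSup (show ((S : Subgroup G) ⊓ Qb.comap φ) ∈ {N : Subgroup G | N.Normal ∧ IsPGroup 2 N} from
          ⟨⟨fun x hx g => ?_⟩, S.isPGroup'.to_le inf_le_left⟩)
        have h1 : g * x * g⁻¹ ∈ Qb.comap φ := (inferInstance : (Qb.comap φ).Normal).conj_mem x hx.2 g
        obtain ⟨k, hk⟩ := H91.CI.exists_orderOf_pow hx.1
        exact ⟨htwo _ h1 k (by rw [conj_pow, hk, mul_one, mul_inv_cancel]), h1⟩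
    have hmap : (Cfsg.pCore 2 G).map φ = Qb := by
      refine le_antisymm ?_ fun x hx => ?_
      · rw [hpc]
        exact map_le_iff_le_comap.mpr inf_le_right
      · obtain ⟨p, hp, rfl⟩ := hQS x hx
        exact ⟨p, hpc.ge ⟨hp, hx⟩, rfl⟩
    have hcomap : Qb.comap φ = Cfsg.pCore 2 G ⊔ Cfsg.oddCore G := by
      rw [← hmap, comap_map_eq, QuotientGroup.ker_mk']
    have hle : Cfsg.pCore 2 G ⊔ Cfsg.oddCore G ≤ E.comap φ := hcomap ▸ comap_mono hQE
    refine ⟨E.comap φ, inferInstance, inferInstance, ?_, hle, ⟨n, ⟨?_⟩⟩, ?_⟩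
    · rwa [E.index_comap_of_surjective hsurj]
    · have hi : Function.Injective (φ.subgroupMap (Cfsg.pCore 2 G)) := (injective_iff_map_eq_one _).2
        fun w hw => Subtype.ext (hdisj S w (Cores.pCore_le_sylow S w.2) (congrArg Subtype.val hw))
      exact (MulEquiv.ofBijective _ ⟨hi, φ.subgroupMap_surjective _⟩).trans
        ((MulEquiv.subgroupCongr hmap).trans e)
    · let r : ↥(E.comap φ) →* ↥E ⧸ Qb.subgroupOf E := (QuotientGroup.mk' _).comp (φ.subgroupComap E)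
      have hr : Function.Surjective r := (QuotientGroup.mk'_surjective _).comp
        (MonoidHom.subgroupComap_surjective_of_surjective φ E hsurj)
      have hk : r.ker = (Cfsg.pCore 2 G ⊔ Cfsg.oddCore G).subgroupOf (E.comap φ) := by
        ext x
        rw [MonoidHom.mem_ker, MonoidHom.comp_apply, QuotientGroup.mk'_apply, QuotientGroup.eq_one_iff,
          mem_subgroupOf, mem_subgroupOf, ← hcomap, mem_comap]
        rfl
      exact hlist.congr ((QuotientGroup.quotientMulEquivOfEq hk).symm.trans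
        (QuotientGroup.quotientKerEquivOfSurjective r hr)).symm
  · right
    obtain ⟨⟨E, hEn, hEodd, Z, hZn, hZ, ⟨f⟩⟩, -, -⟩ := hB
    haveI := hEn
    haveI := hZn
    have hle : Cfsg.oddCore G ≤ E.comap φ := fun x hx => by
      rw [mem_comap, show φ x = 1 from (QuotientGroup.eq_one_iff x).2 hx]; exact one_mem _
    refine ⟨E.comap φ, inferInstance, inferInstance, Or.inl ?_, hle, Z, hZn, hZ, ?_⟩
    · rwa [E.index_comap_of_surjective hsurj]
    · let r : ↥(E.comap φ) →* ↥E := φ.subgroupComap E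
      have hr : Function.Surjective r := MonoidHom.subgroupComap_surjective_of_surjective φ E hsurj
      have hk : r.ker = (Cfsg.oddCore G).subgroupOf (E.comap φ) := by
        ext x
        rw [MonoidHom.mem_ker, mem_subgroupOf, ← QuotientGroup.eq_one_iff]
        exact ⟨fun h => congrArg Subtype.val h, fun h => Subtype.ext h⟩
      exact ⟨((QuotientGroup.quotientMulEquivOfEq hk).symm.trans
        (QuotientGroup.quotientKerEquivOfSurjective r hr)).trans f⟩

end Cfsg.Agent.H30.RankInt
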