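import Cfsg.Agent.H30.RankInt.BenderFacts
import Cfsg.Agent.H91.CI.Comp
import Cfsg.Agent.H74.CycInt.InnerTwo

/-!
# A Sylow 2-subgroup over a normal quasisimple subgroup of Bender type
-/

set_option autoImplicit false
set_option linter.style.haveILetI false
set_option linter.unusedSectionVars false

namespace Cfsg.Agent.H30.RankInt

open Subgroup Cfsg.Agent
open scoped Pointwise

universe u

local instance factTwoM : Fact (Nat.Prime 2) := ⟨Nat.prime_two⟩

theorem BenderList.congr {A B : Type u} [Group A] [Group B] (e : A ≃* B) (h : BenderList A) :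
    BenderList B := by
  rcases h with ⟨n, F, i1, i2, hn, hF, ⟨f⟩⟩ | ⟨n, F, i1, i2, hn, hF, ⟨f⟩⟩ | ⟨n, F, i1, i2, hn, hF, ⟨f⟩⟩
  · exact Or.inl ⟨n, F, i1, i2, hn, hF, ⟨e.symm.trans f⟩⟩
  · exact Or.inr (Or.inl ⟨n, F, i1, i2, hn, hF, ⟨e.symm.trans f⟩⟩)
  · exact Or.inr (Or.inr ⟨n, F, i1, i2, hn, hF, ⟨e.symm.trans f⟩⟩)

/-- The list is among the groups whose relevant automorphisms are inner. -/
theorem innerTwoHyp_of_bender {L : Type u} [Group L] [Finite L] [IsSimpleGroup L]
    (hna : ¬ IsMulCommutative L) (h : BenderList L) : H74.CycInt.InnerTwoHyp L := by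
  refine H74.CycInt.innerTwoHyp_of_list hna ?_
  rcases h with h | h | h
  · exact Or.inl h
  · exact Or.inr (Or.inl h)
  · exact Or.inr (Or.inr (Or.inl h))

variable {H : Type u} [Group H] [Finite H]

/-- If Sylow 2-subgroups with the same part in `K` are conjugate under `C(K)` then every element of a
Sylow 2-subgroup is a product from `K` and the centralizer of `K`. -/
theorem exists_mul_centralizer {K : Subgroup H} [K.Normal] (hK : Cfsg.IsComponent K)
    (hlist : BenderList (↥K ⧸ center ↥K))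
    (hcen : ∀ c ∈ K, (∀ l ∈ K, Commute l c) → ∀ S : Sylow 2 H, c ∈ (S : Subgroup H))
    (hu : ∀ S T : Sylow 2 H, (S : Subgroup H) ⊓ K ≤ (T : Subgroup H) →
      ∃ c ∈ centralizer (K : Set H), c • T = S)
    (S : Sylow 2 H) {s : H} (hs : s ∈ (S : Subgroup H)) :
    ∃ p ∈ (S : Subgroup H), p ∈ K ∧ p⁻¹ * s ∈ centralizer (K : Set H) := by
  classical
  haveI hperf : Group.IsPerfect ↥K := hK.2.1
  haveI : IsSimpleGroup (↥K ⧸ center ↥K) := hK.2.2
  set C := centralizer (K : Set H) with hC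
  set φ := QuotientGroup.mk' C with hφ
  have hsurj : Function.Surjective φ := QuotientGroup.mk'_surjective _
  set L := K.map φ with hL
  haveI hLn : L.Normal := Subgroup.Normal.map inferInstance φ hsurj
  let f : ↥K →* ↥L := φ.subgroupMap K
  have hker : center ↥K = f.ker := by
    ext k
    rw [MonoidHom.mem_ker, Subtype.ext_iff, show ((f k : ↥L) : H ⧸ C) = φ k from rfl,
      show ((1 : ↥L) : H ⧸ C) = 1 from rfl, hφ, QuotientGroup.mk'_apply, QuotientGroup.eq_one_iff,
      mem_center_iff]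
    exact ⟨fun h => mem_centralizer_iff.mpr fun l hl => congrArg Subtype.val (h ⟨l, hl⟩),
      fun h l => Subtype.ext (mem_centralizer_iff.mp h l l.2)⟩
  let e : ↥K ⧸ center ↥K ≃* ↥L := (QuotientGroup.quotientMulEquivOfEq hker).trans
    (QuotientGroup.quotientKerEquivOfSurjective f (φ.subgroupMap_surjective K))
  have hcent : centralizer (L : Set (H ⧸ C)) = ⊥ := by
    rw [eq_bot_iff_forall]
    intro x hx
    obtain ⟨g, rfl⟩ := hsurj x
    refine (QuotientGroup.eq_one_iff g).mpr (H91.CI.mem_centralizer_of_commutator_center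
      (Components.component_perfect hK) fun k hk => ?_)
    have hmem : g * k * g⁻¹ * k⁻¹ ∈ K := mul_mem (Subgroup.Normal.conj_mem inferInstance k hk g) (inv_mem hk)
    have h1 : φ (g * k * g⁻¹ * k⁻¹) = 1 := by
      have hc := mem_centralizer_iff.mp hx (φ k) (mem_map_of_mem φ hk)
      rw [map_mul, map_mul, map_mul, map_inv, map_inv, ← hc]
      group
    have h2 : g * k * g⁻¹ * k⁻¹ ∈ C := (QuotientGroup.eq_one_iff _).mp h1
    exact ⟨hmem, fun l hl => mem_centralizer_iff.mp h2 l hl⟩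
  have hinfL : ∀ T : Sylow 2 H, ((T.mapSurjective hsurj : Sylow 2 (H ⧸ C)) : Subgroup (H ⧸ C)) ⊓ L =
      ((T : Subgroup H) ⊓ K).map φ := by
    intro T
    obtain ⟨P, hP⟩ := H91.CI.exists_sylow_component hK T
    have hpg : IsPGroup 2 ↥((((T.mapSurjective hsurj : Sylow 2 (H ⧸ C)) : Subgroup (H ⧸ C)) ⊓ L).subgroupOf L) :=
      ((T.mapSurjective hsurj : Sylow 2 (H ⧸ C)).isPGroup'.to_le inf_le_left).comap_of_injective
        L.subtype L.subtype_injective
    set R := P.mapSurjective (φ.subgroupMap_surjective K) with hR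
    have hRcoe : (R : Subgroup ↥L) = (P : Subgroup ↥K).map f := Sylow.coe_mapSurjective _ P
    have hle : (R : Subgroup ↥L) ≤
        (((T.mapSurjective hsurj : Sylow 2 (H ⧸ C)) : Subgroup (H ⧸ C)) ⊓ L).subgroupOf L := by
      rw [hRcoe]
      rintro _ ⟨p, hp, rfl⟩
      rw [hP] at hp
      exact ⟨(Sylow.coe_mapSurjective hsurj T).symm ▸ mem_map_of_mem φ hp, (f p).2⟩
    have heq := R.3 hpg hle
    refine le_antisymm (fun x hx => ?_) fun x hx => ?_
    · have h1 : (⟨x, hx.2⟩ : ↥L) ∈ (P : Subgroup ↥K).map f := hRcoe ▸ heq ▸ hx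
      obtain ⟨p, hp, ep⟩ := h1
      rw [hP] at hp
      exact ⟨p, ⟨hp, p.2⟩, congrArg Subtype.val ep⟩
    · obtain ⟨p, hp, rfl⟩ := hx
      exact ⟨(Sylow.coe_mapSurjective hsurj T).symm ▸ mem_map_of_mem φ hp.1, mem_map_of_mem φ hp.2⟩
  haveI : IsSimpleGroup ↥L := e.symm.isSimpleGroup
  have hna : ¬ IsMulCommutative ↥L := fun hc => Components.qs_quotient_not_comm hK.2
    ⟨⟨fun a b => e.injective (by rw [map_mul, map_mul]; exact hc.is_comm.comm _ _)⟩⟩
  have hodd := H74.CycInt.odd_index_of_unique hcent (innerTwoHyp_of_bender hna (hlist.congr e))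
    fun T₁ T₂ h12 => by
    obtain ⟨A, rfl⟩ := Sylow.mapSurjective_surjective hsurj 2 T₁
    obtain ⟨B, rfl⟩ := Sylow.mapSurjective_surjective hsurj 2 T₂
    rw [hinfL, hinfL] at h12
    obtain ⟨c, hc, hcB⟩ := hu A B fun x hx => by
      obtain ⟨y, hy, exy⟩ : φ x ∈ ((B : Subgroup H) ⊓ K).map φ := h12 ▸ mem_map_of_mem φ hx
      have h1 : y⁻¹ * x ∈ C := QuotientGroup.eq.mp exy
      have h2 := hcen _ (mul_mem (inv_mem hy.2) hx.2) (fun l hl => mem_centralizer_iff.mp h1 l hl) B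
      have := mul_mem hy.1 h2
      rwa [mul_inv_cancel_left] at this
    have hc1 : φ c = 1 := (QuotientGroup.eq_one_iff c).mpr hc
    subst hcB
    refine Sylow.ext ?_
    rw [Sylow.coe_mapSurjective, Sylow.coe_mapSurjective]
    ext x
    simp only [mem_map]
    constructor
    · rintro ⟨y, hy, rfl⟩
      exact ⟨c⁻¹ * y * c, mem_smul_iff.mp hy, by rw [map_mul, map_mul, map_inv, hc1, inv_one, one_mul, mul_one]⟩
    · rintro ⟨y, hy, rfl⟩
      refine ⟨c * y * c⁻¹, mem_smul_iff.mpr ?_, by rw [map_mul, map_mul, map_inv, hc1, inv_one, one_mul, mul_one]⟩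
      rwa [show c⁻¹ * (c * y * c⁻¹) * c = y by group]
  have hsL : φ s ∈ L := by
    obtain ⟨k, hk⟩ := H91.CI.exists_orderOf_pow hs
    have h1 : QuotientGroup.mk' L (φ s) ^ 2 ^ k = 1 := by rw [← map_pow, ← map_pow, hk, map_one, map_one]
    have h2 : orderOf (QuotientGroup.mk' L (φ s)) ∣ L.index := orderOf_dvd_natCard _
    have h3 := orderOf_eq_one_iff.mp (Nat.eq_one_of_dvd_coprimes
      (Nat.Coprime.pow_left k (Nat.coprime_two_left.mpr hodd)) (orderOf_dvd_of_pow_eq_one h1) h2)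
    exact (QuotientGroup.eq_one_iff _).mp h3
  obtain ⟨p, hp, ep⟩ : φ s ∈ ((S : Subgroup H) ⊓ K).map φ := hinfL S ▸
    ⟨(Sylow.coe_mapSurjective hsurj S).symm ▸ mem_map_of_mem φ hs, hsL⟩
  exact ⟨p, hp.1, hp.2, QuotientGroup.eq.mp ep⟩

end Cfsg.Agent.H30.RankInt
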