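import Cfsg.Agent.H30.RankInt.Single

/-!
# A single component: consequences of a non-cyclic intersection
-/

set_option autoImplicit false
set_option linter.style.haveILetI false
set_option linter.unusedSectionVars false

namespace Cfsg.Agent.H30.RankInt

open Subgroup Cfsg.Agent
open scoped Pointwise

universe u

local instance factTwoSC : Fact (Nat.Prime 2) := ⟨Nat.prime_two⟩

/-- The centre of a quaternion group has exponent two. -/
theorem quaternion_center_sq {n : ℕ} (x : QuaternionGroup (2 ^ (n + 1)))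
    (hx : ∀ y, Commute x y) : x * x = 1 := by
  haveI : NeZero (2 ^ (n + 1)) := ⟨by positivity⟩
  haveI : NeZero (2 * 2 ^ (n + 1)) := ⟨by positivity⟩
  rcases x with i | i
  · have h := (hx (QuaternionGroup.xa 0)).eq
    simp only [QuaternionGroup.a_mul_xa, QuaternionGroup.xa_mul_a, QuaternionGroup.xa.injEq, zero_sub, zero_add] at h
    rw [QuaternionGroup.a_mul_a, eq_neg_iff_add_eq_zero.mp h.symm]
    rfl
  · exfalso
    have h := (hx (QuaternionGroup.a 1)).eq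
    simp only [QuaternionGroup.a_mul_xa, QuaternionGroup.xa_mul_a, QuaternionGroup.xa.injEq] at h
    have h4 : ((2 : ℕ) : ZMod (2 * 2 ^ (n + 1))) = 0 := by
      push_cast
      linear_combination h
    have h2 : (2 : ℕ) ≤ 2 ^ (n + 1) := le_self_pow₀ one_le_two (by omega)
    have := Nat.le_of_dvd two_pos ((ZMod.natCast_eq_zero_iff _ _).1 h4)
    omega

variable {H : Type u} [Group H] [Finite H] {z : H} (hH : Central H z) {K : Subgroup H} (hK : Single z K)
  (hTi : TiSimple (↥K ⧸ center ↥K))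
  (hnC : ∃ S T : Sylow 2 H, S ≠ T ∧ ¬ IsCyclic ↥((S : Subgroup H) ⊓ (T : Subgroup H)))
include hH hK hTi hnC

/-- The 2-core is a quaternion group. -/
theorem Single.quaternion : ∃ n : ℕ, Nonempty (↥(Cfsg.pCore 2 H) ≃* QuaternionGroup (2 ^ (n + 1))) := by
  obtain ⟨S, T, hne, hnc⟩ := hnC
  have heq : (S : Subgroup H) ⊓ (T : Subgroup H) = Cfsg.pCore 2 H :=
    le_antisymm (hK.inf_le_pCore hH hTi hne) (le_inf (Cores.pCore_le_sylow S) (Cores.pCore_le_sylow T))
  rw [heq] at hnc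
  have hcq := S0016.result 2 (Components.isPGroup_pCore 2 : IsPGroup 2 ↥(Cfsg.pCore 2 H)) fun A B hA hB =>
    S1307.eq_of_card_two (z := z) (fun v hv hv2 =>
      (hH.invol_pCore hv (H39.mul_self_of_orderOf_eq_two hv2)).resolve_left
        (H39.ne_one_of_orderOf_eq_two hv2)) hA hB
  rcases hcq with hc | ⟨-, n, ⟨e⟩⟩
  · exact absurd hc hnc
  · rcases Nat.eq_zero_or_pos n with rfl | hn
    · exact absurd (e.isCyclic.2 (by rw [pow_zero]; exact QuaternionGroup.quaternionGroup_one_isCyclic)) hnc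
    · exact ⟨n - 1, ⟨e.trans (by rw [Nat.sub_add_cancel hn])⟩⟩

/-- An element of the 2-core commuting with the 2-core is `1` or `z`. -/
theorem Single.pCore_center {q : H} (hq : q ∈ Cfsg.pCore 2 H)
    (hc : ∀ y ∈ Cfsg.pCore 2 H, Commute q y) : q = 1 ∨ q = z := by
  obtain ⟨n, ⟨e⟩⟩ := hK.quaternion hH hTi hnC
  refine hH.invol_pCore hq ?_
  have h := quaternion_center_sq (e ⟨q, hq⟩) fun y => by
    have := (show Commute (⟨q, hq⟩ : ↥(Cfsg.pCore 2 H)) (e.symm y) from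
      Subtype.ext (hc _ (e.symm y).2).eq).map e.toMonoidHom
    simpa using this
  rw [← map_mul, ← map_one e] at h
  exact congrArg Subtype.val (e.injective h)

/-- The centre of the component is inside `{1, z}`. -/
theorem Single.center_small' {c : H} (hc : c ∈ K) (hcc : ∀ l ∈ K, Commute l c) : c = 1 ∨ c = z :=
  hK.pCore_center hH hTi hnC (hK.center_pCore hH hc hcc)
    fun _ hy => hK.pCore_commute hH hy hc

/-- An element of `S` commuting with the 2-core is, up to `z`, in the component. -/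
theorem Single.exists_part (S : Sylow 2 H) {x : H} (hx : x ∈ (S : Subgroup H))
    (hc : ∀ y ∈ Cfsg.pCore 2 H, Commute x y) :
    ∃ p ∈ (S : Subgroup H), p ∈ K ∧ (x = p ∨ x = p * z) := by
  obtain ⟨p, hpS, hpK, q, hq, rfl⟩ := hK.exists_mul hH hTi S hx
  refine ⟨p, hpS, hpK, ?_⟩
  rcases hK.pCore_center hH hTi hnC hq (fun y hy => by
    have := (hK.pCore_commute hH hy hpK).inv_left.mul_left (hc y hy)
    rwa [inv_mul_cancel_left] at this) with rfl | rfl
  · exact Or.inl (mul_one p)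
  · exact Or.inr rfl

omit hTi hnC in
theorem Single.mem_normalizer_of_inf (S : Sylow 2 H) {n : H}
    (hn : ∀ x ∈ (S : Subgroup H), x ∈ K → n⁻¹ * x * n ∈ (S : Subgroup H)) :
    n ∈ normalizer ((S : Subgroup H) : Set H) :=
  mem_normalizer_of_smul (hK.eq_of_inf hH (S := S) (T := n • S)
    fun x hx => mem_smul_iff.mpr (hn x hx.1 hx.2)).symm

/-- Elements of the normalizer of `S` in the component move involutions modulo the centre transitively. -/
theorem Single.exists_mover (S : Sylow 2 H) {a b : H} (haS : a ∈ (S : Subgroup H)) (haK : a ∈ K)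
    (hbS : b ∈ (S : Subgroup H)) (hbK : b ∈ K) (ha2 : a * a = 1 ∨ a * a = z) (hb2 : b * b = 1 ∨ b * b = z)
    (ha : a ≠ 1 ∧ a ≠ z) (hb : b ≠ 1 ∧ b ≠ z) :
    ∃ n ∈ normalizer ((S : Subgroup H) : Set H), n ∈ K ∧ (n * a * n⁻¹ = b ∨ n * a * n⁻¹ = b * z) := by
  classical
  haveI := hK.normal
  set π := QuotientGroup.mk' (center ↥K) with hπ
  have hsurj : Function.Surjective π := QuotientGroup.mk'_surjective _
  obtain ⟨P, hP⟩ := H91.CI.exists_sylow_component hK.comp S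
  have hsmall : ∀ c : ↥K, c ∈ center ↥K → (c : H) = 1 ∨ (c : H) = z := fun c hc =>
    hK.center_small' hH hTi hnC c.2 fun l hl => congrArg Subtype.val (mem_center_iff.mp hc ⟨l, hl⟩)
  have hcen : ∀ w : ↥K, ((w : H) = 1 ∨ (w : H) = z) → π w = 1 := fun w hw => by
    refine (QuotientGroup.eq_one_iff w).mpr (mem_center_iff.mpr fun l => Subtype.ext ?_)
    rcases hw with h | h <;> show (l : H) * w = w * l <;> rw [h]
    · rw [mul_one, one_mul]
    · exact (hH.zc l).eq.symm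
  have hord : ∀ w : ↥K, ((w : H) * w = 1 ∨ (w : H) * w = z) → ((w : H) ≠ 1 ∧ (w : H) ≠ z) → orderOf (π w) = 2 :=
    fun w hw hw1 => H39.orderOf_eq_two_of_mul_self (by rw [← map_mul]; exact hcen _ hw) fun e => by
      rcases hsmall w ((QuotientGroup.eq_one_iff w).mp e) with h | h
      · exact hw1.1 h
      · exact hw1.2 h
  have hmem : ∀ w : ↥K, (w : H) ∈ (S : Subgroup H) →
      π w ∈ ((P.mapSurjective hsurj : Sylow 2 _) : Subgroup (↥K ⧸ center ↥K)) := fun w hw => by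
    rw [Sylow.coe_mapSurjective]
    exact mem_map_of_mem π (by rw [hP]; exact hw)
  obtain ⟨m, hm, hme⟩ := hTi.conj (P.mapSurjective hsurj) _ (hmem ⟨a, haK⟩ haS) _ (hmem ⟨b, hbK⟩ hbS)
    (hord ⟨a, haK⟩ ha2 ha) (hord ⟨b, hbK⟩ hb2 hb)
  obtain ⟨n, rfl⟩ := hsurj m
  refine ⟨(n : H), hK.mem_normalizer_of_inf hH S fun x hxS hxK => ?_, n.2, ?_⟩
  · have h1 : π (n⁻¹ * ⟨x, hxK⟩ * n) ∈ ((P.mapSurjective hsurj : Sylow 2 _) : Subgroup (↥K ⧸ center ↥K)) := by
      have h := (mem_normalizer_iff.mp (inv_mem hm) _).mp (hmem ⟨x, hxK⟩ hxS)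
      rwa [inv_inv, ← map_inv, ← map_mul, ← map_mul] at h
    rw [Sylow.coe_mapSurjective] at h1
    obtain ⟨w, hw, ew⟩ := h1
    rw [hP] at hw
    have hc : w⁻¹ * (n⁻¹ * ⟨x, hxK⟩ * n) ∈ center ↥K := QuotientGroup.eq.mp ew
    have hcS : ((w⁻¹ * (n⁻¹ * ⟨x, hxK⟩ * n) : ↥K) : H) ∈ (S : Subgroup H) := by
      rcases hsmall _ hc with h | h <;> rw [h]
      · exact one_mem _
      · exact hH.z_mem S
    have := mul_mem (show (w : H) ∈ (S : Subgroup H) from hw) hcS
    rwa [← Subgroup.coe_mul, mul_inv_cancel_left] at this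
  · rw [← map_inv, ← map_mul, ← map_mul] at hme
    have hc : (n * ⟨a, haK⟩ * n⁻¹)⁻¹ * ⟨b, hbK⟩ ∈ center ↥K := QuotientGroup.eq.mp hme
    rcases hsmall _ hc with h | h
    · exact Or.inl (inv_mul_eq_one.mp h)
    · refine Or.inr ?_
      rw [show ((((n * ⟨a, haK⟩ * n⁻¹)⁻¹ * ⟨b, hbK⟩ : ↥K)) : H) = ((n : H) * a * (n : H)⁻¹)⁻¹ * b from rfl,
        inv_mul_eq_iff_eq_mul] at h
      rw [h, mul_assoc _ z z, H39.mul_self_of_orderOf_eq_two hH.z2, mul_one]

/-- Elements of `S` in the component of order two modulo the centre are central in it modulo the centre. -/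
theorem Single.central_mod (S : Sylow 2 H) {a : H} (haS : a ∈ (S : Subgroup H)) (haK : a ∈ K)
    (ha2 : a * a = 1 ∨ a * a = z) {s : H} (hsS : s ∈ (S : Subgroup H)) (hsK : s ∈ K) :
    s * a * s⁻¹ = a ∨ s * a * s⁻¹ = a * z := by
  classical
  set π := QuotientGroup.mk' (center ↥K) with hπ
  have hsurj : Function.Surjective π := QuotientGroup.mk'_surjective _
  obtain ⟨P, hP⟩ := H91.CI.exists_sylow_component hK.comp S
  have hmem : ∀ w : ↥K, (w : H) ∈ (S : Subgroup H) →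
      π w ∈ ((P.mapSurjective hsurj : Sylow 2 _) : Subgroup (↥K ⧸ center ↥K)) := fun w hw => by
    rw [Sylow.coe_mapSurjective]
    exact mem_map_of_mem π (by rw [hP]; exact hw)
  have hsq : π ⟨a, haK⟩ * π ⟨a, haK⟩ = 1 := by
    rw [← map_mul]
    refine (QuotientGroup.eq_one_iff _).mpr (mem_center_iff.mpr fun l => Subtype.ext ?_)
    show (l : H) * (a * a) = a * a * l
    rcases ha2 with h | h <;> rw [h]
    · rw [mul_one, one_mul]
    · exact (hH.zc l).eq.symm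
  have hcomm := hTi.central _ _ (hmem ⟨a, haK⟩ haS) hsq _ (hmem ⟨s, hsK⟩ hsS)
  have hc : (⟨a, haK⟩ : ↥K)⁻¹ * (⟨s, hsK⟩ * ⟨a, haK⟩ * ⟨s, hsK⟩⁻¹) ∈ center ↥K := by
    refine (QuotientGroup.eq_one_iff _).mp ?_
    show π _ = 1
    rw [map_mul, map_inv, map_mul, map_mul, map_inv, hcomm.eq, mul_inv_cancel_right, inv_mul_cancel]
  rcases hK.center_small' hH hTi hnC (SetLike.coe_mem _)
    (fun l hl => congrArg Subtype.val (mem_center_iff.mp hc ⟨l, hl⟩)) with h | h
  · exact Or.inl (inv_mul_eq_one.mp h).symm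
  · exact Or.inr (inv_mul_eq_iff_eq_mul.mp h)

/-- No subgroup of `S` normalized by `S` is quaternion-like with involution other than `z`. -/
theorem Single.no_normal_quaternion (S : Sylow 2 H) (R : Subgroup H) (hRS : R ≤ (S : Subgroup H))
    (hSR : (S : Subgroup H) ≤ normalizer (R : Set H)) {v : H} (hvz : v ≠ z)
    (hv : ∀ r ∈ R, r * r = 1 → r = 1 ∨ r = v) {x y : H} (hx : x ∈ R) (hy : y ∈ R)
    (hxx : x * x = v) (hv2 : v * v = 1) (hv1 : v ≠ 1) (hxy : y * x * y⁻¹ = x * v) : False := by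
  classical
  haveI := hK.normal
  have hzz := H39.mul_self_of_orderOf_eq_two hH.z2
  -- disjoint normal subgroups commute
  have hcomm : ∀ A B : Subgroup H, A ≤ (S : Subgroup H) → B ≤ (S : Subgroup H) →
      (S : Subgroup H) ≤ normalizer (A : Set H) → (S : Subgroup H) ≤ normalizer (B : Set H) →
      ∀ u w : H, (∀ r ∈ A, r * r = 1 → r = 1 ∨ r = u) → (∀ r ∈ B, r * r = 1 → r = 1 ∨ r = w) → u ≠ w →
        ∀ a ∈ A, ∀ b ∈ B, Commute a b := by
    intro A B hA hB hnA hnB u w hu hw huw a ha b hb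
    have hbot : A ⊓ B = ⊥ := by
      by_contra hne
      obtain ⟨r, hr, hr2, -⟩ := exists_central_involution (S.isPGroup'.to_le (inf_le_left.trans hA)) hne
      have h1 := (hu r hr.1 (H39.mul_self_of_orderOf_eq_two hr2)).resolve_left
        (H39.ne_one_of_orderOf_eq_two hr2)
      have h2 := (hw r hr.2 (H39.mul_self_of_orderOf_eq_two hr2)).resolve_left
        (H39.ne_one_of_orderOf_eq_two hr2)
      exact huw (h1.symm.trans h2)
    have hmem : a * b * a⁻¹ * b⁻¹ ∈ A ⊓ B := by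
      refine ⟨?_, mul_mem (show a * b * a⁻¹ ∈ B from (mem_normalizer_iff.mp (hnB (hA ha)) b).mp hb)
        (show b⁻¹ ∈ B from inv_mem hb)⟩
      rw [show a * b * a⁻¹ * b⁻¹ = a * (b * a⁻¹ * b⁻¹) by group]
      exact mul_mem ha (show b * a⁻¹ * b⁻¹ ∈ A from (mem_normalizer_iff.mp (hnA (hB hb)) _).mp (inv_mem ha))
    rw [hbot, mem_bot, mul_inv_eq_one, mul_inv_eq_iff_eq_mul] at hmem
    exact hmem
  have hQn : (S : Subgroup H) ≤ normalizer (Cfsg.pCore 2 H : Set H) :=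
    fun s _ => Components.le_normalizer_of_normal (A := Cfsg.pCore 2 H) ⊤ (mem_top s)
  have hRQ : ∀ r ∈ R, ∀ q ∈ Cfsg.pCore 2 H, Commute r q :=
    hcomm R (Cfsg.pCore 2 H) hRS (Cores.pCore_le_sylow S) hSR hQn v z hv
      (fun r hr hr2 => hH.invol_pCore hr hr2) hvz
  obtain ⟨p, hpS, hpK, hp⟩ := hK.exists_part hH hTi hnC S (hRS hx) (hRQ x hx)
  obtain ⟨p', hp'S, hp'K, hp'⟩ := hK.exists_part hH hTi hnC S (hRS hy) (hRQ y hy)
  have hmz : ∀ e : H, (e = 1 ∨ e = z) → ∀ g : H, Commute e g ∧ e * e = 1 := by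
    rintro e (rfl | rfl) g
    · exact ⟨Commute.one_left g, one_mul 1⟩
    · exact ⟨hH.zc g, hzz⟩
  obtain ⟨e, he, rfl⟩ : ∃ e, (e = 1 ∨ e = z) ∧ x = p * e := by
    rcases hp with h | h
    · exact ⟨1, Or.inl rfl, by rw [mul_one, h]⟩
    · exact ⟨z, Or.inr rfl, h⟩
  obtain ⟨e', he', rfl⟩ : ∃ e, (e = 1 ∨ e = z) ∧ y = p' * e := by
    rcases hp' with h | h
    · exact ⟨1, Or.inl rfl, by rw [mul_one, h]⟩
    · exact ⟨z, Or.inr rfl, h⟩
  have hpp : p * p = v := by
    rw [← hxx, show p * e * (p * e) = p * (e * p) * e by group, (hmz e he p).1.eq,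
      show p * (p * e) * e = p * p * (e * e) by group, (hmz e he p).2, mul_one]
  have hpp' : p' * p * p'⁻¹ = p * v := by
    have h1 : p' * e' * (p * e) * (p' * e')⁻¹ = p' * p * p'⁻¹ * e := by
      rw [mul_assoc p' e', (hmz e' he' (p * e)).1.eq, show p' * (p * e * e') * (p' * e')⁻¹ =
        p' * p * (e * p'⁻¹) by group, (hmz e he p'⁻¹).1.eq, ← mul_assoc]
    rw [h1, mul_assoc p e v, (hmz e he v).1.eq, ← mul_assoc] at hxy
    exact mul_right_cancel hxy
  have hvK : v ∈ K := hpp ▸ mul_mem hpK hpK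
  have hvS : v ∈ (S : Subgroup H) := hpp ▸ mul_mem hpS hpS
  -- two further translates
  obtain ⟨P, hP⟩ := H91.CI.exists_sylow_component hK.comp S
  have hsurj : Function.Surjective (QuotientGroup.mk' (center ↥K)) := QuotientGroup.mk'_surjective _
  obtain ⟨a, haQ, b, hbQ, ha2, hb2, hab⟩ := hTi.two (P.mapSurjective hsurj)
  have hex : ∃ w : ↥K, (w : H) ∈ (S : Subgroup H) ∧ ((w : H) * w = 1 ∨ (w : H) * w = z) ∧
      ((w : H) ≠ 1 ∧ (w : H) ≠ z) ∧ ((w : H) ≠ v ∧ (w : H) ≠ v * z) := by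
    have hlift : ∀ c ∈ ((P.mapSurjective hsurj : Sylow 2 _) : Subgroup (↥K ⧸ center ↥K)), orderOf c = 2 →
        c ≠ QuotientGroup.mk' (center ↥K) ⟨v, hvK⟩ → ∃ w : ↥K, (w : H) ∈ (S : Subgroup H) ∧
        ((w : H) * w = 1 ∨ (w : H) * w = z) ∧ ((w : H) ≠ 1 ∧ (w : H) ≠ z) ∧ ((w : H) ≠ v ∧ (w : H) ≠ v * z) := by
      intro c hc hc2 hcv
      rw [Sylow.coe_mapSurjective] at hc
      obtain ⟨w, hw, rfl⟩ := hc
      rw [hP] at hw
      refine ⟨w, hw, ?_, ⟨fun h => ?_, fun h => ?_⟩, fun h => ?_, fun h => ?_⟩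
      · have h1 : w * w ∈ center ↥K := (QuotientGroup.eq_one_iff _).mp
          (show QuotientGroup.mk' (center ↥K) (w * w) = 1 by rw [map_mul, H39.mul_self_of_orderOf_eq_two hc2])
        exact hK.center_small' hH hTi hnC (mul_mem w.2 w.2)
          fun l hl => congrArg Subtype.val (mem_center_iff.mp h1 ⟨l, hl⟩)
      · refine H39.ne_one_of_orderOf_eq_two hc2 ?_
        rw [show w = 1 from Subtype.ext h, map_one]
      · refine H39.ne_one_of_orderOf_eq_two hc2 ((QuotientGroup.eq_one_iff w).mpr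
          (mem_center_iff.mpr fun l => Subtype.ext ?_))
        show (l : H) * w = w * l
        rw [h]
        exact (hH.zc l).eq.symm
      · exact hcv (congrArg _ (Subtype.ext h))
      · refine hcv (QuotientGroup.eq.mpr (mem_center_iff.mpr fun l => Subtype.ext ?_))
        show (l : H) * ((w : H)⁻¹ * v) = (w : H)⁻¹ * v * l
        rw [h, mul_inv_rev, mul_assoc z⁻¹, inv_mul_cancel, mul_one, inv_eq_of_mul_eq_one_right hzz]
        exact (hH.zc l).eq.symm
    by_cases hav : a = QuotientGroup.mk' (center ↥K) ⟨v, hvK⟩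
    · exact hlift b hbQ hb2 (fun h => hab (hav.trans h.symm))
    · exact hlift a haQ ha2 hav
  obtain ⟨w, hwS, hw2, hw1, hwv⟩ := hex
  obtain ⟨n, hnS, hnK, hn⟩ := hK.exists_mover hH hTi hnC S hvS hvK hwS w.2 (Or.inl hv2) hw2
    ⟨hv1, hvz⟩ hw1
  set v₂ := n * v * n⁻¹ with hv₂
  have hv₂K : v₂ ∈ K := mul_mem (mul_mem hnK hvK) (inv_mem hnK)
  have hv₂S : v₂ ∈ (S : Subgroup H) := (mem_normalizer_iff.mp hnS v).mp hvS
  have hne : v₂ ≠ v ∧ v₂ ≠ v * z := by
    rcases hn with h | h <;> rw [h]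
    · exact hwv
    · refine ⟨fun e => hwv.2 ?_, fun e => hwv.1 (mul_right_cancel e)⟩
      rw [← e, mul_assoc, hzz, mul_one]
  have hv₂2 : v₂ * v₂ = 1 := by
    rw [hv₂, show n * v * n⁻¹ * (n * v * n⁻¹) = n * (v * v) * n⁻¹ by group, hv2, mul_one, mul_inv_cancel]
  have hprod : v * v₂ * (v * v₂) = 1 ∨ v * v₂ * (v * v₂) = z := by
    rcases hK.central_mod hH hTi hnC S hv₂S hv₂K (Or.inl hv₂2) hvS hvK with h | h
    · refine Or.inl ?_
      rw [show v * v₂ * (v * v₂) = (v * v₂ * v⁻¹) * (v * v) * v₂ by group, h, hv2, mul_one, hv₂2]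
    · refine Or.inr ?_
      rw [show v * v₂ * (v * v₂) = (v * v₂ * v⁻¹) * (v * v) * v₂ by group, h, hv2, mul_one, mul_assoc,
        (hH.zc v₂).eq, ← mul_assoc, hv₂2, one_mul]
  have hprod1 : v * v₂ ≠ 1 ∧ v * v₂ ≠ z := by
    refine ⟨fun h => hne.1 ?_, fun h => hne.2 ?_⟩
    · rw [← mul_left_cancel (h.trans hv2.symm)]
    · calc v₂ = v * v * v₂ := by rw [hv2, one_mul]
        _ = v * z := by rw [mul_assoc, h]
  obtain ⟨m, hmS, hmK, hm⟩ := hK.exists_mover hH hTi hnC S hvS hvK (mul_mem hvS hv₂S)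
    (mul_mem hvK hv₂K) (Or.inl hv2) hprod ⟨hv1, hvz⟩ hprod1
  set v₃ := m * v * m⁻¹ with hv₃
  -- the translates of `R`
  have htr : ∀ g ∈ normalizer ((S : Subgroup H) : Set H),
      R.map (MulAut.conj g).toMonoidHom ≤ (S : Subgroup H) ∧
        (S : Subgroup H) ≤ normalizer (R.map (MulAut.conj g).toMonoidHom : Set H) ∧
        ∀ r ∈ R.map (MulAut.conj g).toMonoidHom, r * r = 1 → r = 1 ∨ r = g * v * g⁻¹ := by
    intro g hg
    refine ⟨?_, fun s hs => ?_, ?_⟩
    · rintro _ ⟨r, hr, rfl⟩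
      exact (mem_normalizer_iff.mp hg r).mp (hRS hr)
    · have hs' : g⁻¹ * s * g ∈ (S : Subgroup H) := by
        have := (mem_normalizer_iff.mp (inv_mem hg) s).mp hs
        rwa [inv_inv] at this
      refine mem_normalizer_iff_map_conj_eq.mpr ?_
      conv_rhs => rw [← mem_normalizer_iff_map_conj_eq.mp (hSR hs')]
      rw [map_map, map_map]
      refine congrArg (fun f : H →* H => R.map f) (MonoidHom.ext fun r => ?_)
      simp [mul_assoc]
    · rintro _ ⟨r, hr, rfl⟩ h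
      rcases hv r hr ((MulAut.conj g).injective (by rw [map_mul, map_one]; exact h)) with rfl | rfl
      · exact Or.inl (map_one _)
      · exact Or.inr rfl
  obtain ⟨hR₂S, hR₂n, hR₂⟩ := htr n hnS
  obtain ⟨hR₃S, hR₃n, hR₃⟩ := htr m hmS
  have hv₃v : v₃ ≠ v := by
    rcases hm with h | h <;> rw [h] <;> intro e
    · exact H39.ne_one_of_orderOf_eq_two (H39.orderOf_eq_two_of_mul_self hv₂2 (fun e' => hne.1 (by
        rw [mul_eq_left] at e; exact absurd e' (fun h0 => by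
          rw [hv₂, conj_eq_one_iff] at h0; exact hv1 h0)))) (mul_eq_left.mp e)
    · rw [mul_assoc, mul_eq_left] at e
      have h0 : v₂ = z := by
        calc v₂ = v₂ * (z * z) := by rw [hzz, mul_one]
          _ = z := by rw [← mul_assoc, e, one_mul]
      rw [hv₂] at h0
      refine hvz ?_
      rw [show v = n⁻¹ * (n * v * n⁻¹) * n by group, h0, mul_assoc, (hH.zc n).eq, inv_mul_cancel_left]
  have hv₃v₂ : v₃ ≠ v₂ := by
    rcases hm with h | h <;> rw [h] <;> intro e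
    · exact hv1 (mul_eq_right.mp e)
    · refine hvz ?_
      rw [mul_assoc, ← (hH.zc v₂).eq, ← mul_assoc, mul_eq_right] at e
      calc v = v * (z * z) := by rw [hzz, mul_one]
        _ = z := by rw [← mul_assoc, e, one_mul]
  have hxR : p * e ∈ R := hx
  have hyR : p' * e' ∈ R := hy
  have hsplit : ∀ (g : H), ∀ q ε : H, (ε = 1 ∨ ε = z) → g * (q * ε) * g⁻¹ = g * q * g⁻¹ * ε := by
    intro g q ε hε
    rw [show g * (q * ε) * g⁻¹ = g * q * (ε * g⁻¹) by group, (hmz ε hε g⁻¹).1.eq, ← mul_assoc]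
  have hstrip : ∀ a b ε δ : H, (ε = 1 ∨ ε = z) → (δ = 1 ∨ δ = z) → Commute (a * ε) (b * δ) → Commute a b := by
    intro a b ε δ hε hδ h
    have h1 := h.mul_left (hmz ε hε (b * δ)).1.inv_left
    rw [mul_inv_cancel_right] at h1
    have h2 := h1.mul_right (hmz δ hδ a).1.symm.inv_right
    rwa [mul_inv_cancel_right] at h2
  have c12 : ∀ q ε : H, (ε = 1 ∨ ε = z) → q * ε ∈ R → ∀ q' ε' : H, (ε' = 1 ∨ ε' = z) → q' * ε' ∈ R →
      Commute q (n * q' * n⁻¹) ∧ Commute q (m * q' * m⁻¹) ∧ Commute (n * q * n⁻¹) (m * q' * m⁻¹) := by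
    intro q ε hε hq q' ε' hε' hq'
    have m2 : n * q' * n⁻¹ * ε' ∈ R.map (MulAut.conj n).toMonoidHom := ⟨q' * ε', hq', hsplit n q' ε' hε'⟩
    have m2' : n * q * n⁻¹ * ε ∈ R.map (MulAut.conj n).toMonoidHom := ⟨q * ε, hq, hsplit n q ε hε⟩
    have m3 : m * q' * m⁻¹ * ε' ∈ R.map (MulAut.conj m).toMonoidHom := ⟨q' * ε', hq', hsplit m q' ε' hε'⟩
    exact ⟨hstrip _ _ ε ε' hε hε' (hcomm R _ hRS hR₂S hSR hR₂n v _ hv hR₂ hne.1.symm _ hq _ m2),
      hstrip _ _ ε ε' hε hε' (hcomm R _ hRS hR₃S hSR hR₃n v _ hv hR₃ hv₃v.symm _ hq _ m3),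
      hstrip _ _ ε ε' hε hε' (hcomm _ _ hR₂S hR₃S hR₂n hR₃n _ _ hR₂ hR₃ hv₃v₂.symm _ m2' _ m3)⟩
  obtain ⟨c1, c2, c3⟩ := c12 p e he hxR p e he hxR
  obtain ⟨d1, d2, -⟩ := c12 p' e' he' hyR p e he hxR
  set p₂ := n * p * n⁻¹ with hp₂
  set p₃ := m * p * m⁻¹ with hp₃
  have hsq₂ : p₂ * p₂ = v₂ := by
    rw [hp₂, hv₂, ← hpp]; group
  have hsq₃ : p₃ * p₃ = v₃ := by
    rw [hp₃, hv₃, ← hpp]; group
  set a := p * p₂ * p₃ with ha
  have haK : a ∈ K := mul_mem (mul_mem hpK (mul_mem (mul_mem hnK hpK) (inv_mem hnK)))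
    (mul_mem (mul_mem hmK hpK) (inv_mem hmK))
  have haS : a ∈ (S : Subgroup H) :=
    mul_mem (mul_mem hpS ((mem_normalizer_iff.mp hnS p).mp hpS)) ((mem_normalizer_iff.mp hmS p).mp hpS)
  have hasq : a * a = 1 ∨ a * a = z := by
    have e1 : a * a = v * v₂ * v₃ := by
      calc a * a = p * p₂ * (p₃ * (p * p₂)) * p₃ := by rw [ha]; group
        _ = p * p₂ * (p * p₂ * p₃) * p₃ := by rw [(c2.symm.mul_right c3.symm).eq]
        _ = p * (p₂ * p) * p₂ * (p₃ * p₃) := by group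
        _ = p * p * (p₂ * p₂) * (p₃ * p₃) := by rw [c1.symm.eq]; group
        _ = v * v₂ * v₃ := by rw [hpp, hsq₂, hsq₃]
    rw [e1]
    rcases hprod with hh | hh <;> rcases hm with h | h <;> rw [h]
    · exact Or.inl hh
    · exact Or.inr (by rw [← mul_assoc, hh, one_mul])
    · exact Or.inr hh
    · exact Or.inl (by rw [← mul_assoc, hh, hzz])
  have hmove : p' * a * p'⁻¹ = v * a := by
    calc p' * a * p'⁻¹ = (p' * p * p'⁻¹) * (p' * (p₂ * p₃) * p'⁻¹) := by rw [ha]; group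
      _ = p * v * (p₂ * p₃) := by rw [(d1.mul_right d2).eq, mul_inv_cancel_right, hpp']
      _ = v * a := by
        rw [ha, show v * (p * p₂ * p₃) = v * p * (p₂ * p₃) by group]
        congr 1
        rw [← hpp, ← mul_assoc]
  rcases hK.central_mod hH hTi hnC S haS haK hasq hp'S hp'K with h | h
  · rw [hmove, mul_eq_right] at h
    exact hv1 h
  · rw [hmove, ← (hH.zc a).eq, mul_left_inj] at h
    exact hvz h

end Cfsg.Agent.H30.RankInt
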