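import Cfsg.Agent.H30.RankInt.TwoComp
import Cfsg.Agent.H30.RankInt.SingleCons

/-!
# The core-free case with a central involution
-/

set_option autoImplicit false
set_option linter.style.haveILetI false
set_option linter.unusedSectionVars false

namespace Cfsg.Agent.H30.RankInt

open Subgroup Cfsg.Agent
open scoped Pointwise

universe u

local instance factTwoO : Fact (Nat.Prime 2) := ⟨Nat.prime_two⟩

/-- A quasisimple group with one involution has no outer involution of the kind arising here. -/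
def NoOuter : Prop :=
  ∀ {H : Type u} [Group H] [Finite H] (K : Subgroup H) [K.Normal] [Group.IsPerfect ↥K],
    IsSimpleGroup (↥K ⧸ center ↥K) → ∀ {z : H}, z ∈ K → orderOf z = 2 →
    (∀ h : H, (∀ l ∈ K, Commute l h) → h = 1 ∨ h = z) → (∀ x ∈ K, x * x = 1 → x = 1 ∨ x = z) →
    ∀ (P : Sylow 2 ↥K) {w : H}, w * w = 1 → w ∉ K →
    w ∈ normalizer (((P : Subgroup ↥K).map K.subtype) : Set H) →
    (∀ g ∈ K, Commute g w → g ∈ normalizer (((P : Subgroup ↥K).map K.subtype) : Set H)) → False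

/-- The conclusion with a quaternion 2-core. -/
structure GoodA (H : Type u) [Group H] (z : H) : Prop where
  quat : ∃ n : ℕ, Nonempty (↥(Cfsg.pCore 2 H) ≃* QuaternionGroup (2 ^ (n + 1)))
  top : ∃ (E : Subgroup H) (_ : E.Normal) (_ : ((Cfsg.pCore 2 H).subgroupOf E).Normal),
    Cfsg.pCore 2 H ≤ E ∧ Odd E.index ∧ BenderList (↥E ⧸ (Cfsg.pCore 2 H).subgroupOf E)
  eight : ∃ S : Sylow 2 H, HasEight (S : Subgroup H)
  noR : ∀ (S : Sylow 2 H) (R : Subgroup H), R ≤ (S : Subgroup H) →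
    (S : Subgroup H) ≤ normalizer (R : Set H) → ∀ {v : H}, v ≠ z →
    (∀ r ∈ R, r * r = 1 → r = 1 ∨ r = v) → ∀ {x y : H}, x ∈ R → y ∈ R → x * x = v → v * v = 1 → v ≠ 1 →
    y * x * y⁻¹ = x * v → False

variable {H : Type u} [Group H] [Finite H] {z : H}

omit [Finite H] in
/-- An embedded quaternion group gives a quaternion pair. -/
theorem pair_of_quaternion {n : ℕ} (ι : QuaternionGroup (2 ^ (n + 1)) →* H) (hι : Function.Injective ι)
    (hone : ∀ g, g * g = 1 → ι g = 1 ∨ ι g = z) :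
    ∃ g g', ι g * ι g = z ∧ ι g' * ι g' = z ∧ ι g' * ι g * (ι g')⁻¹ = ι g * z := by
  haveI : NeZero (2 ^ (n + 1)) := ⟨by positivity⟩
  haveI : NeZero (2 * 2 ^ (n + 1)) := ⟨by positivity⟩
  set N : ZMod (2 * 2 ^ (n + 1)) := ((2 ^ (n + 1) : ℕ) : ZMod (2 * 2 ^ (n + 1))) with hN
  have hNN : N + N = 0 := by rw [hN, ← Nat.cast_add, ← two_mul, ZMod.natCast_self]
  have hN0 : N ≠ 0 := fun h' => by
    have := Nat.le_of_dvd (Nat.two_pow_pos _) ((ZMod.natCast_eq_zero_iff _ _).1 h')
    have := Nat.two_pow_pos (n + 1)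
    omega
  have hNz : ι (QuaternionGroup.a N) = z := by
    refine (hone _ ?_).resolve_left fun h => hN0
      (QuaternionGroup.a.inj ((hι (h.trans (map_one ι).symm)).trans QuaternionGroup.one_def))
    rw [QuaternionGroup.a_mul_a, hNN]
    rfl
  set b : ZMod (2 * 2 ^ (n + 1)) := ((2 ^ n : ℕ) : ZMod (2 * 2 ^ (n + 1))) with hb
  have hbb : b + b = N := by
    rw [hb, hN, ← Nat.cast_add, ← two_mul]
    congr 1
    rw [pow_succ']
  refine ⟨QuaternionGroup.a b, QuaternionGroup.xa 0, ?_, ?_, ?_⟩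
  · rw [← map_mul, QuaternionGroup.a_mul_a, hbb, hNz]
  · rw [← map_mul, QuaternionGroup.xa_mul_xa, add_zero, sub_zero, ← hN, hNz]
  · rw [mul_inv_eq_iff_eq_mul, ← hNz, ← map_mul, ← map_mul, ← map_mul, QuaternionGroup.xa_mul_a,
      QuaternionGroup.a_mul_a, QuaternionGroup.a_mul_xa, zero_add, zero_sub]
    congr 2
    linear_combination hbb + hNN

variable (hH : Central H z)
include hH

/-- The single component with a non-cyclic intersection. -/
theorem goodA_of_single {K : Subgroup H} (hK : Single z K) (hTi : TiSimple (↥K ⧸ center ↥K))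
    (hnC : ∃ S T : Sylow 2 H, S ≠ T ∧ ¬ IsCyclic ↥((S : Subgroup H) ⊓ (T : Subgroup H))) :
    GoodA H z := by
  classical
  haveI := hK.normal
  haveI hQn : (Cfsg.pCore 2 H).Normal := inferInstance
  have hzz := H39.mul_self_of_orderOf_eq_two hH.z2
  have hz1 := H39.ne_one_of_orderOf_eq_two hH.z2
  obtain ⟨S⟩ : Nonempty (Sylow 2 H) := inferInstance
  have hsub : (Cfsg.pCore 2 H).subgroupOf K = center ↥K := by
    ext k
    rw [mem_subgroupOf, mem_center_iff]
    exact ⟨fun h l => Subtype.ext (hK.pCore_commute hH h l.2).eq, fun h =>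
      hK.center_pCore hH k.2 fun l hl => congrArg Subtype.val (h ⟨l, hl⟩)⟩
  refine ⟨hK.quaternion hH hTi hnC, ⟨K ⊔ Cfsg.pCore 2 H, inferInstance, inferInstance, le_sup_right, ?_, ?_⟩,
    ?_, fun S R h1 h2 {v} hvz hv {x y} hx hy hxx hv2 hv1 hxy =>
      hK.no_normal_quaternion hH hTi hnC S R h1 h2 hvz hv hx hy hxx hv2 hv1 hxy⟩
  · rw [← Nat.not_even_iff_odd, even_iff_two_dvd]
    refine fun h => S.not_dvd_index (h.trans (Subgroup.index_dvd_of_le fun s hs => ?_))
    obtain ⟨p, -, hp, q, hq, rfl⟩ := hK.exists_mul hH hTi S hs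
    exact mul_mem (mem_sup_left hp) (mem_sup_right hq)
  · exact hTi.list.congr ((QuotientGroup.quotientMulEquivOfEq hsub).symm.trans
      (QuotientGroup.quotientInfEquivProdNormalQuotient K (Cfsg.pCore 2 H)))
  -- two involutions modulo the centre
  obtain ⟨P, hP⟩ := H91.CI.exists_sylow_component hK.comp S
  set π := QuotientGroup.mk' (center ↥K) with hπ
  have hsurj : Function.Surjective π := QuotientGroup.mk'_surjective _
  obtain ⟨a, ha, b, hb, ha2, hb2, hab⟩ := hTi.two (P.mapSurjective hsurj)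
  have hsmall : ∀ c : ↥K, c ∈ center ↥K → (c : H) = 1 ∨ (c : H) = z := fun c hc =>
    hK.center_small' hH hTi hnC c.2 fun l hl => congrArg Subtype.val (mem_center_iff.mp hc ⟨l, hl⟩)
  have hlift : ∀ c ∈ ((P.mapSurjective hsurj : Sylow 2 _) : Subgroup (↥K ⧸ center ↥K)), orderOf c = 2 →
      ∃ w : ↥K, π w = c ∧ (w : H) ∈ (S : Subgroup H) ∧ ((w : H) * w = 1 ∨ (w : H) * w = z) ∧
        ((w : H) ≠ 1 ∧ (w : H) ≠ z) := by
    intro c hc hc2
    rw [Sylow.coe_mapSurjective] at hc
    obtain ⟨w, hw, rfl⟩ := hc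
    rw [hP] at hw
    refine ⟨w, rfl, hw, hsmall _ ((QuotientGroup.eq_one_iff _).mp
      (show π (w * w) = 1 by rw [map_mul]; exact H39.mul_self_of_orderOf_eq_two hc2)), fun h => ?_, fun h => ?_⟩
    · refine H39.ne_one_of_orderOf_eq_two hc2 ?_
      rw [show w = 1 from Subtype.ext h, map_one]
    · refine H39.ne_one_of_orderOf_eq_two hc2 ((QuotientGroup.eq_one_iff w).mpr
        (mem_center_iff.mpr fun l => Subtype.ext ?_))
      show (l : H) * w = w * l
      rw [h]
      exact (hH.zc l).eq.symm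
  obtain ⟨u, rfl, huS, hu2, hu1⟩ := hlift a ha ha2
  obtain ⟨w, rfl, hwS, hw2, hw1⟩ := hlift b hb hb2
  have hsame : ∀ t : ↥K, (t : H) ∈ (S : Subgroup H) → ((t : H) * t = 1 ∨ (t : H) * t = z) →
      ((t : H) ≠ 1 ∧ (t : H) ≠ z) → (t : H) * t = u * u := by
    intro t htS ht2 ht1
    obtain ⟨n, -, -, hn⟩ := hK.exists_mover hH hTi hnC S huS u.2 htS t.2 hu2 ht2 hu1 ht1
    have h0 : n * u * n⁻¹ * (n * u * n⁻¹) = (u : H) * u := by
      rw [show n * u * n⁻¹ * (n * u * n⁻¹) = n * ((u : H) * u) * n⁻¹ by group]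
      rcases hu2 with h | h <;> rw [h]
      · rw [mul_one, mul_inv_cancel]
      · rw [← (hH.zc n).eq, mul_inv_cancel_right]
    rcases hn with h | h <;> rw [h] at h0
    · exact h0
    · rw [show (t : H) * z * (t * z) = t * (z * t) * z by group, (hH.zc _).eq,
        show (t : H) * (t * z) * z = t * t * (z * z) by group, hzz, mul_one] at h0
      exact h0
  have hw' := hsame w hwS hw2 hw1
  have hne : (w : H) ≠ u ∧ (w : H) ≠ z * u := by
    refine ⟨fun h => hab (congrArg π (Subtype.ext h.symm)), fun h => hab (QuotientGroup.eq.mpr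
      (mem_center_iff.mpr fun l => Subtype.ext ?_))⟩
    show (l : H) * ((u : H)⁻¹ * w) = (u : H)⁻¹ * w * l
    rw [h, (hH.zc u).eq, inv_mul_cancel_left]
    exact (hH.zc l).eq.symm
  have huw1 : (u : H) * w ≠ 1 ∧ (u : H) * w ≠ z := by
    have hui : (u : H)⁻¹ = u ∨ (u : H)⁻¹ = z * u := by
      rcases hu2 with h | h
      · exact Or.inl (inv_eq_of_mul_eq_one_right h)
      · refine Or.inr (inv_eq_of_mul_eq_one_right ?_)
        rw [(hH.zc u).eq, ← mul_assoc, h, hzz]
    constructor <;> intro h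
    · have hw : (w : H) = (u : H)⁻¹ := eq_inv_of_mul_eq_one_right h
      rcases hui with e | e <;> rw [e] at hw
      · exact hne.1 hw
      · exact hne.2 hw
    · have hw : (w : H) = (u : H)⁻¹ * z := eq_inv_mul_of_mul_eq h
      rcases hui with e | e <;> rw [e] at hw
      · exact hne.2 (hw.trans (hH.zc u).eq.symm)
      · refine hne.1 ?_
        rw [hw, (hH.zc u).eq, mul_assoc, hzz, mul_one]
  have huw2 : (u : H) * w * (u * w) = 1 ∨ (u : H) * w * (u * w) = z := by
    refine hsmall ((u * w) * (u * w)) ((QuotientGroup.eq_one_iff _).mp (show π _ = 1 from ?_))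
    have hc : Commute (π w) (π u) :=
      hTi.central (P.mapSurjective hsurj) _ ha (H39.mul_self_of_orderOf_eq_two ha2) _ hb
    rw [map_mul, map_mul, mul_assoc, ← mul_assoc (π w), hc.eq, mul_assoc (π u),
      H39.mul_self_of_orderOf_eq_two hb2, mul_one, H39.mul_self_of_orderOf_eq_two ha2]
  have hprod := hsame (u * w) (mul_mem huS hwS) huw2 huw1
  rcases hu2 with hu | hu <;> rw [hu] at hw' hprod
  · have hc : Commute (u : H) w := by
      have h := inv_eq_of_mul_eq_one_right hprod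
      rw [Subgroup.coe_mul, mul_inv_rev, inv_eq_of_mul_eq_one_right hu, inv_eq_of_mul_eq_one_right hw'] at h
      exact h.symm
    exact ⟨S, hasEight_of_three (hH.z_mem S) huS hwS hzz hu hw' (hH.zc _) (hH.zc _) hc hz1 hu1.1
      hu1.2.symm ⟨hw1.1, hw1.2, hne.1, hne.2⟩⟩
  · have hxy : (w : H) * u * (w : H)⁻¹ = u * z := by
      rw [mul_inv_eq_iff_eq_mul]
      calc (w : H) * u = ((u : H) * u) * (w * u) * ((w : H) * w) := by
            rw [hu, hw', (hH.zc _).eq, mul_assoc, hzz, mul_one]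
        _ = u * ((u * w) * (u * w)) * w := by group
        _ = u * z * w := by rw [← Subgroup.coe_mul, hprod]
    obtain ⟨n, ⟨e⟩⟩ := hK.quaternion hH hTi hnC
    obtain ⟨g, g', hg, hg', hgg⟩ := pair_of_quaternion
      ((Cfsg.pCore 2 H).subtype.comp e.symm.toMonoidHom)
      ((Cfsg.pCore 2 H).subtype_injective.comp e.symm.injective)
      (fun g hg => hH.invol_pCore (z := z) (SetLike.coe_mem _) (by rw [← map_mul, hg, map_one]))
    have hcq : ∀ {l q : H}, q ∈ Cfsg.pCore 2 H → l ∈ K → Commute l q := fun hq hl =>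
      hK.pCore_commute hH hq hl
    exact ⟨S, hasEight_of_pairs hzz hz1 hH.zc huS hwS
      (Cores.pCore_le_sylow S (SetLike.coe_mem _)) (Cores.pCore_le_sylow S (SetLike.coe_mem _))
      hu hw' hxy hg hg' hgg (hcq (SetLike.coe_mem _) u.2) (hcq (SetLike.coe_mem _) u.2)
      (hcq (SetLike.coe_mem _) w.2) (hcq (SetLike.coe_mem _) w.2)⟩

/-- The conclusions for a core-free group with a central involution. -/
theorem good_of_central (hEmb : H91.CI.EmbCriterion.{u}) (hAb : H91.CI.AbFacts.{u}) (hOuter : NoOuter.{u})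
    (hns : ¬ Group.IsSolvable H)
    (hnC : ∃ S T : Sylow 2 H, S ≠ T ∧ ¬ IsCyclic ↥((S : Subgroup H) ⊓ (T : Subgroup H)))
    (hnQ : ∀ S : Sylow 2 H, ∀ n : ℕ, IsEmpty (↥(S : Subgroup H) ≃* QuaternionGroup (2 ^ (n + 1)))) :
    GoodA H z ∨ GoodB H z := by
  classical
  obtain ⟨K, hK⟩ := hH.exists_component hns
  by_cases honly : ∀ L : Subgroup H, Cfsg.IsComponent L → L = K
  swap
  · push Not at honly
    obtain ⟨L, hL, hne⟩ := honly
    exact Or.inr (goodB_of_two hH hK hL hne.symm)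
  left
  haveI hKn := normal_of_only hK honly
  by_cases hrank : ∃ x ∈ K, x * x = 1 ∧ x ≠ 1 ∧ x ≠ z
  · have hS := single_of_rank hH hK honly hrank
    exact goodA_of_single hH hS (hS.tiSimple hH hEmb hAb hrank) hnC
  push Not at hrank
  have hone : ∀ x ∈ K, x * x = 1 → x = 1 ∨ x = z := fun x hx h => or_iff_not_imp_left.mpr (hrank x hx h)
  obtain ⟨hzK, -, hcen⟩ := one_facts hH hK hone
  have hzz := H39.mul_self_of_orderOf_eq_two hH.z2
  have hcomm : ∀ q ∈ Cfsg.pCore 2 H, ∀ l ∈ K, Commute l q := fun q hq l hl => by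
    have h := Components.component_commutator_solvable hK
      (A := Cfsg.pCore 2 H) (by
        haveI : Group.IsNilpotent ↥(Cfsg.pCore 2 H) := (Components.isPGroup_pCore 2).isNilpotent
        infer_instance) (Components.le_normalizer_of_normal _)
    rw [Subgroup.commutator_eq_bot_iff_le_centralizer] at h
    exact (mem_centralizer_iff.mp (h hl) q hq).symm
  by_cases hQ : ∃ q ∈ Cfsg.pCore 2 H, q ≠ 1 ∧ q ≠ z
  · obtain ⟨q, hq, hq1⟩ := hQ
    obtain ⟨k, hk⟩ := (Components.isPGroup_pCore 2 : IsPGroup 2 ↥(Cfsg.pCore 2 H)) ⟨q, hq⟩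
    obtain ⟨m, hm⟩ := exists_root hH.z2 (x := q) (congrArg (fun w : ↥(Cfsg.pCore 2 H) => (w : H)) hk)
      (fun m h => hH.invol_pCore (pow_mem hq m) h) hq1
    have hyQ : q ^ m ∈ Cfsg.pCore 2 H := pow_mem hq m
    have hS : Single z K := by
      refine ⟨hK, honly, fun S T hST => ?_⟩
      obtain ⟨x, hxS, hxK, -, -, -, hxx, -⟩ := exists_pair hH hK hone S
      have hc : Commute x (q ^ m) := hcomm _ hyQ x hxK
      have hinv : x * q ^ m * (x * q ^ m) = 1 := by
        rw [show x * q ^ m * (x * q ^ m) = x * (q ^ m * x) * q ^ m by group, ← hc.eq,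
          show x * (x * q ^ m) * q ^ m = (x * x) * (q ^ m * q ^ m) by group, hxx, hm, hzz]
      have hbad : (∀ l ∈ K, Commute l x) → False := fun h => by
        rcases hcen x hxK h with rfl | rfl
        · exact H39.ne_one_of_orderOf_eq_two hH.z2 (by rw [← hxx, one_mul])
        · exact H39.ne_one_of_orderOf_eq_two hH.z2 (by rw [← hxx]; exact hzz)
      refine hH.eq_of_invol hinv (fun e => hbad fun l hl => ?_) (fun e => hbad fun l hl => ?_)
        (mul_mem hxS (Cores.pCore_le_sylow S hyQ)) (mul_mem (hST ⟨hxS, hxK⟩) (Cores.pCore_le_sylow T hyQ))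
      · rw [eq_inv_of_mul_eq_one_left e]
        exact (hcomm _ hyQ l hl).inv_right
      · rw [eq_mul_inv_of_mul_eq e]
        exact (hH.zc l).symm.mul_right (hcomm _ hyQ l hl).inv_right
    exact goodA_of_single hH hS (QuatComp.tiSimple hH ⟨hK, hone, q ^ m, hm, hcomm _ hyQ⟩) hnC
  exfalso
  push Not at hQ
  have hcent : ∀ h : H, (∀ l ∈ K, Commute l h) → h = 1 ∨ h = z := fun h hc =>
    or_iff_not_imp_left.mpr (hQ h (H91.CI.mem_pCore_of_centralizes hH.core
      (fun L hL => by rw [honly L hL]; exact mem_centralizer_iff.mpr fun l hl => (hc l hl).eq)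
      (mem_centralizer_iff.mpr fun q hq => by
        by_cases hq1 : q = 1
        · rw [hq1, one_mul, mul_one]
        · rw [hQ q hq hq1]; exact (hH.zc h).eq)))
  obtain ⟨S⟩ : Nonempty (Sylow 2 H) := inferInstance
  obtain ⟨w, hwS, hw2, hw1, hwz⟩ : ∃ w ∈ (S : Subgroup H), w * w = 1 ∧ w ≠ 1 ∧ w ≠ z := by
    by_contra hall
    push Not at hall
    rcases S0016.result 2 S.isPGroup' (fun A B hA hB => S1307.eq_of_card_two (z := z)
        (fun v hv hv2 => hall v hv (H39.mul_self_of_orderOf_eq_two hv2) (H39.ne_one_of_orderOf_eq_two hv2))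
        hA hB) with hc | ⟨-, n, ⟨e⟩⟩
    · haveI := hc
      obtain ⟨x, hxS, -, y, hyS, -, -, -, hxy⟩ := exists_pair hH hK hone S
      letI := hc.commGroup
      have hcxy := congrArg Subtype.val (mul_comm (⟨y, hyS⟩ : ↥(S : Subgroup H)) ⟨x, hxS⟩)
      simp only [Subgroup.coe_mul] at hcxy
      rw [hcxy, mul_inv_cancel_right, eq_comm, mul_eq_left] at hxy
      exact H39.ne_one_of_orderOf_eq_two hH.z2 hxy
    · rcases Nat.eq_zero_or_pos n with rfl | hn
      · obtain ⟨x, hxS, -, y, hyS, -, -, -, hxy⟩ := exists_pair hH hK hone S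
        haveI hc : IsCyclic ↥(S : Subgroup H) :=
          e.isCyclic.2 (by rw [pow_zero]; exact QuaternionGroup.quaternionGroup_one_isCyclic)
        letI := hc.commGroup
        have hcxy := congrArg Subtype.val (mul_comm (⟨y, hyS⟩ : ↥(S : Subgroup H)) ⟨x, hxS⟩)
        simp only [Subgroup.coe_mul] at hcxy
        rw [hcxy, mul_inv_cancel_right, eq_comm, mul_eq_left] at hxy
        exact H39.ne_one_of_orderOf_eq_two hH.z2 hxy
      · exact (hnQ S (n - 1)).false (e.trans (by rw [Nat.sub_add_cancel hn]))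
  obtain ⟨P, hP⟩ := H91.CI.exists_sylow_component hK S
  have hmap : (P : Subgroup ↥K).map K.subtype = (S : Subgroup H) ⊓ K := by
    rw [hP, Subgroup.subgroupOf_map_subtype]
  have hN : ∀ g : H, g ∈ normalizer ((S : Subgroup H) : Set H) →
      g ∈ normalizer (((P : Subgroup ↥K).map K.subtype) : Set H) := fun g hg => by
    rw [hmap]
    refine mem_normalizer_iff.mpr fun x => and_congr (mem_normalizer_iff.mp hg x) ?_
    exact ⟨fun h => hKn.conj_mem x h g, fun h => by
      have h' := hKn.conj_mem _ h g⁻¹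
      rwa [show g⁻¹ * (g * x * g⁻¹) * g⁻¹⁻¹ = x by group] at h'⟩
  haveI : Group.IsPerfect ↥K := hK.2.1
  refine hOuter K hK.2.2 hzK hH.z2 hcent hone P hw2 ?_ (hN w (le_normalizer hwS)) fun g _ hgw =>
    hN g (mem_normalizer_of_commute hH.ri S (H39.orderOf_eq_two_of_mul_self hw2 hw1) hH.z2 (hH.zc w).symm hwz
      hwS (hH.z_mem S) hgw (hH.zc g).symm)
  exact fun h => (hone w h hw2).elim hw1 hwz

end Cfsg.Agent.H30.RankInt
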