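import Cfsg.Agent.H30.RankInt.Comp

/-!
# Elementary subgroups of order eight
-/

set_option autoImplicit false
set_option linter.style.haveILetI false
set_option linter.unusedSectionVars false

namespace Cfsg.Agent.H30.RankInt

open Subgroup Cfsg.Agent

local instance factTwoP : Fact (Nat.Prime 2) := ⟨Nat.prime_two⟩

variable {G : Type*} [Group G] [Finite G]

/-- An elementary abelian subgroup of order at least eight inside `S`. -/
def HasEight (S : Subgroup G) : Prop :=
  ∃ B : Subgroup G, B ≤ S ∧ IsMulCommutative ↥B ∧ (∀ b ∈ B, b * b = 1) ∧ 8 ≤ Nat.card B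

omit [Finite G] in
theorem hasEight_mono {S T : Subgroup G} (h : HasEight S) (hle : S ≤ T) : HasEight T := by
  obtain ⟨B, hB, h1, h2, h3⟩ := h
  exact ⟨B, hB.trans hle, h1, h2, h3⟩

theorem hasEight_map {G' : Type*} [Group G'] {S : Subgroup G} (f : G →* G') (h : HasEight S)
    (hf : ∀ x ∈ S, f x = 1 → x = 1) : HasEight (S.map f) := by
  obtain ⟨B, hB, h1, h2, h3⟩ := h
  haveI := h1
  refine ⟨B.map f, map_mono hB, inferInstance, ?_, ?_⟩
  · rintro _ ⟨b, hb, rfl⟩
    rw [← map_mul, h2 b hb, map_one]
  · have hi : Function.Injective (f.subgroupMap B) := by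
      refine (injective_iff_map_eq_one _).2 fun x hx => Subtype.ext (hf x (hB x.2) ?_)
      exact congrArg Subtype.val hx
    rwa [← Nat.card_eq_of_bijective _ ⟨hi, f.subgroupMap_surjective B⟩]

/-- Three independent commuting involutions. -/
theorem hasEight_of_three {S : Subgroup G} {a b c : G} (ha : a ∈ S) (hb : b ∈ S) (hc : c ∈ S)
    (ha2 : a * a = 1) (hb2 : b * b = 1) (hc2 : c * c = 1) (hab : Commute a b) (hac : Commute a c)
    (hbc : Commute b c) (ha1 : a ≠ 1) (hb1 : b ≠ 1) (hne : a ≠ b)
    (hc1 : c ≠ 1 ∧ c ≠ a ∧ c ≠ b ∧ c ≠ a * b) : HasEight S := by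
  classical
  set B := closure ({a, b, c} : Set G) with hB
  haveI : IsMulCommutative ↥B := isMulCommutative_closure (by
    rintro x (rfl | rfl | rfl) y (rfl | rfl | rfl)
    exacts [rfl, hab.eq, hac.eq, hab.eq.symm, rfl, hbc.eq, hac.eq.symm, hbc.eq.symm, rfl])
  have hsq : ∀ x ∈ B, x * x = 1 := by
    intro x hx
    induction hx using closure_induction with
    | mem x hx => rcases hx with rfl | rfl | rfl <;> assumption
    | one => simp
    | mul x y hx' hy' hx hy =>
      have hc : Commute x y := congrArg Subtype.val (mul_comm' (⟨x, hx'⟩ : ↥B) ⟨y, hy'⟩)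
      rw [show x * y * (x * y) = x * (y * x) * y by group, ← hc.eq,
        show x * (x * y) * y = (x * x) * (y * y) by group, hx, hy, one_mul]
    | inv x _ hx => rw [← mul_inv_rev, hx, inv_one]
  refine ⟨B, (closure_le S).mpr ?_, inferInstance, hsq, ?_⟩
  · rintro x (rfl | rfl | rfl) <;> assumption
  have hp : IsPGroup 2 ↥B := fun x => ⟨1, Subtype.ext (by rw [pow_one, pow_two]; exact hsq x x.2)⟩
  have hle : closure ({a, b} : Set G) ≤ B := closure_mono (by
    rintro x (rfl | rfl) <;> simp)
  have hcn : c ∉ closure ({a, b} : Set G) := fun h => by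
    rcases isElem_pair ha2 hb2 hab c h with h | h | h | h
    exacts [hc1.1 h, hc1.2.1 h, hc1.2.2.1 h, hc1.2.2.2 h]
  have h4 : 4 ≤ Nat.card (closure ({a, b} : Set G)) := by
    let f : Fin 4 → closure ({a, b} : Set G) := ![1, ⟨a, subset_closure (by simp)⟩,
      ⟨b, subset_closure (by simp)⟩, ⟨a * b, mul_mem (subset_closure (by simp)) (subset_closure (by simp))⟩]
    have hai : a⁻¹ = a := inv_eq_of_mul_eq_one_right ha2
    have h1 : a * b ≠ 1 := fun h => hne ((inv_eq_of_mul_eq_one_right h) ▸ hai.symm)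
    have hf : Function.Injective f := by
      intro i j e
      have e' := congrArg Subtype.val e
      fin_cases i <;> fin_cases j <;>
        simp [f, ha1, hb1, hne, Ne.symm hne, Ne.symm ha1, Ne.symm hb1, h1, Ne.symm h1] at e' ⊢
    have := Nat.card_le_card_of_injective f hf
    rwa [Nat.card_fin] at this
  have hlt : Nat.card (closure ({a, b} : Set G)) < Nat.card ↥B := by
    by_contra hge
    exact hcn (eq_of_le_of_card_ge hle (not_lt.mp hge) ▸ subset_closure (by simp))
  obtain ⟨k, hk⟩ := IsPGroup.iff_card.mp hp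
  rw [hk] at hlt ⊢
  have h3 : 3 ≤ k := by
    by_contra h
    have : 2 ^ k ≤ 2 ^ 2 := Nat.pow_le_pow_right two_pos (by omega)
    omega
  calc 8 = 2 ^ 3 := rfl
    _ ≤ _ := Nat.pow_le_pow_right two_pos h3

/-- Two commuting quaternion pairs with the same involution. -/
theorem hasEight_of_pairs {S : Subgroup G} {z x y x' y' : G} (hz : z * z = 1) (hz1 : z ≠ 1)
    (hzc : ∀ g : G, Commute z g) (hx : x ∈ S) (hy : y ∈ S) (hx' : x' ∈ S) (hy' : y' ∈ S)
    (hxx : x * x = z) (hyy : y * y = z) (hxy : y * x * y⁻¹ = x * z) (hxx' : x' * x' = z)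
    (hyy' : y' * y' = z) (hxy' : y' * x' * y'⁻¹ = x' * z)
    (h1 : Commute x x') (h2 : Commute x y') (h3 : Commute y x') (h4 : Commute y y') : HasEight S := by
  have hzS : z ∈ S := hxx ▸ mul_mem hx hx
  have hsq : ∀ u v : G, Commute u v → u * u = z → v * v = z → u * v * (u * v) = 1 := fun u v h hu hv => by
    rw [show u * v * (u * v) = u * (v * u) * v by group, ← h.eq,
      show u * (u * v) * v = (u * u) * (v * v) by group, hu, hv, hz]
  have hyx : y * x = x * y * z := by
    rw [mul_inv_eq_iff_eq_mul] at hxy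
    rw [hxy, mul_assoc, (hzc y).eq, ← mul_assoc]
  have hyx' : y' * x' = x' * y' * z := by
    rw [mul_inv_eq_iff_eq_mul] at hxy'
    rw [hxy', mul_assoc, (hzc y').eq, ← mul_assoc]
  have hab : Commute (x * x') (y * y') := by
    show x * x' * (y * y') = y * y' * (x * x')
    calc x * x' * (y * y') = x * (x' * y) * y' := by group
      _ = (x * y) * (x' * y') := by rw [← h3.eq]; group
      _ = (x * y) * (x' * y') * (z * z) := by rw [hz, mul_one]
      _ = (x * y * z) * (x' * y' * z) := by
        rw [show x * y * z * (x' * y' * z) = x * y * (z * (x' * y')) * z by group, (hzc (x' * y')).eq]; group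
      _ = y * (x * y') * x' := by rw [← hyx, ← hyx']; group
      _ = y * y' * (x * x') := by rw [h2.eq]; group
  have hne1 : x * x' ≠ 1 := fun e => hz1 (by
    have hx' : x' = x⁻¹ := eq_inv_of_mul_eq_one_right e
    have h := (hx' ▸ h3 : Commute y x⁻¹).inv_right
    rw [inv_inv] at h
    rwa [h.eq, mul_inv_cancel_right, eq_comm, mul_eq_left] at hxy)
  have hnez : x * x' ≠ z := fun e => hz1 (by
    have hx' : x' = x⁻¹ * z := eq_inv_mul_of_mul_eq e
    have h := ((hx' ▸ h3 : Commute y (x⁻¹ * z)).mul_right (hzc y).symm.inv_right)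
    rw [mul_inv_cancel_right] at h
    have h' := h.inv_right
    rw [inv_inv] at h'
    rwa [h'.eq, mul_inv_cancel_right, eq_comm, mul_eq_left] at hxy)
  -- the third element is outside the span of the first two
  have hout : ∀ e : G, Commute y e → Commute (y * y') e → Commute x e → y * y' ≠ e ∧ y * y' ≠ x * x' * e := by
    intro e _ _ hxe
    constructor <;> intro h
    · refine hz1 ?_
      have hxc : Commute x (y * y') := h ▸ hxe
      have h' := hxc.mul_right h2.inv_right
      rw [mul_inv_cancel_right] at h'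
      rwa [← h'.eq, mul_inv_cancel_right, eq_comm, mul_eq_left] at hxy
    · refine hz1 ?_
      have hxc : Commute x (y * y') := h ▸ (((Commute.refl x).mul_right h1).mul_right hxe)
      have h' := hxc.mul_right h2.inv_right
      rw [mul_inv_cancel_right] at h'
      rwa [← h'.eq, mul_inv_cancel_right, eq_comm, mul_eq_left] at hxy
  obtain ⟨o1, o2⟩ := hout 1 (Commute.one_right _) (Commute.one_right _) (Commute.one_right _)
  obtain ⟨o3, o4⟩ := hout z (hzc _).symm (hzc _).symm (hzc _).symm
  refine hasEight_of_three hzS (mul_mem hx hx') (mul_mem hy hy') hz (hsq x x' h1 hxx hxx')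
    (hsq y y' h4 hyy hyy') (hzc _) (hzc _) hab hz1 hne1 (Ne.symm hnez)
    ⟨o1, o3, by rwa [mul_one] at o2, by rwa [(hzc (x * x')).eq]⟩

end Cfsg.Agent.H30.RankInt
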