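import Cfsg.Agent.H30.RankInt.Comp
import Cfsg.Agent.H30.RankInt.BenderFacts
import Cfsg.Agent.H30.RankInt.SingleCons
import Cfsg.Agent.H10.AbTwo.Sylow
import Cfsg.Agent.H58.CI.Fusion
import Cfsg.Agent.H86.PrimeGraph.PSLTwoEven
import Cfsg.Agent.H2.ChiFour.CoverFive
import Cfsg.Agent.S0252

/-!
# Components with one involution
-/

set_option autoImplicit false
set_option linter.style.haveILetI false
set_option linter.unusedSectionVars false

namespace Cfsg.Agent.H30.RankInt

open Subgroup Cfsg.Agent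
open scoped Pointwise

universe u

local instance factTwoQ : Fact (Nat.Prime 2) := ⟨Nat.prime_two⟩

/-- A simple group with trivially meeting Sylow 2-subgroups. -/
theorem tiSimple_of_ti {X : Type u} [Group X] [Finite X] [IsSimpleGroup X] (hna : ¬ IsMulCommutative X)
    (h2 : 2 ∣ Nat.card X)
    (hti : ∀ S T : Sylow 2 X, S ≠ T → (S : Subgroup X) ⊓ (T : Subgroup X) = ⊥) : TiSimple X := by
  obtain ⟨P⟩ : Nonempty (Sylow 2 X) := inferInstance
  obtain ⟨x, hx⟩ := exists_prime_orderOf_dvd_card' (G := X) 2 h2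
  refine tiSimple_of_se hna (normalizer ((P : Subgroup X) : Set X)) ⟨fun e => ?_, ?_, fun g hg => ?_⟩
  · haveI := normalizer_eq_top_iff.mp e
    rcases (inferInstance : (P : Subgroup X).Normal).eq_bot_or_eq_top with hb | ht
    · refine P.not_dvd_index ?_
      rwa [hb, index_bot]
    · haveI : Group.IsNilpotent X :=
        ((ht ▸ P.isPGroup' : IsPGroup 2 ↥(⊤ : Subgroup X)).of_equiv topEquiv).isNilpotent
      exact hna ⟨⟨fun a b => IsSimpleGroup.comm_iff_isSolvable.mpr inferInstance a b⟩⟩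
  · refine even_iff_two_dvd.mpr ?_
    obtain ⟨y, hy⟩ := exists_prime_orderOf_dvd_card' (G := ↥(P : Subgroup X)) 2 (by
      obtain ⟨T, hT⟩ := (IsPGroup.of_card (p := 2) (n := 1) (by rw [Nat.card_zpowers, hx, pow_one]) :
        IsPGroup 2 ↥(zpowers x)).exists_le_sylow
      rw [Nat.card_congr (Sylow.equiv P T).toEquiv]
      have := orderOf_dvd_natCard _ (hT (mem_zpowers x))
      rwa [hx] at this)
    have := orderOf_dvd_natCard _ (le_normalizer (H := (P : Subgroup X)) y.2)
    rwa [Subgroup.orderOf_coe, hy] at this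
  · rw [← Nat.not_even_iff_odd, even_iff_two_dvd]
    intro hd
    obtain ⟨y, hy⟩ := exists_prime_orderOf_dvd_card' 2 hd
    rw [← Subgroup.orderOf_coe] at hy
    obtain ⟨hyN, w, hwN, hwy⟩ := y.2
    have hw : orderOf w = 2 := by
      rw [← orderOf_injective (MulAut.conj g).toMonoidHom (MulAut.conj g).injective w, hwy, hy]
    have hmem : ∀ v : X, orderOf v = 2 → v ∈ normalizer ((P : Subgroup X) : Set X) → v ∈ (P : Subgroup X) :=
      fun v hv hvN => H91.CI.mem_of_mem_normalizer P (IsPGroup.of_card (p := 2) (n := 1)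
        (by rw [Nat.card_zpowers, hv, pow_one])) (zpowers_le.mpr hvN) (mem_zpowers _)
    refine hg (mem_normalizer_of_smul ?_)
    by_contra hne
    have h1 : (y : X) ∈ ((g • P : Sylow 2 X) : Subgroup X) ⊓ (P : Subgroup X) := by
      refine ⟨mem_smul_iff.mpr ?_, hmem _ hy hyN⟩
      rw [← hwy]
      simpa [mul_assoc] using hmem w hw hwN
    rw [hti _ _ hne, mem_bot] at h1
    exact H39.ne_one_of_orderOf_eq_two hy h1

variable {H : Type u} [Group H] [Finite H] {z : H}

/-- A component whose only involution is `z`, centralized by a square root of `z`. -/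
structure QuatComp {H : Type u} [Group H] (z : H) (M : Subgroup H) : Prop where
  comp : Cfsg.IsComponent M
  one : ∀ x ∈ M, x * x = 1 → x = 1 ∨ x = z
  root : ∃ y : H, y * y = z ∧ ∀ l ∈ M, Commute l y

variable (hH : Central H z) {M : Subgroup H}

omit [Finite H] in
theorem mul_self_root {y : H} (hy : y * y = z) (hz : orderOf z = 2) : y ^ 2 ^ 2 = 1 := by
  rw [show (2 : ℕ) ^ 2 = 2 + 2 from rfl, pow_add, pow_two, hy, H39.mul_self_of_orderOf_eq_two hz]

include hH

/-- Facts on a component with one involution. -/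
theorem one_facts (hcomp : Cfsg.IsComponent M) (hone : ∀ x ∈ M, x * x = 1 → x = 1 ∨ x = z) :
    z ∈ M ∧ (∀ R : Sylow 2 ↥M, ∃ n : ℕ, Nonempty (↥(R : Subgroup ↥M) ≃* QuaternionGroup (2 ^ (n + 1)))) ∧
      ∀ c ∈ M, (∀ l ∈ M, Commute l c) → c = 1 ∨ c = z := by
  haveI : Group.IsPerfect ↥M := hcomp.2.1
  haveI : IsSimpleGroup (↥M ⧸ center ↥M) := hcomp.2.2
  haveI : Nontrivial ↥M := (QuotientGroup.mk'_surjective (center ↥M)).nontrivial
  have heven : 2 ∣ Nat.card ↥M := by
    rw [← even_iff_two_dvd, ← Nat.not_odd_iff_even]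
    exact fun h => Group.IsPerfect.not_isSolvable (G := ↥M) (S0205.result h)
  obtain ⟨x, hx⟩ := exists_prime_orderOf_dvd_card' (G := ↥M) 2 heven
  have hxz : (x : H) = z := (hone _ x.2 (congrArg Subtype.val (H39.mul_self_of_orderOf_eq_two hx))).resolve_left
    fun e => H39.ne_one_of_orderOf_eq_two hx (Subtype.ext e)
  have hz : z ∈ M := hxz ▸ x.2
  have hquat : ∀ R : Sylow 2 ↥M, ∃ n : ℕ,
      Nonempty (↥(R : Subgroup ↥M) ≃* QuaternionGroup (2 ^ (n + 1))) := by
    intro R
    have hcq := S0016.result 2 R.isPGroup' fun A B hA hB =>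
      S1307.eq_of_card_two (z := (⟨z, hz⟩ : ↥M)) (fun v _ hv2 => Subtype.ext
        ((hone _ v.2 (congrArg Subtype.val (H39.mul_self_of_orderOf_eq_two hv2))).resolve_left
          fun e => H39.ne_one_of_orderOf_eq_two hv2 (Subtype.ext e))) hA hB
    rcases hcq with hc | ⟨-, n, ⟨e⟩⟩
    · exfalso
      refine Group.IsPerfect.not_isSolvable (G := ↥M)
        (H24.MetaSylow.isSolvable_of_complement (fun K hK => S0205.result hK) ?_)
      rw [Fusion.frobenius_criterion R]
      intro E hE g hg ho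
      haveI := hc
      haveI : IsCyclic ↥E := isCyclic_of_injective (inclusion hE) (inclusion_injective hE)
      exact H39.mem_centralizer_of_odd_aut
        (fun φ hφ => H63.GW.aut_cyclic_eq_one (R.isPGroup'.to_le hE) φ hφ) hg ho
    · rcases Nat.eq_zero_or_pos n with rfl | hn
      · exfalso
        haveI hc : IsCyclic ↥(R : Subgroup ↥M) :=
          e.isCyclic.2 (by rw [pow_zero]; exact QuaternionGroup.quaternionGroup_one_isCyclic)
        refine Group.IsPerfect.not_isSolvable (G := ↥M)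
          (H24.MetaSylow.isSolvable_of_complement (fun K hK => S0205.result hK) ?_)
        rw [Fusion.frobenius_criterion R]
        intro E hE g hg ho
        haveI : IsCyclic ↥E := isCyclic_of_injective (inclusion hE) (inclusion_injective hE)
        exact H39.mem_centralizer_of_odd_aut
          (fun φ hφ => H63.GW.aut_cyclic_eq_one (R.isPGroup'.to_le hE) φ hφ) hg ho
      · exact ⟨n - 1, ⟨e.trans (by rw [Nat.sub_add_cancel hn])⟩⟩
  refine ⟨hz, hquat, fun c hc hcc => ?_⟩
  obtain ⟨k, hk⟩ := (Components.isPGroup_pCore 2 : IsPGroup 2 ↥(Cfsg.pCore 2 H))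
    ⟨c, H91.CI.center_component_le hH.core hcomp hc hcc⟩
  obtain ⟨R⟩ : Nonempty (Sylow 2 ↥M) := inferInstance
  have hcR : (⟨c, hc⟩ : ↥M) ∈ (R : Subgroup ↥M) := H91.CI.mem_of_commutes (k := k)
    (Subtype.ext (congrArg (fun w : ↥(Cfsg.pCore 2 H) => (w : H)) hk)) fun t _ => Subtype.ext (hcc t t.2).eq
  obtain ⟨n, ⟨e⟩⟩ := hquat R
  have h := quaternion_center_sq (e ⟨_, hcR⟩) fun y => by
    have := (show Commute (⟨_, hcR⟩ : ↥(R : Subgroup ↥M)) (e.symm y) from
      Subtype.ext (Subtype.ext (hcc _ (SetLike.coe_mem _)).eq.symm)).map e.toMonoidHom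
    simpa using this
  rw [← map_mul, ← map_one e] at h
  exact hone c hc (congrArg (fun w : ↥(R : Subgroup ↥M) => ((w : ↥M) : H)) (e.injective h))

variable (hM : QuatComp z M)
include hM

/-- Two Sylow 2-subgroups of the component meet in its centre. -/
theorem QuatComp.ti {R R' : Sylow 2 ↥M} (hne : R ≠ R') {x : ↥M} (hx : x ∈ (R : Subgroup ↥M))
    (hx' : x ∈ (R' : Subgroup ↥M)) : (x : H) = 1 ∨ (x : H) = z := by
  obtain ⟨hzM, -, hcen⟩ := one_facts hH hM.comp hM.one
  obtain ⟨y, hy, hyc⟩ := hM.root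
  have hzz := H39.mul_self_of_orderOf_eq_two hH.z2
  -- every 2-element of the component other than `1` and `z` has a power squaring to `z`
  by_contra hcon
  push Not at hcon
  obtain ⟨k, hk⟩ := R.isPGroup' ⟨x, hx⟩
  have hk' : (x : H) ^ 2 ^ k = 1 := congrArg (fun w : ↥(R : Subgroup ↥M) => ((w : ↥M) : H)) hk
  obtain ⟨m, hm, hmsq⟩ : ∃ m : ℕ, (((x : H) ^ m) ≠ 1 ∧ ((x : H) ^ m) ≠ z) ∧
      (x : H) ^ m * (x : H) ^ m = z := by
    clear hk
    induction k with
    | zero => exact absurd (by simpa using hk') hcon.1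
    | succ k ih =>
      by_cases h : (x : H) ^ 2 ^ k = 1
      · exact ih h
      have h1 : (x : H) ^ 2 ^ k * (x : H) ^ 2 ^ k = 1 := by rw [← pow_add, ← two_mul, ← pow_succ', hk']
      have h2 : (x : H) ^ 2 ^ k = z := (hM.one _ (pow_mem x.2 _) h1).resolve_left h
      rcases k with _ | j
      · exact absurd (by simpa using h2) hcon.2
      · have h3 : (x : H) ^ 2 ^ j * (x : H) ^ 2 ^ j = z := by
          rw [← pow_add, ← two_mul, ← pow_succ', h2]
        refine ⟨2 ^ j, ⟨fun e => ?_, fun e => ?_⟩, h3⟩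
        · rw [e, one_mul] at h3
          exact H39.ne_one_of_orderOf_eq_two hH.z2 h3.symm
        · rw [e, hzz] at h3
          exact H39.ne_one_of_orderOf_eq_two hH.z2 h3.symm
  set a := x ^ m with ha
  have haR : a ∈ (R : Subgroup ↥M) := pow_mem hx _
  have haR' : a ∈ (R' : Subgroup ↥M) := pow_mem hx' _
  have hac : Commute (a : H) y := hyc _ a.2
  have hinv : (a : H) * y * ((a : H) * y) = 1 := by
    rw [show (a : H) * y * ((a : H) * y) = (a : H) * (y * (a : H)) * y by group, ← hac.eq,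
      show (a : H) * ((a : H) * y) * y = ((a : H) * a) * (y * y) by group, hy,
      show ((a : H) * a) = z from by rw [ha, Subgroup.coe_pow]; exact hmsq, hzz]
  have hay : (a : H) * y ≠ 1 ∧ (a : H) * y ≠ z := by
    constructor <;> intro e
    · rcases hcen a a.2 (fun l hl => by
        rw [eq_inv_of_mul_eq_one_left e]; exact (hyc l hl).inv_right) with h | h
      · exact hm.1 (by rw [← Subgroup.coe_pow, ← ha, h])
      · exact hm.2 (by rw [← Subgroup.coe_pow, ← ha, h])
    · rcases hcen a a.2 (fun l hl => by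
        rw [eq_mul_inv_of_mul_eq e]; exact (hH.zc l).symm.mul_right (hyc l hl).inv_right) with h | h
      · exact hm.1 (by rw [← Subgroup.coe_pow, ← ha, h])
      · exact hm.2 (by rw [← Subgroup.coe_pow, ← ha, h])
  have hov : ∀ Q : Sylow 2 ↥M, ∃ T : Sylow 2 H,
      (∀ v ∈ (Q : Subgroup ↥M), (v : H) ∈ (T : Subgroup H)) ∧ y ∈ (T : Subgroup H) := by
    intro Q
    have hn : (Q : Subgroup ↥M).map M.subtype ≤ normalizer (zpowers y : Set H) := by
      refine le_trans ?_ (centralizer_le_normalizer _)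
      rintro _ ⟨v, -, rfl⟩
      exact mem_centralizer_iff.mpr fun w hw => by
        obtain ⟨i, rfl⟩ := mem_zpowers_iff.mp hw
        exact ((hyc _ v.2).zpow_right i).eq.symm
    obtain ⟨T, hT⟩ := ((Q.isPGroup'.map M.subtype).to_sup_of_normal_right'
      (H91.CI.isPGroup_zpowers (k := 2) (mul_self_root hy hH.z2)) hn).exists_le_sylow
    exact ⟨T, fun v hv => hT (mem_sup_left ⟨v, hv, rfl⟩), hT (mem_sup_right (mem_zpowers y))⟩
  obtain ⟨T, hTR, hTy⟩ := hov R
  obtain ⟨T', hTR', hTy'⟩ := hov R'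
  have hTT : T = T' := hH.eq_of_invol hinv hay.1 hay.2 (mul_mem (hTR a haR) hTy) (mul_mem (hTR' a haR') hTy')
  subst hTT
  obtain ⟨P, hP⟩ := H91.CI.exists_sylow_component hM.comp T
  refine hne (Sylow.ext ?_)
  rw [← R.3 P.isPGroup' (fun v hv => by rw [hP]; exact hTR v hv),
    R'.3 P.isPGroup' (fun v hv => by rw [hP]; exact hTR' v hv)]

/-- The quotient of the component by its centre. -/
theorem QuatComp.tiSimple : TiSimple (↥M ⧸ center ↥M) := by
  obtain ⟨hzM, hquat, hcen⟩ := one_facts hH hM.comp hM.one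
  haveI : IsSimpleGroup (↥M ⧸ center ↥M) := hM.comp.2.2
  have hna : ¬ IsMulCommutative (↥M ⧸ center ↥M) := Components.qs_quotient_not_comm hM.comp.2
  have hcR : ∀ c ∈ center ↥M, ∀ R : Sylow 2 ↥M, c ∈ (R : Subgroup ↥M) := fun c hc R => by
    refine H91.CI.mem_of_commutes (k := 1) ?_ fun t _ => mem_center_iff.mp hc t
    rw [pow_one, pow_two]
    refine Subtype.ext ?_
    show (c : H) * c = 1
    rcases hcen c c.2 (fun l hl => congrArg Subtype.val (mem_center_iff.mp hc ⟨l, hl⟩)) with h | h <;> rw [h]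
    · exact one_mul 1
    · exact H39.mul_self_of_orderOf_eq_two hH.z2
  refine tiSimple_of_ti hna ?_ fun S T hne => ?_
  · rw [← even_iff_two_dvd, ← Nat.not_odd_iff_even]
    exact fun h => hna ⟨⟨fun a b => IsSimpleGroup.comm_iff_isSolvable.mpr (S0205.result h) a b⟩⟩
  · obtain ⟨R, rfl⟩ := Sylow.mapSurjective_surjective (QuotientGroup.mk'_surjective (center ↥M)) 2 S
    obtain ⟨R', rfl⟩ := Sylow.mapSurjective_surjective (QuotientGroup.mk'_surjective (center ↥M)) 2 T
    rw [eq_bot_iff_forall, Sylow.coe_mapSurjective, Sylow.coe_mapSurjective]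
    rintro w ⟨⟨a, ha, rfl⟩, b, hb, hab⟩
    refine (QuotientGroup.eq_one_iff a).mpr ?_
    have hc : a⁻¹ * b ∈ center ↥M := QuotientGroup.eq.mp hab.symm
    have hbR : b ∈ (R : Subgroup ↥M) := by
      have := mul_mem ha (hcR _ hc R)
      rwa [mul_inv_cancel_left] at this
    have hbz : b ∈ center ↥M := mem_center_iff.mpr fun l => Subtype.ext (by
      show (l : H) * b = b * l
      rcases hM.ti hH (fun e => hne (by rw [e])) hbR hb with h | h <;> rw [h]
      · rw [mul_one, one_mul]
      · exact (hH.zc l).eq.symm)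
    have := mul_mem hbz (inv_mem hc)
    rwa [mul_inv_rev, inv_inv, mul_inv_cancel_left] at this

/-- The quotient is the alternating group of degree five. -/
theorem QuatComp.quotient_equiv : Nonempty (↥M ⧸ center ↥M ≃* alternatingGroup (Fin 5)) := by
  obtain ⟨hzM, hquat, hcen⟩ := one_facts hH hM.comp hM.one
  have hTi := hM.tiSimple hH
  obtain ⟨R⟩ : Nonempty (Sylow 2 ↥M) := inferInstance
  obtain ⟨n, ⟨e⟩⟩ := hquat R
  set π := QuotientGroup.mk' (center ↥M) with hπ
  have hsurj : Function.Surjective π := QuotientGroup.mk'_surjective _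
  haveI : NeZero (2 ^ (n + 1)) := ⟨by positivity⟩
  haveI : NeZero (2 * 2 ^ (n + 1)) := ⟨by positivity⟩
  have hm2 : 2 ≤ 2 ^ (n + 1) := le_self_pow₀ one_le_two (by omega)
  -- the centre in the Sylow subgroup
  have hzR : (⟨z, hzM⟩ : ↥M) ∈ (R : Subgroup ↥M) := H91.CI.mem_of_commutes (k := 1)
    (Subtype.ext (by rw [pow_one, pow_two]; exact H39.mul_self_of_orderOf_eq_two hH.z2))
    fun t _ => Subtype.ext (hH.zc t).eq.symm
  have hzc : (⟨z, hzM⟩ : ↥M) ∈ center ↥M := mem_center_iff.mpr fun l => Subtype.ext (hH.zc l).eq.symm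
  set ez := e ⟨_, hzR⟩ with hez
  have hA : ez = QuaternionGroup.a ((2 ^ (n + 1) : ℕ) : ZMod (2 * 2 ^ (n + 1))) := by
    set A : QuaternionGroup (2 ^ (n + 1)) := QuaternionGroup.a ((2 ^ (n + 1) : ℕ) : ZMod (2 * 2 ^ (n + 1)))
      with hAdef
    have hA2 : A * A = 1 := by
      rw [hAdef, QuaternionGroup.a_mul_a, ← Nat.cast_add, ← two_mul, ZMod.natCast_self]
      rfl
    have hA1 : A ≠ 1 := fun h => by
      have h' : ((2 ^ (n + 1) : ℕ) : ZMod (2 * 2 ^ (n + 1))) = 0 :=
        QuaternionGroup.a.inj (h.trans QuaternionGroup.one_def)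
      have := Nat.le_of_dvd (by omega) ((ZMod.natCast_eq_zero_iff _ _).1 h')
      omega
    have h2 : e.symm A * e.symm A = 1 := by rw [← map_mul, hA2, map_one]
    rcases hM.one _ (SetLike.coe_mem (e.symm A : ↥M))
      (congrArg (fun w : ↥(R : Subgroup ↥M) => ((w : ↥M) : H)) h2) with h | h
    · refine absurd ?_ hA1
      rw [← e.apply_symm_apply A, show e.symm A = 1 from Subtype.ext (Subtype.ext h), map_one]
    · rw [hez, show (⟨_, hzR⟩ : ↥(R : Subgroup ↥M)) = e.symm A from Subtype.ext (Subtype.ext h.symm),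
        e.apply_symm_apply]
  have hkill : ∀ w : ↥(R : Subgroup ↥M), e w = 1 ∨ e w = ez → π w = 1 := fun w hw => by
    refine (QuotientGroup.eq_one_iff _).mpr ?_
    rcases hw with h | h
    · rw [show w = 1 from e.injective (h.trans (map_one e).symm)]
      exact one_mem _
    · rw [show w = ⟨_, hzR⟩ from e.injective h]
      exact hzc
  -- the two generators are involutions modulo the centre, hence commute
  have hsq : ∀ i, QuaternionGroup.xa i * QuaternionGroup.xa i = ez := fun i => by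
    rw [hA, QuaternionGroup.xa_mul_xa]
    congr 1
    rw [sub_eq_add_neg, add_assoc, add_neg_cancel, add_zero]
  have hmemQ : ∀ g : QuaternionGroup (2 ^ (n + 1)), π ((e.symm g : ↥(R : Subgroup ↥M)) : ↥M) ∈
      ((R.mapSurjective hsurj : Sylow 2 _) : Subgroup (↥M ⧸ center ↥M)) := fun g => by
    rw [Sylow.coe_mapSurjective]
    exact mem_map_of_mem π (SetLike.coe_mem _)
  have hn0 : n = 0 := by
    have hcomm := hTi.central (R.mapSurjective hsurj) _ (hmemQ (QuaternionGroup.xa 0)) (by
      rw [← map_mul, ← Subgroup.coe_mul, ← map_mul, hsq]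
      exact hkill _ (Or.inr (e.apply_symm_apply ez))) _ (hmemQ (QuaternionGroup.xa 1))
    have h1 : (((e.symm (QuaternionGroup.xa 1) * e.symm (QuaternionGroup.xa 0) *
        (e.symm (QuaternionGroup.xa 0) * e.symm (QuaternionGroup.xa 1))⁻¹) :
          ↥(R : Subgroup ↥M)) : ↥M) ∈ center ↥M := by
      refine (QuotientGroup.eq_one_iff _).mp ?_
      show π _ = 1
      rw [Subgroup.coe_mul, Subgroup.coe_inv, Subgroup.coe_mul, Subgroup.coe_mul, map_mul, map_inv,
        map_mul, map_mul, hcomm.eq, mul_inv_cancel]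
    set d := e.symm (QuaternionGroup.xa 1) * e.symm (QuaternionGroup.xa 0) *
        (e.symm (QuaternionGroup.xa 0) * e.symm (QuaternionGroup.xa 1))⁻¹ with hd
    have h2 : e d = 1 ∨ e d = ez := by
      rcases hcen _ (d : ↥M).2 (fun l hl => congrArg Subtype.val (mem_center_iff.mp h1 ⟨l, hl⟩)) with h | h
      · exact Or.inl (by rw [show d = 1 from Subtype.ext (Subtype.ext h), map_one])
      · exact Or.inr (congrArg e (Subtype.ext (Subtype.ext h)))
    have h3 : QuaternionGroup.xa 1 * QuaternionGroup.xa 0 = e d * (QuaternionGroup.xa 0 * QuaternionGroup.xa 1) := by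
      rw [hd, map_mul, map_inv, map_mul, map_mul, e.apply_symm_apply, e.apply_symm_apply, inv_mul_cancel_right]
    have h4 : ((2 : ℕ) : ZMod (2 * 2 ^ (n + 1))) = 0 ∨
        ((2 : ℕ) : ZMod (2 * 2 ^ (n + 1))) = ((2 ^ (n + 1) : ℕ) : ZMod (2 * 2 ^ (n + 1))) := by
      have hNN : ((2 ^ (n + 1) : ℕ) : ZMod (2 * 2 ^ (n + 1))) + (2 ^ (n + 1) : ℕ) = 0 := by
        rw [← Nat.cast_add, ← two_mul, ZMod.natCast_self]
      rcases h2 with h | h
      · rw [h, one_mul, QuaternionGroup.xa_mul_xa, QuaternionGroup.xa_mul_xa] at h3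
        refine Or.inl ?_
        have := QuaternionGroup.a.inj h3
        push_cast at this ⊢
        linear_combination -this
      · rw [h, hA, QuaternionGroup.xa_mul_xa, QuaternionGroup.xa_mul_xa, QuaternionGroup.a_mul_a] at h3
        refine Or.inr ?_
        have := QuaternionGroup.a.inj h3
        push_cast at this hNN ⊢
        linear_combination -this - hNN
    rcases h4 with h | h
    · have := Nat.le_of_dvd two_pos ((ZMod.natCast_eq_zero_iff _ _).1 h)
      omega
    · by_contra hn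
      have h8 : 4 ≤ 2 ^ (n + 1) := by
        calc 4 = 2 ^ 2 := rfl
          _ ≤ _ := Nat.pow_le_pow_right two_pos (by omega)
      have := congrArg ZMod.val h
      rw [ZMod.val_natCast, ZMod.val_natCast, Nat.mod_eq_of_lt (by omega), Nat.mod_eq_of_lt (by omega)] at this
      omega
  subst hn0
  have hR8 : Nat.card (R : Subgroup ↥M) = 8 := by
    rw [Nat.card_congr e.toEquiv, Nat.card_eq_fintype_card, QuaternionGroup.card]
    rfl
  have hker : Nat.card (center ↥M) = 2 := by
    have : (center ↥M) = zpowers (⟨z, hzM⟩ : ↥M) := by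
      refine le_antisymm (fun c hc => ?_) (zpowers_le.mpr hzc)
      rcases hcen c c.2 (fun l hl => congrArg Subtype.val (mem_center_iff.mp hc ⟨l, hl⟩)) with h | h
      · rw [show c = 1 from Subtype.ext h]; exact one_mem _
      · rw [show c = ⟨z, hzM⟩ from Subtype.ext h]; exact mem_zpowers _
    rw [this, Nat.card_zpowers, ← Subgroup.orderOf_coe, hH.z2]
  have hS4 : Nat.card ((R.mapSurjective hsurj : Sylow 2 _) : Subgroup (↥M ⧸ center ↥M)) = 4 := by
    have h := (R : Subgroup ↥M).card_subgroup_dvd_card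
    have hdiv := (R.mapSurjective hsurj).card_eq_multiplicity
    have h1 : Nat.card ↥M = Nat.card (↥M ⧸ center ↥M) * 2 := by
      rw [Subgroup.card_eq_card_quotient_mul_card_subgroup (center ↥M), hker]
    have h2 := R.card_eq_multiplicity
    rw [hR8, h1, Nat.factorization_mul Nat.card_pos.ne' two_ne_zero, Finsupp.add_apply,
      Nat.prime_two.factorization_self] at h2
    rw [hdiv]
    have h3 : 2 ^ ((Nat.card (↥M ⧸ center ↥M)).factorization 2 + 1) = 2 ^ 3 := h2.symm
    have h4 := Nat.pow_right_injective le_rfl h3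
    rw [show (Nat.card (↥M ⧸ center ↥M)).factorization 2 = 2 by omega]
    norm_num
  have hab : IsMulCommutative ↥((R.mapSurjective hsurj : Sylow 2 _) : Subgroup (↥M ⧸ center ↥M)) :=
    ⟨⟨IsPGroup.commutative_of_card_eq_prime_sq (p := 2) (by rw [hS4]; norm_num)⟩⟩
  rcases hTi.list with ⟨m, F, i1, i2, hm, hF, ⟨f⟩⟩ | ⟨m, F, i1, i2, hm, hF, he⟩ |
    ⟨m, F, i1, i2, hm, hF, ⟨f⟩⟩
  · have hq : Fintype.card F = 4 := by
      have hc := H86.PrimeGraph.card_psl_two_even (F := F) (n := m) (by omega) hF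
      have h1 := (R.mapSurjective hsurj).card_eq_multiplicity
      rw [hS4, Nat.card_congr f.toEquiv] at h1
      have h2 : 2 ^ m ∣ Nat.card (Matrix.ProjectiveSpecialLinearGroup (Fin 2) F) := by
        rw [hc]; exact Dvd.intro _ rfl
      have h3 := (Nat.prime_two.pow_dvd_iff_le_factorization Nat.card_pos.ne').mp h2
      have h4 : 2 ^ m ≤ 4 := h1 ▸ Nat.pow_le_pow_right two_pos h3
      have h5 : 2 ^ 2 ≤ 2 ^ m := Nat.pow_le_pow_right two_pos hm
      omega
    obtain ⟨g⟩ := S0252.result (F := F) hq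
    exact ⟨f.trans g⟩
  · exact absurd hab (H10.AbTwo.sz_sylow_nonabelian ⟨F, i1, i2, m, hm, hF, he⟩ _)
  · have hc' : Fintype.card F = (2 ^ m) ^ 2 := by
      rw [hF, show (4 : ℕ) = 2 ^ 2 by norm_num, ← pow_mul, ← pow_mul, mul_comm]
    haveI : CharP F 2 := H58.CI.charP_two_of_pow (n := m * 2) (by rw [hc', ← pow_mul])
    exact absurd hab (H10.AbTwo.psu_sylow_nonabelian hc' f _)

/-- The component is `SL₂(5)`. -/
theorem QuatComp.equiv_sl : Nonempty (↥M ≃* Matrix.SpecialLinearGroup (Fin 2) (ZMod 5)) := by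
  obtain ⟨hzM, hquat, hcen⟩ := one_facts hH hM.comp hM.one
  obtain ⟨f⟩ := hM.quotient_equiv hH
  set q : ↥M →* alternatingGroup (Fin 5) := f.toMonoidHom.comp (QuotientGroup.mk' (center ↥M)) with hq
  have hzc : (⟨z, hzM⟩ : ↥M) ∈ center ↥M := mem_center_iff.mpr fun l => Subtype.ext (hH.zc l).eq.symm
  have hqz : ∀ c, c ∈ center ↥M → q c = 1 := fun c hc => by
    rw [hq]; simp [(QuotientGroup.eq_one_iff c).mpr hc]
  have hker : ∀ a, q a = 1 → a = 1 ∨ a = ⟨z, hzM⟩ := fun a ha => by
    have hac : a ∈ center ↥M := (QuotientGroup.eq_one_iff a).mp (f.injective (ha.trans (map_one f).symm))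
    exact (hcen a a.2 fun l hl => congrArg Subtype.val (mem_center_iff.mp hac ⟨l, hl⟩)).imp
      (fun h => Subtype.ext h) fun h => Subtype.ext h
  refine H2.ChiFour.equiv_SL25 q ⟨z, hzM⟩ (Subtype.ext (by
      rw [pow_two]; exact H39.mul_self_of_orderOf_eq_two hH.z2)) (hqz _ hzc)
    (fun a => mem_center_iff.mp hzc a) hker (fun a ha => ?_)
    (f.surjective.comp (QuotientGroup.mk'_surjective _)) ?_
  · have h1 : q (a * a) = 1 := by rw [map_mul]; exact H39.mul_self_of_orderOf_eq_two ha
    refine (hker _ h1).resolve_left fun h => ?_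
    rcases hM.one _ a.2 (congrArg Subtype.val h) with h' | h'
    · rw [show a = 1 from Subtype.ext h', map_one, orderOf_one] at ha
      exact absurd ha (by norm_num)
    · rw [show a = ⟨z, hzM⟩ from Subtype.ext h', hqz _ hzc, orderOf_one] at ha
      exact absurd ha (by norm_num)
  · have hk : center ↥M = zpowers (⟨z, hzM⟩ : ↥M) := by
      refine le_antisymm (fun c hc => ?_) (zpowers_le.mpr hzc)
      rcases hker c (hqz c hc) with h | h <;> rw [h]
      · exact one_mem _
      · exact mem_zpowers _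
    rw [Subgroup.card_eq_card_quotient_mul_card_subgroup (center ↥M), Nat.card_congr f.toEquiv,
      show Nat.card (alternatingGroup (Fin 5)) = 60 from Nat.card_eq_fintype_card.trans rfl, hk,
      Nat.card_zpowers, ← Subgroup.orderOf_coe, hH.z2]

end Cfsg.Agent.H30.RankInt
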