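import Cfsg.Agent.H30.RankInt.SingleBase
import Cfsg.Agent.H30.RankInt.Mul

/-!
# A single component: the Sylow 2-subgroups split over the 2-core
-/

set_option autoImplicit false
set_option linter.style.haveILetI false
set_option linter.unusedSectionVars false

namespace Cfsg.Agent.H30.RankInt

open Subgroup Cfsg.Agent
open scoped Pointwise

universe u

local instance factTwoS : Fact (Nat.Prime 2) := ⟨Nat.prime_two⟩

variable {H : Type u} [Group H] [Finite H] {z : H} (hH : Central H z) {K : Subgroup H} (hK : Single z K)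
include hH hK

/-- Every element of a Sylow 2-subgroup is a product from the component and the 2-core. -/
theorem Single.exists_mul (hTi : TiSimple (↥K ⧸ center ↥K)) (S : Sylow 2 H) {s : H}
    (hs : s ∈ (S : Subgroup H)) :
    ∃ p ∈ (S : Subgroup H), p ∈ K ∧ ∃ q ∈ Cfsg.pCore 2 H, s = p * q := by
  classical
  haveI := hK.normal
  obtain ⟨p, hpS, hpK, hc⟩ := exists_mul_centralizer hK.comp hTi.list
    (fun c hc hcc T => Cores.pCore_le_sylow T (hK.center_pCore hH hc hcc))
    (fun A B h => ⟨1, one_mem _, by rw [one_smul]; exact (hK.det A B h).symm⟩) S hs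
  exact ⟨p, hpS, hpK, p⁻¹ * s, hK.centralizer_inf hH S (mul_mem (inv_mem hpS) hs)
    fun l hl => mem_centralizer_iff.mp hc l hl, by rw [mul_inv_cancel_left]⟩

/-- Two Sylow 2-subgroups meet in the 2-core. -/
theorem Single.inf_le_pCore (hTi : TiSimple (↥K ⧸ center ↥K)) {S T : Sylow 2 H}
    (hne : S ≠ T) : (S : Subgroup H) ⊓ (T : Subgroup H) ≤ Cfsg.pCore 2 H := by
  classical
  haveI := hK.normal
  intro x hx
  obtain ⟨p, hpS, hpK, q, hq, rfl⟩ := hK.exists_mul hH hTi S hx.1
  have hpT : p ∈ (T : Subgroup H) := by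
    have hxT : p * q ∈ (T : Subgroup H) := hx.2
    have hqT : q ∈ (T : Subgroup H) := Cores.pCore_le_sylow T hq
    have := mul_mem hxT (inv_mem hqT)
    rwa [mul_inv_cancel_right] at this
  set π := QuotientGroup.mk' (center ↥K) with hπ
  have hsurj : Function.Surjective π := QuotientGroup.mk'_surjective _
  obtain ⟨P, hP⟩ := H91.CI.exists_sylow_component hK.comp S
  obtain ⟨P', hP'⟩ := H91.CI.exists_sylow_component hK.comp T
  have hneq : P.mapSurjective hsurj ≠ P'.mapSurjective hsurj := by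
    intro e
    refine hne (hK.eq_of_inf hH fun y hy => ?_)
    have h1 : π ⟨y, hy.2⟩ ∈ (P' : Subgroup ↥K).map π := by
      rw [← Sylow.coe_mapSurjective hsurj P', ← e, Sylow.coe_mapSurjective]
      exact mem_map_of_mem π (by rw [hP]; exact hy.1)
    obtain ⟨w, hw, ew⟩ := h1
    have hc : w⁻¹ * ⟨y, hy.2⟩ ∈ center ↥K := QuotientGroup.eq.mp ew
    have hcT : ((w⁻¹ * ⟨y, hy.2⟩ : ↥K) : H) ∈ (T : Subgroup H) := Cores.pCore_le_sylow T
      (hK.center_pCore hH (SetLike.coe_mem _) fun l hl => congrArg Subtype.val (mem_center_iff.mp hc ⟨l, hl⟩))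
    rw [hP'] at hw
    have := mul_mem (show (w : H) ∈ (T : Subgroup H) from hw) hcT
    rwa [← Subgroup.coe_mul, mul_inv_cancel_left] at this
  have h1 : π ⟨p, hpK⟩ ∈ ((P.mapSurjective hsurj : Sylow 2 _) : Subgroup (↥K ⧸ center ↥K)) ⊓
      ((P'.mapSurjective hsurj : Sylow 2 _) : Subgroup (↥K ⧸ center ↥K)) := by
    rw [Sylow.coe_mapSurjective, Sylow.coe_mapSurjective]
    exact ⟨mem_map_of_mem π (by rw [hP]; exact hpS), mem_map_of_mem π (by rw [hP']; exact hpT)⟩
  rw [hTi.ti _ _ hneq, mem_bot] at h1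
  have hc : (⟨p, hpK⟩ : ↥K) ∈ center ↥K := (QuotientGroup.eq_one_iff _).mp h1
  exact mul_mem (hK.center_pCore hH hpK fun l hl => congrArg Subtype.val (mem_center_iff.mp hc ⟨l, hl⟩)) hq

end Cfsg.Agent.H30.RankInt
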