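import Cfsg.Agent.H30.RankInt.Comp
import Cfsg.Agent.H30.RankInt.CoverFinal
import Cfsg.Agent.H30.RankInt.BenderFacts

/-!
# A single component with two commuting involutions
-/

set_option autoImplicit false
set_option linter.style.haveILetI false
set_option linter.unusedSectionVars false

namespace Cfsg.Agent.H30.RankInt

open Subgroup Cfsg.Agent
open scoped Pointwise

universe u

local instance factTwoSB : Fact (Nat.Prime 2) := ⟨Nat.prime_two⟩

/-- The only component, determining the Sylow 2-subgroups by their parts in it. -/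
structure Single {H : Type u} [Group H] (z : H) (K : Subgroup H) : Prop where
  comp : Cfsg.IsComponent K
  only : ∀ L : Subgroup H, Cfsg.IsComponent L → L = K
  det : ∀ S T : Sylow 2 H, (S : Subgroup H) ⊓ K ≤ (T : Subgroup H) → S = T

variable {H : Type u} [Group H] [Finite H] {z : H} (hH : Central H z) {K : Subgroup H} (hK : Single z K)

theorem normal_of_only {H : Type u} [Group H] {K : Subgroup H} (hcomp : Cfsg.IsComponent K)
    (honly : ∀ L : Subgroup H, Cfsg.IsComponent L → L = K) : K.Normal := by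
  rw [← normalizer_eq_top_iff, eq_top_iff]
  intro g _
  refine mem_normalizer_iff_map_conj_eq.mpr ?_
  refine honly _ ⟨?_, Components.qs_congr (K.equivMapOfInjective _ (MulAut.conj g).injective) hcomp.2⟩
  exact hcomp.1.map (f := (MulAut.conj g).toMonoidHom) (MulAut.conj g).surjective

theorem Single.normal {H : Type u} [Group H] {z : H} {K : Subgroup H} (hK : Single z K) : K.Normal :=
  normal_of_only hK.comp hK.only

include hH in
/-- Every Sylow 2-subgroup has an involution other than `z` in a normal subgroup having one. -/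
theorem exists_invol {N : Subgroup H} [N.Normal] (hN : ∃ x ∈ N, x * x = 1 ∧ x ≠ 1 ∧ x ≠ z) (S : Sylow 2 H) :
    ∃ x ∈ (S : Subgroup H), x ∈ N ∧ x * x = 1 ∧ x ≠ 1 ∧ x ≠ z := by
  obtain ⟨x, hxK, hx2, hx1, hxz⟩ := hN
  obtain ⟨T, hT⟩ := (IsPGroup.of_card (p := 2) (n := 1) (by
    rw [Nat.card_zpowers, H39.orderOf_eq_two_of_mul_self hx2 hx1, pow_one]) :
      IsPGroup 2 ↥(zpowers x)).exists_le_sylow
  obtain ⟨g, rfl⟩ := MulAction.exists_smul_eq H S T
  refine ⟨g⁻¹ * x * g, mem_smul_iff.mp (hT (mem_zpowers x)), Subgroup.Normal.conj_mem' inferInstance x hxK g,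
    by rw [show g⁻¹ * x * g * (g⁻¹ * x * g) = g⁻¹ * (x * x) * g by group, hx2, mul_one, inv_mul_cancel],
    fun e => hx1 ?_, fun e => hxz ?_⟩
  · calc x = g * (g⁻¹ * x * g) * g⁻¹ := by group
      _ = 1 := by rw [e, mul_one, mul_inv_cancel]
  · calc x = g * (g⁻¹ * x * g) * g⁻¹ := by group
      _ = z := by rw [e, ← (hH.zc g).eq, mul_inv_cancel_right]

/-- The only component with an involution other than `z`. -/
theorem single_of_rank (hH : Central H z) {L : Subgroup H} (hcomp : Cfsg.IsComponent L)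
    (honly : ∀ M : Subgroup H, Cfsg.IsComponent M → M = L) (hN : ∃ x ∈ L, x * x = 1 ∧ x ≠ 1 ∧ x ≠ z) :
    Single z L := by
  haveI := normal_of_only hcomp honly
  refine ⟨hcomp, honly, fun S T h => ?_⟩
  obtain ⟨x, hxS, hxK, hx2, hx1, hxz⟩ := exists_invol hH hN S
  exact hH.eq_of_invol hx2 hx1 hxz hxS (h ⟨hxS, hxK⟩)

include hH hK

/-- A Sylow 2-subgroup is determined by its part in the component. -/
theorem Single.eq_of_inf {S T : Sylow 2 H} (h : (S : Subgroup H) ⊓ K ≤ (T : Subgroup H)) : S = T :=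
  hK.det S T h

/-- The centre of the component is contained in `{1, z}`-involutions and is a 2-group. -/
theorem Single.center_pCore {c : H} (hc : c ∈ K) (hcc : ∀ l ∈ K, Commute l c) : c ∈ Cfsg.pCore 2 H :=
  H91.CI.center_component_le hH.core hK.comp hc hcc

/-- Elements of `S` centralizing the component lie in the 2-core. -/
theorem Single.centralizer_inf (S : Sylow 2 H) {c : H} (hcS : c ∈ (S : Subgroup H))
    (hc : ∀ l ∈ K, Commute l c) : c ∈ Cfsg.pCore 2 H := by
  haveI := hK.normal
  -- elements centralizing the component normalize every Sylow 2-subgroup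
  have hnorm : ∀ g ∈ centralizer (K : Set H), ∀ T : Sylow 2 H, g • T = T := fun g hg T =>
    (hK.eq_of_inf hH (S := T) (T := g • T) fun x hx => mem_smul_iff.mpr (by
      rw [mul_assoc, mem_centralizer_iff.mp hg x hx.2, inv_mul_cancel_left]
      exact hx.1)).symm
  set R := (S : Subgroup H) ⊓ centralizer (K : Set H) with hR
  have hRn : R.Normal := by
    refine ⟨fun r hr g => ?_⟩
    have hgr : g * r * g⁻¹ ∈ centralizer (K : Set H) :=
      (inferInstance : (centralizer (K : Set H)).Normal).conj_mem r hr.2 g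
    refine ⟨?_, hgr⟩
    have hp : IsPGroup 2 ↥(zpowers (g * r * g⁻¹)) := by
      obtain ⟨k, hk⟩ := H91.CI.exists_orderOf_pow hr.1
      exact H91.CI.isPGroup_zpowers (k := k) (by rw [conj_pow, hk, mul_one, mul_inv_cancel])
    exact H91.CI.mem_of_mem_normalizer S hp (zpowers_le.mpr (Sylow.smul_eq_iff_mem_normalizer.mp
      (hnorm _ hgr S))) (mem_zpowers _)
  exact le_sSup (show R ∈ {N : Subgroup H | N.Normal ∧ IsPGroup 2 N} from
    ⟨hRn, S.isPGroup'.to_le inf_le_left⟩) ⟨hcS, mem_centralizer_iff.mpr fun l hl => hc l hl⟩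

/-- The 2-core centralizes the component. -/
theorem Single.pCore_commute {q : H} (hq : q ∈ Cfsg.pCore 2 H) {l : H} (hl : l ∈ K) : Commute l q := by
  have h := Components.component_commutator_solvable hK.comp
    (A := Cfsg.pCore 2 H) (by
      haveI : Group.IsNilpotent ↥(Cfsg.pCore 2 H) := (Components.isPGroup_pCore 2).isNilpotent
      infer_instance) (Components.le_normalizer_of_normal _)
  rw [Subgroup.commutator_eq_bot_iff_le_centralizer] at h
  exact (mem_centralizer_iff.mp (h hl) q hq).symm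

/-- The quotient of the component by its centre has a strongly embedded subgroup. -/
theorem Single.tiSimple (hEmb : H91.CI.EmbCriterion.{u}) (hAb : H91.CI.AbFacts.{u})
    (hrank : ∃ x ∈ K, x * x = 1 ∧ x ≠ 1 ∧ x ≠ z) :
    TiSimple (↥K ⧸ center ↥K) := by
  classical
  haveI : Group.IsPerfect ↥K := hK.comp.2.1
  haveI hsimp : IsSimpleGroup (↥K ⧸ center ↥K) := hK.comp.2.2
  have hna : ¬ IsMulCommutative (↥K ⧸ center ↥K) := Components.qs_quotient_not_comm hK.comp.2
  obtain ⟨S⟩ : Nonempty (Sylow 2 H) := inferInstance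
  obtain ⟨P, hP⟩ := H91.CI.exists_sylow_component hK.comp S
  have hcen2 : IsPGroup 2 (center ↥K) := fun ⟨c, hc⟩ => by
    obtain ⟨k, hk⟩ := (Components.isPGroup_pCore 2 : IsPGroup 2 ↥(Cfsg.pCore 2 H))
      ⟨c, hK.center_pCore hH c.2 fun l hl => congrArg Subtype.val (mem_center_iff.mp hc ⟨l, hl⟩)⟩
    exact ⟨k, Subtype.ext (Subtype.ext (congrArg (fun v : ↥(Cfsg.pCore 2 H) => (v : H)) hk))⟩
  have hcu : ∀ c ∈ center ↥K, c * c = 1 → c = 1 ∨ (c : H) = z := fun c hc hc2 =>
    (hH.invol_pCore (hK.center_pCore hH c.2 fun l hl => congrArg Subtype.val (mem_center_iff.mp hc ⟨l, hl⟩))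
      (congrArg Subtype.val hc2)).imp_left fun h => Subtype.ext h
  haveI := hK.normal
  obtain ⟨x, hxS, hxK, hx2, hx1, hxz⟩ := exists_invol hH hrank S
  by_cases hzK : z ∈ K
  · have hdata : CoverData ↥K P ⟨z, hzK⟩ := by
      refine ⟨rankInt_subgroup hH.ri K, inferInstance, by rw [← Subgroup.orderOf_coe]; exact hH.z2,
        mem_center_iff.mpr fun l => Subtype.ext (hH.zc l).eq.symm, hcen2, fun c hc hc2 =>
          (hcu c hc hc2).imp_right fun h => Subtype.ext h, hsimp, hna, ⟨⟨x, hxK⟩, ?_, ?_, ?_⟩⟩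
      · rw [hP]; exact hxS
      · exact H39.orderOf_eq_two_of_mul_self (Subtype.ext hx2) fun e => hx1 (congrArg Subtype.val e)
      · exact fun e => hxz (congrArg Subtype.val e)
    obtain ⟨M, hM⟩ := hdata.exists_se hEmb hAb
    exact tiSimple_of_se hna M hM
  · have hcb : center ↥K = ⊥ := by
      rw [eq_bot_iff_forall]
      intro c hc
      by_contra hc1
      haveI : Nontrivial ↥(center ↥K) := ⟨⟨⟨c, hc⟩, 1, fun e => hc1 (congrArg Subtype.val e)⟩⟩
      obtain ⟨n, hn, hcard⟩ := hcen2.nontrivial_iff_card.mp inferInstance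
      obtain ⟨d, hd⟩ := exists_prime_orderOf_dvd_card' (G := center ↥K) 2 (hcard ▸ dvd_pow_self 2 hn.ne')
      rcases hcu d d.2 (congrArg Subtype.val (H39.mul_self_of_orderOf_eq_two hd)) with h | h
      · exact H39.ne_one_of_orderOf_eq_two hd (Subtype.ext h)
      · exact hzK (h ▸ (d : ↥K).2)
    set π := QuotientGroup.mk' (center ↥K) with hπ
    have hsurj : Function.Surjective π := QuotientGroup.mk'_surjective _
    have hinj : Function.Injective π := by
      rw [← MonoidHom.ker_eq_bot_iff, hπ, QuotientGroup.ker_mk', hcb]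
    set Q := P.mapSurjective hsurj with hQ
    have hQcoe : (Q : Subgroup (↥K ⧸ center ↥K)) = (P : Subgroup ↥K).map π := Sylow.coe_mapSurjective hsurj P
    -- two Sylow subgroups with a common involution coincide
    have huniq : ∀ g : ↥K, ∀ y ∈ (P : Subgroup ↥K), y * y = 1 → y ≠ 1 →
        g * y * g⁻¹ ∈ (P : Subgroup ↥K) → g ∈ normalizer ((P : Subgroup ↥K) : Set ↥K) := by
      intro g y hy hy2 hy1 hgy
      have hyz : (y : H) ≠ z := fun e => hzK (e ▸ y.2)
      have hn := mem_normalizer_of_conj hH.ri S (a := (y : H)) (b := z) (g := (g : H))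
        (H39.orderOf_eq_two_of_mul_self (congrArg Subtype.val hy2) fun e => hy1 (Subtype.ext e)) hH.z2
        (hH.zc _).symm hyz (by rw [hP] at hy; exact hy) (hH.z_mem S) (by rw [hP] at hgy; exact hgy)
        (by rw [← (hH.zc _).eq, mul_inv_cancel_right]; exact hH.z_mem S)
      refine mem_normalizer_iff.mpr fun k => ?_
      rw [hP, mem_subgroupOf, mem_subgroupOf]
      exact mem_normalizer_iff.mp hn k
    refine tiSimple_of_se hna (normalizer ((Q : Subgroup (↥K ⧸ center ↥K)) : Set (↥K ⧸ center ↥K)))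
      ⟨?_, ?_, ?_⟩
    · intro e
      haveI := normalizer_eq_top_iff.mp e
      have hxQ : π ⟨x, hxK⟩ ∈ (Q : Subgroup (↥K ⧸ center ↥K)) :=
        hQcoe ▸ mem_map_of_mem π (by rw [hP]; exact hxS)
      rcases (inferInstance : (Q : Subgroup (↥K ⧸ center ↥K)).Normal).eq_bot_or_eq_top with hb | ht
      · rw [hb, mem_bot, ← map_one π] at hxQ
        exact hx1 (congrArg Subtype.val (hinj hxQ))
      · haveI : Group.IsNilpotent (↥K ⧸ center ↥K) := by
          have hp : IsPGroup 2 (⊤ : Subgroup (↥K ⧸ center ↥K)) := ht ▸ Q.isPGroup'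
          exact (hp.of_equiv topEquiv).isNilpotent
        exact hna ⟨⟨fun a b => IsSimpleGroup.comm_iff_isSolvable.mpr inferInstance a b⟩⟩
    · refine even_iff_two_dvd.mpr ?_
      have hxQ : π ⟨x, hxK⟩ ∈ normalizer ((Q : Subgroup (↥K ⧸ center ↥K)) : Set (↥K ⧸ center ↥K)) :=
        le_normalizer (hQcoe ▸ mem_map_of_mem π (by rw [hP]; exact hxS))
      have ho : orderOf (π ⟨x, hxK⟩) = 2 := by
        rw [orderOf_injective π hinj, ← Subgroup.orderOf_coe]
        exact H39.orderOf_eq_two_of_mul_self hx2 hx1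
      have := orderOf_dvd_natCard _ hxQ
      rwa [ho] at this
    · intro g hg
      rw [← Nat.not_even_iff_odd, even_iff_two_dvd]
      intro h2
      obtain ⟨y, hy⟩ := exists_prime_orderOf_dvd_card' 2 h2
      rw [← Subgroup.orderOf_coe] at hy
      obtain ⟨hyN, w, hwN, hwy⟩ := y.2
      have hyQ : (y : ↥K ⧸ center ↥K) ∈ (Q : Subgroup (↥K ⧸ center ↥K)) :=
        H91.CI.mem_of_mem_normalizer Q (IsPGroup.of_card (p := 2) (n := 1)
          (by rw [Nat.card_zpowers, hy, pow_one])) (zpowers_le.mpr hyN) (mem_zpowers _)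
      have hw : orderOf w = 2 := by
        rw [← orderOf_injective (MulAut.conj g).toMonoidHom (MulAut.conj g).injective w, hwy, hy]
      have hwQ : w ∈ (Q : Subgroup (↥K ⧸ center ↥K)) :=
        H91.CI.mem_of_mem_normalizer Q (IsPGroup.of_card (p := 2) (n := 1)
          (by rw [Nat.card_zpowers, hw, pow_one])) (zpowers_le.mpr hwN) (mem_zpowers _)
      obtain ⟨k, rfl⟩ := hsurj g
      obtain ⟨a, ha, hay⟩ := hQcoe.le hyQ
      obtain ⟨b, hb, rfl⟩ := hQcoe.le hwQ
      have hb2 : b * b = 1 ∧ b ≠ 1 := by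
        rw [orderOf_injective π hinj] at hw
        exact ⟨H39.mul_self_of_orderOf_eq_two hw, H39.ne_one_of_orderOf_eq_two hw⟩
      have hkb : k * b * k⁻¹ = a := hinj (by
        rw [map_mul, map_mul, map_inv, hay, ← hwy]; rfl)
      have hkn := huniq k b hb hb2.1 hb2.2 (hkb ▸ ha)
      refine hg ?_
      refine mem_normalizer_iff_map_conj_eq.mpr ?_
      rw [hQcoe]
      conv_rhs => rw [← mem_normalizer_iff_map_conj_eq.mp hkn]
      rw [map_map, map_map]
      refine congrArg (fun f : ↥K →* ↥K ⧸ center ↥K => (P : Subgroup ↥K).map f) (MonoidHom.ext fun v => ?_)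
      simp

end Cfsg.Agent.H30.RankInt
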