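import Cfsg.Agent.H30.RankInt.QuatComp
import Cfsg.Agent.H30.RankInt.Mul
import Cfsg.Agent.H30.RankInt.Pairs

/-!
# Two components
-/

set_option autoImplicit false
set_option linter.style.haveILetI false
set_option linter.unusedSectionVars false

namespace Cfsg.Agent.H30.RankInt

open Subgroup Cfsg.Agent
open scoped Pointwise

universe u

local instance factTwoT : Fact (Nat.Prime 2) := ⟨Nat.prime_two⟩

local notation "SL25" => Matrix.SpecialLinearGroup (Fin 2) (ZMod 5)

/-- A normal subgroup of odd index isomorphic to the central product of two copies of `SL₂(5)`, with an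
elementary subgroup of order eight in a Sylow 2-subgroup whose central elements are `1` and `z`. -/
structure GoodB (H : Type u) [Group H] (z : H) : Prop where
  prod : ∃ (E : Subgroup H), E.Normal ∧ Odd E.index ∧
    ∃ (Z : Subgroup (SL25 × SL25)) (_ : Z.Normal), Z = zpowers ((-1 : SL25), (-1 : SL25)) ∧
      Nonempty (↥E ≃* (SL25 × SL25) ⧸ Z)
  eight : ∃ S : Sylow 2 H, HasEight (S : Subgroup H)
  central : ∀ S : Sylow 2 H, ∀ v ∈ (S : Subgroup H), (∀ s ∈ (S : Subgroup H), Commute s v) → v = 1 ∨ v = z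

variable {H : Type u} [Group H] [Finite H] {z : H}

/-- A nontrivial 2-element having all involution powers equal to `z` has a power squaring to `z`. -/
theorem exists_root (hz2 : orderOf z = 2) {x : H} {k : ℕ} (hk : x ^ 2 ^ k = 1)
    (hone : ∀ m : ℕ, x ^ m * x ^ m = 1 → x ^ m = 1 ∨ x ^ m = z) (hx : x ≠ 1 ∧ x ≠ z) :
    ∃ m : ℕ, x ^ m * x ^ m = z := by
  induction k with
  | zero => exact absurd (by simpa using hk) hx.1
  | succ k ih =>
    by_cases h : x ^ 2 ^ k = 1
    · exact ih h
    have h1 : x ^ 2 ^ k * x ^ 2 ^ k = 1 := by rw [← pow_add, ← two_mul, ← pow_succ', hk]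
    have h2 : x ^ 2 ^ k = z := (hone _ h1).resolve_left h
    rcases k with _ | j
    · exact absurd (by simpa using h2) hx.2
    · exact ⟨2 ^ j, by rw [← pow_add, ← two_mul, ← pow_succ', h2]⟩

variable (hH : Central H z)
include hH

/-- A quaternion pair in a Sylow 2-subgroup and a component with one involution. -/
theorem exists_pair {M : Subgroup H} (hcomp : Cfsg.IsComponent M)
    (hone : ∀ x ∈ M, x * x = 1 → x = 1 ∨ x = z) (S : Sylow 2 H) :
    ∃ x ∈ (S : Subgroup H), x ∈ M ∧ ∃ y ∈ (S : Subgroup H), y ∈ M ∧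
      x * x = z ∧ y * y = z ∧ y * x * y⁻¹ = x * z := by
  obtain ⟨hzM, hquat, -⟩ := one_facts hH hcomp hone
  obtain ⟨P, hP⟩ := H91.CI.exists_sylow_component hcomp S
  obtain ⟨n, ⟨e⟩⟩ := hquat P
  haveI : NeZero (2 ^ (n + 1)) := ⟨by positivity⟩
  haveI : NeZero (2 * 2 ^ (n + 1)) := ⟨by positivity⟩
  have hm2 : 2 ≤ 2 ^ (n + 1) := le_self_pow₀ one_le_two (by omega)
  set N : ZMod (2 * 2 ^ (n + 1)) := ((2 ^ (n + 1) : ℕ) : ZMod (2 * 2 ^ (n + 1))) with hN
  have hNN : N + N = 0 := by rw [hN, ← Nat.cast_add, ← two_mul, ZMod.natCast_self]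
  set ι : QuaternionGroup (2 ^ (n + 1)) →* H :=
    (M.subtype.comp (P : Subgroup ↥M).subtype).comp e.symm.toMonoidHom with hι
  have hιi : Function.Injective ι :=
    (M.subtype_injective.comp (P : Subgroup ↥M).subtype_injective).comp e.symm.injective
  have hιS : ∀ g, ι g ∈ (S : Subgroup H) ∧ ι g ∈ M := fun g => by
    refine ⟨?_, SetLike.coe_mem _⟩
    exact (hP.le (e.symm g).2 : _)
  have hNz : ι (QuaternionGroup.a N) = z := by
    refine (hone _ (hιS _).2 ?_).resolve_left fun h => ?_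
    · rw [← map_mul, QuaternionGroup.a_mul_a, hNN]
      exact map_one ι
    · have h' : N = 0 :=
        QuaternionGroup.a.inj ((hιi (h.trans (map_one ι).symm)).trans QuaternionGroup.one_def)
      have := Nat.le_of_dvd (by omega) ((ZMod.natCast_eq_zero_iff _ _).1 h')
      omega
  -- `b` has order four and is inverted by `xa 0`
  set b : ZMod (2 * 2 ^ (n + 1)) := ((2 ^ n : ℕ) : ZMod (2 * 2 ^ (n + 1))) with hb
  have hbb : b + b = N := by
    rw [hb, hN, ← Nat.cast_add, ← two_mul]
    congr 1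
    rw [pow_succ']
  refine ⟨ι (QuaternionGroup.a b), (hιS _).1, (hιS _).2, ι (QuaternionGroup.xa 0), (hιS _).1, (hιS _).2,
    ?_, ?_, ?_⟩
  · rw [← map_mul, QuaternionGroup.a_mul_a, hbb, hNz]
  · rw [← map_mul, QuaternionGroup.xa_mul_xa, show ((2 ^ (n + 1) : ℕ) : ZMod (2 * 2 ^ (n + 1))) + 0 - 0 = N by
      rw [add_zero, sub_zero], hNz]
  · rw [mul_inv_eq_iff_eq_mul, ← hNz, ← map_mul, ← map_mul, ← map_mul, QuaternionGroup.xa_mul_a,
      QuaternionGroup.a_mul_a, QuaternionGroup.a_mul_xa, zero_add, zero_sub]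
    congr 2
    linear_combination hbb + hNN

section two

variable {K₁ K₂ : Subgroup H} (h1 : Cfsg.IsComponent K₁) (h2 : Cfsg.IsComponent K₂) (hne : K₁ ≠ K₂)
include h1 h2 hne

theorem commute_of_two {a b : H} (ha : a ∈ K₁) (hb : b ∈ K₂) : Commute a b := by
  have h := Components.components_commute h1 h2 hne
  rw [Subgroup.commutator_eq_bot_iff_le_centralizer] at h
  exact ((mem_centralizer_iff.mp (h ha)) b hb).symm

theorem two_one : ∀ x ∈ K₂, x * x = 1 → x = 1 ∨ x = z := by
  intro x hx hxx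
  obtain ⟨T, hT⟩ := (H91.CI.isPGroup_zpowers (k := 1) (by rw [pow_one, pow_two, hxx]) :
    IsPGroup 2 ↥(zpowers x)).exists_le_sylow
  exact (hH.z_mem_of_other h1 h2 hne).2 T x (hT (mem_zpowers x)) hx hxx

theorem two_quat : QuatComp z K₂ := by
  obtain ⟨S⟩ : Nonempty (Sylow 2 H) := inferInstance
  obtain ⟨x, -, hx, -, -, -, hxx, -⟩ := exists_pair hH h1 (two_one hH h2 h1 hne.symm) S
  exact ⟨h2, two_one hH h1 h2 hne, x, hxx, fun l hl => (commute_of_two hH h1 h2 hne hx hl).symm⟩

/-- A product of roots from the two components is an involution different from `z`. -/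
theorem two_invol {a b : H} (ha : a ∈ K₁) (hb : b ∈ K₂) (haa : a * a = z) (hbb : b * b = z) :
    a * b * (a * b) = 1 ∧ a * b ≠ 1 ∧ a * b ≠ z := by
  have hc := commute_of_two hH h1 h2 hne ha hb
  have hzz := H39.mul_self_of_orderOf_eq_two hH.z2
  obtain ⟨-, -, hcen⟩ := one_facts hH h1 (two_one hH h2 h1 hne.symm)
  have hbad : (∀ l ∈ K₁, Commute l a) → False := fun h => by
    rcases hcen a ha h with rfl | rfl
    · exact H39.ne_one_of_orderOf_eq_two hH.z2 (by rw [← haa, one_mul])
    · exact H39.ne_one_of_orderOf_eq_two hH.z2 (by rw [← haa]; exact hzz)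
  refine ⟨by rw [show a * b * (a * b) = a * (b * a) * b by group, ← hc.eq,
    show a * (a * b) * b = (a * a) * (b * b) by group, haa, hbb, hzz], fun e => hbad fun l hl => ?_,
    fun e => hbad fun l hl => ?_⟩
  · rw [eq_inv_of_mul_eq_one_left e]
    exact (commute_of_two hH h1 h2 hne hl hb).inv_right
  · rw [eq_mul_inv_of_mul_eq e]
    exact (hH.zc l).symm.mul_right (commute_of_two hH h1 h2 hne hl hb).inv_right

/-- No further component. -/
theorem two_only {L : Subgroup H} (hL : Cfsg.IsComponent L) : L = K₁ ∨ L = K₂ := by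
  by_contra hh
  push Not at hh
  obtain ⟨S⟩ : Nonempty (Sylow 2 H) := inferInstance
  obtain ⟨a, haS, ha, -, -, -, haa, -⟩ := exists_pair hH h1 (two_one hH h2 h1 hne.symm) S
  obtain ⟨b, hbS, hb, -, -, -, hbb, -⟩ := exists_pair hH h2 (two_one hH h1 h2 hne) S
  obtain ⟨hinv, hn1, hnz⟩ := two_invol hH h1 h2 hne ha hb haa hbb
  exact (hH.invol_of_centralizes hL S (mul_mem haS hbS) hinv fun l hl =>
    (commute_of_two hH hL h1 hh.1 hl ha).mul_right (commute_of_two hH hL h2 hh.2 hl hb)).elim hn1 hnz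

/-- The centralizer of both components is generated by `z`. -/
theorem two_centralizer {c : H} (hc1 : ∀ l ∈ K₁, Commute l c) (hc2 : ∀ l ∈ K₂, Commute l c) :
    c = 1 ∨ c = z := by
  have hzz := H39.mul_self_of_orderOf_eq_two hH.z2
  -- the 2-core is generated by `z`
  have hQ : ∀ q ∈ Cfsg.pCore 2 H, q = 1 ∨ q = z := by
    intro q hq
    by_contra hh
    push Not at hh
    obtain ⟨k, hk⟩ := (Components.isPGroup_pCore 2 : IsPGroup 2 ↥(Cfsg.pCore 2 H)) ⟨q, hq⟩
    obtain ⟨m, hm⟩ := exists_root hH.z2 (x := q) (congrArg (fun w : ↥(Cfsg.pCore 2 H) => (w : H)) hk)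
      (fun m h => hH.invol_pCore (pow_mem hq m) h) hh
    have hqc : ∀ L : Subgroup H, Cfsg.IsComponent L → ∀ l ∈ L, Commute l (q ^ m) := fun L hL l hl => by
      have h := Components.component_commutator_solvable hL
        (A := Cfsg.pCore 2 H) (by
          haveI : Group.IsNilpotent ↥(Cfsg.pCore 2 H) := (Components.isPGroup_pCore 2).isNilpotent
          infer_instance) (Components.le_normalizer_of_normal _)
      rw [Subgroup.commutator_eq_bot_iff_le_centralizer] at h
      exact (mem_centralizer_iff.mp (h hl) _ (pow_mem hq m)).symm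
    obtain ⟨S⟩ : Nonempty (Sylow 2 H) := inferInstance
    obtain ⟨a, haS, ha, -, -, -, haa, -⟩ := exists_pair hH h1 (two_one hH h2 h1 hne.symm) S
    obtain ⟨-, -, hcen⟩ := one_facts hH h1 (two_one hH h2 h1 hne.symm)
    have hca : Commute a (q ^ m) := hqc K₁ h1 a ha
    have hinv : a * q ^ m * (a * q ^ m) = 1 := by
      rw [show a * q ^ m * (a * q ^ m) = a * (q ^ m * a) * q ^ m by group, ← hca.eq,
        show a * (a * q ^ m) * q ^ m = (a * a) * (q ^ m * q ^ m) by group, haa, hm, hzz]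
    have hbad : (∀ l ∈ K₁, Commute l a) → False := fun h => by
      rcases hcen a ha h with rfl | rfl
      · exact H39.ne_one_of_orderOf_eq_two hH.z2 (by rw [← haa, one_mul])
      · exact H39.ne_one_of_orderOf_eq_two hH.z2 (by rw [← haa]; exact hzz)
    rcases hH.invol_of_centralizes h2 S (mul_mem haS (Cores.pCore_le_sylow S (pow_mem hq m))) hinv
      (fun l hl => (commute_of_two hH h1 h2 hne ha hl).symm.mul_right (hqc K₂ h2 l hl)) with e | e
    · exact hbad fun l hl => by rw [eq_inv_of_mul_eq_one_left e]; exact (hqc K₁ h1 l hl).inv_right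
    · exact hbad fun l hl => by
        rw [eq_mul_inv_of_mul_eq e]; exact (hH.zc l).symm.mul_right (hqc K₁ h1 l hl).inv_right
  refine hQ c (H91.CI.mem_pCore_of_centralizes hH.core (fun L hL => ?_) ?_)
  · rcases two_only hH h1 h2 hne hL with rfl | rfl
    · exact mem_centralizer_iff.mpr fun l hl => (hc1 l hl).eq
    · exact mem_centralizer_iff.mpr fun l hl => (hc2 l hl).eq
  · exact mem_centralizer_iff.mpr fun q hq => by
      rcases hQ q hq with rfl | rfl
      · rw [one_mul, mul_one]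
      · exact (hH.zc c).eq

/-- Both components are normal. -/
theorem two_normal : K₁.Normal := by
  classical
  have hperm : ∀ g : H, K₁.map (MulAut.conj g).toMonoidHom = K₁ ∨
      K₁.map (MulAut.conj g).toMonoidHom = K₂ := fun g => two_only hH h1 h2 hne
    ⟨h1.1.map (f := (MulAut.conj g).toMonoidHom) (MulAut.conj g).surjective,
      Components.qs_congr (K₁.equivMapOfInjective _ (MulAut.conj g).injective) h1.2⟩
  obtain ⟨S⟩ : Nonempty (Sylow 2 H) := inferInstance
  -- a Sylow 2-subgroup fixes the two components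
  have hS : (S : Subgroup H) ≤ normalizer (K₁ : Set H) := by
    intro s hs
    refine mem_normalizer_iff_map_conj_eq.mpr ((hperm s).resolve_right fun hswap => ?_)
    obtain ⟨a, haS, ha, -, -, -, haa, -⟩ := exists_pair hH h1 (two_one hH h2 h1 hne.symm) S
    obtain ⟨b, hbS, hb, -, -, -, hbb, -⟩ := exists_pair hH h2 (two_one hH h1 h2 hne) S
    obtain ⟨hinv, hn1, hnz⟩ := two_invol hH h1 h2 hne ha hb haa hbb
    obtain ⟨P, hP⟩ := H91.CI.exists_sylow_component h1 S
    haveI : Group.IsPerfect ↥K₁ := h1.2.1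
    -- the Sylow subgroup of the component is not self-normalising
    obtain ⟨g, hgN, hgP⟩ : ∃ g ∈ normalizer ((P : Subgroup ↥K₁) : Set ↥K₁), g ∉ (P : Subgroup ↥K₁) := by
      by_contra hall
      push Not at hall
      have hQ1 := two_quat hH h2 h1 hne.symm
      have hTi := hQ1.tiSimple hH
      set π := QuotientGroup.mk' (center ↥K₁)
      have hsurj : Function.Surjective π := QuotientGroup.mk'_surjective _
      obtain ⟨u, hu, v, hv, hu2, hv2, huv⟩ := hTi.two (P.mapSurjective hsurj)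
      obtain ⟨m, hm, hmv⟩ := hTi.conj (P.mapSurjective hsurj) u hu v hv hu2 hv2
      have hker : π.ker ≤ (P : Subgroup ↥K₁) := by
        intro c hc
        rw [QuotientGroup.ker_mk'] at hc
        rw [hP, mem_subgroupOf]
        rcases (one_facts hH h1 (two_one hH h2 h1 hne.symm)).2.2 c c.2
          (fun l hl => congrArg Subtype.val (mem_center_iff.mp hc ⟨l, hl⟩)) with h | h <;> rw [h]
        · exact one_mem _
        · exact hH.z_mem S
      obtain ⟨g, rfl⟩ := hsurj m
      have hiff : ∀ x, x ∈ (P : Subgroup ↥K₁) ↔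
          π x ∈ ((P.mapSurjective hsurj : Sylow 2 _) : Subgroup (↥K₁ ⧸ center ↥K₁)) := fun x => by
        rw [Sylow.coe_mapSurjective, ← mem_comap, comap_map_eq_self hker]
      have hg : g ∈ normalizer ((P : Subgroup ↥K₁) : Set ↥K₁) := mem_normalizer_iff.mpr fun x => by
        rw [hiff, hiff, map_mul, map_mul, map_inv]
        exact mem_normalizer_iff.mp hm (π x)
      refine huv ?_
      have hgQ : π g ∈ ((P.mapSurjective hsurj : Sylow 2 _) : Subgroup (↥K₁ ⧸ center ↥K₁)) := by
        rw [Sylow.coe_mapSurjective]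
        exact mem_map_of_mem π (hall g hg)
      rw [← hmv, (hTi.central _ u hu (H39.mul_self_of_orderOf_eq_two hu2) _ hgQ).eq, mul_inv_cancel_right]
    -- it normalises `S`
    have hgS : (g : H) ∈ normalizer ((S : Subgroup H) : Set H) := by
      refine mem_normalizer_of_conj hH.ri S (a := a * b) (b := z)
        (H39.orderOf_eq_two_of_mul_self hinv hn1) hH.z2 (hH.zc _).symm hnz (mul_mem haS hbS) (hH.z_mem S) ?_
        (by rw [← (hH.zc _).eq, mul_inv_cancel_right]; exact hH.z_mem S)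
      rw [show (g : H) * (a * b) * (g : H)⁻¹ = ((g : H) * a * (g : H)⁻¹) * ((g : H) * b * (g : H)⁻¹) by group,
        (commute_of_two hH h1 h2 hne g.2 hb).eq, mul_inv_cancel_right]
      refine mul_mem ?_ hbS
      have haP : (⟨a, ha⟩ : ↥K₁) ∈ (P : Subgroup ↥K₁) := by rw [hP]; exact haS
      have h := (mem_normalizer_iff.mp hgN _).mp haP
      rw [hP] at h
      exact h
    have hk : s * (g : H) * s⁻¹ ∈ K₂ := hswap ▸ mem_map_of_mem (MulAut.conj s).toMonoidHom g.2
    have hmem : s * (g : H) * s⁻¹ * (g : H)⁻¹ ∈ (S : Subgroup H) := by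
      rw [show s * (g : H) * s⁻¹ * (g : H)⁻¹ = s * ((g : H) * s⁻¹ * (g : H)⁻¹) by group]
      exact mul_mem hs ((mem_normalizer_iff.mp hgS _).mp (inv_mem hs))
    obtain ⟨k, hk'⟩ := H91.CI.exists_orderOf_pow hmem
    rw [((commute_of_two hH h1 h2 hne g.2 hk).symm.inv_right).mul_pow, inv_pow, mul_inv_eq_one] at hk'
    have hcen : ∀ l ∈ K₁, Commute l ((g : H) ^ 2 ^ k) := fun l hl => by
      rw [← hk']
      exact (commute_of_two hH h1 h2 hne hl hk).pow_right _
    have hfin : (g : H) ^ 2 ^ (k + 1) = 1 := by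
      rw [pow_succ, pow_mul]
      rcases (one_facts hH h1 (two_one hH h2 h1 hne.symm)).2.2 _ (pow_mem g.2 _) hcen with h | h <;> rw [h]
      · exact one_pow 2
      · rw [pow_two]; exact H39.mul_self_of_orderOf_eq_two hH.z2
    refine hgP ?_
    exact H91.CI.mem_of_mem_normalizer P (H91.CI.isPGroup_zpowers (k := k + 1) (Subtype.ext hfin))
      (zpowers_le.mpr hgN) (mem_zpowers g)
  rw [← normalizer_eq_top_iff]
  by_contra htop
  obtain ⟨g, hg⟩ : ∃ g, g ∉ normalizer (K₁ : Set H) := by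
    by_contra hall
    push Not at hall
    exact htop (eq_top_iff.mpr fun g _ => hall g)
  have hgK : K₁.map (MulAut.conj g).toMonoidHom = K₂ :=
    (hperm g).resolve_left fun h => hg (mem_normalizer_iff_map_conj_eq.mpr h)
  have hidx : (normalizer (K₁ : Set H)).index = 2 := by
    refine Subgroup.index_eq_two_iff.mpr ⟨g, fun b => ?_⟩
    have hmm : K₁.map (MulAut.conj (b * g)).toMonoidHom = K₂.map (MulAut.conj b).toMonoidHom := by
      rw [← hgK, map_map]
      refine congrArg (fun f : H →* H => K₁.map f) (MonoidHom.ext fun x => ?_)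
      simp [mul_assoc]
    by_cases hb : b ∈ normalizer (K₁ : Set H)
    · refine Or.inr ⟨hb, fun hbg => hg ?_⟩
      have := mul_mem (inv_mem hb) hbg
      rwa [inv_mul_cancel_left] at this
    · refine Or.inl ⟨mem_normalizer_iff_map_conj_eq.mpr ?_, hb⟩
      have hbK : K₁.map (MulAut.conj b).toMonoidHom = K₂ :=
        (hperm b).resolve_left fun h => hb (mem_normalizer_iff_map_conj_eq.mpr h)
      rcases hperm (b * g) with h | h
      · exact h
      · exact absurd (map_injective (f := (MulAut.conj b).toMonoidHom) (MulAut.conj b).injective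
          (hbK.trans (h.symm.trans hmm))) hne
  refine S.not_dvd_index ?_
  have h := Subgroup.index_dvd_of_le hS
  rwa [hidx] at h

end two

/-- The conclusion for two components. -/
theorem goodB_of_two {K₁ K₂ : Subgroup H} (h1 : Cfsg.IsComponent K₁) (h2 : Cfsg.IsComponent K₂)
    (hne : K₁ ≠ K₂) : GoodB H z := by
  classical
  haveI hn1 := two_normal hH h1 h2 hne
  haveI hn2 := two_normal hH h2 h1 hne.symm
  have hzz := H39.mul_self_of_orderOf_eq_two hH.z2
  have hz1 := H39.ne_one_of_orderOf_eq_two hH.z2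
  have ho1 := two_one hH h2 h1 hne.symm
  have ho2 := two_one hH h1 h2 hne
  obtain ⟨hzK1, -, hcen1⟩ := one_facts hH h1 ho1
  obtain ⟨hzK2, -, hcen2⟩ := one_facts hH h2 ho2
  have hsplit : ∀ A B : Subgroup H, Cfsg.IsComponent A → Cfsg.IsComponent B → A ≠ B → A.Normal →
      ∀ S : Sylow 2 H, ∀ s ∈ (S : Subgroup H),
        ∃ p ∈ (S : Subgroup H), p ∈ A ∧ p⁻¹ * s ∈ centralizer (A : Set H) := by
    intro A B hA hB hAB hAn S s hs
    haveI := hAn
    haveI := two_normal hH hB hA hAB.symm
    refine exists_mul_centralizer hA ((two_quat hH hB hA hAB.symm).tiSimple hH).list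
      (fun c hc hcc T => ?_) (fun U T hUT => ?_) S hs
    · rcases (one_facts hH hA (two_one hH hB hA hAB.symm)).2.2 c hc hcc with rfl | rfl
      · exact one_mem _
      · exact hH.z_mem T
    · obtain ⟨PU, hPU⟩ := H91.CI.exists_sylow_component hB U
      obtain ⟨PT, hPT⟩ := H91.CI.exists_sylow_component hB T
      obtain ⟨c, hc⟩ := MulAction.exists_smul_eq ↥B PT PU
      refine ⟨(c : H), mem_centralizer_iff.mpr fun a ha => (commute_of_two hH hA hB hAB ha c.2).eq, ?_⟩
      obtain ⟨a, haU, ha, -, -, -, haa, -⟩ := exists_pair hH hA (two_one hH hB hA hAB.symm) U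
      obtain ⟨b, hbU, hb, -, -, -, hbb, -⟩ := exists_pair hH hB (two_one hH hA hB hAB) U
      obtain ⟨hinv, hn1, hnz⟩ := two_invol hH hA hB hAB ha hb haa hbb
      refine (hH.eq_of_invol hinv hn1 hnz (mul_mem haU hbU) (mul_mem (mem_smul_iff.mpr ?_) (mem_smul_iff.mpr ?_))).symm
      · rw [mul_assoc, (commute_of_two hH hA hB hAB ha c.2).eq, inv_mul_cancel_left]
        exact hUT ⟨haU, ha⟩
      · have hbP : (⟨b, hb⟩ : ↥B) ∈ ((c • PT : Sylow 2 ↥B) : Subgroup ↥B) := by
          rw [hc, hPU]; exact hbU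
        have h := mem_smul_iff.mp hbP
        rw [hPT] at h
        exact h
  have hdec : ∀ S : Sylow 2 H, ∀ s ∈ (S : Subgroup H), ∃ p ∈ (S : Subgroup H), p ∈ K₁ ∧
      ∃ q ∈ (S : Subgroup H), q ∈ K₂ ∧ s = p * q := by
    intro S s hs
    obtain ⟨p, hpS, hp, hc1⟩ := hsplit K₁ K₂ h1 h2 hne hn1 S s hs
    obtain ⟨q, hqS, hq, hc2⟩ := hsplit K₂ K₁ h2 h1 hne.symm hn2 S _ (mul_mem (inv_mem hpS) hs)
    rcases two_centralizer hH h1 h2 hne (c := q⁻¹ * (p⁻¹ * s))
      (fun l hl => ((commute_of_two hH h1 h2 hne hl hq).inv_right).mul_right (mem_centralizer_iff.mp hc1 l hl))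
      (fun l hl => mem_centralizer_iff.mp hc2 l hl) with h | h
    · exact ⟨p, hpS, hp, q, hqS, hq, by rw [inv_mul_eq_one.mp h, mul_inv_cancel_left]⟩
    · refine ⟨p, hpS, hp, q * z, mul_mem hqS (hH.z_mem S), mul_mem hq hzK2, ?_⟩
      rw [← h, mul_inv_cancel_left, mul_inv_cancel_left]
  obtain ⟨e1⟩ := (two_quat hH h2 h1 hne.symm).equiv_sl hH
  obtain ⟨e2⟩ := (two_quat hH h1 h2 hne).equiv_sl hH
  refine ⟨⟨K₁ ⊔ K₂, inferInstance, ?_, ?_⟩, ?_, ?_⟩
  · obtain ⟨S⟩ : Nonempty (Sylow 2 H) := inferInstance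
    have hle : (S : Subgroup H) ≤ K₁ ⊔ K₂ := fun s hs => by
      obtain ⟨p, -, hp, q, -, hq, rfl⟩ := hdec S s hs
      exact mul_mem (mem_sup_left hp) (mem_sup_right hq)
    rw [← Nat.not_even_iff_odd, even_iff_two_dvd]
    exact fun h => S.not_dvd_index (h.trans (Subgroup.index_dvd_of_le hle))
  · let f1 : SL25 →* H := K₁.subtype.comp e1.symm.toMonoidHom
    let f2 : SL25 →* H := K₂.subtype.comp e2.symm.toMonoidHom
    let f : SL25 × SL25 →* H := f1.noncommCoprod f2 fun a b =>
      commute_of_two hH h1 h2 hne (SetLike.coe_mem _) (SetLike.coe_mem _)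
    have hneg : ∀ (M : Subgroup H) (e : ↥M ≃* SL25), (∀ x ∈ M, x * x = 1 → x = 1 ∨ x = z) →
        ((e.symm (-1) : ↥M) : H) = z := by
      intro M e hone
      refine (hone _ (SetLike.coe_mem _) ?_).resolve_left fun h => ?_
      · rw [← Subgroup.coe_mul, ← map_mul, neg_mul_neg, one_mul, map_one, Subgroup.coe_one]
      · have h' : (-1 : SL25) = 1 := by
          rw [← e.apply_symm_apply (-1), show e.symm (-1) = 1 from Subtype.ext h, map_one]
        exact absurd h' (by decide +kernel)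
    have hrange : f.range = K₁ ⊔ K₂ := by
      rw [MonoidHom.noncommCoprod_range]
      congr 1 <;> ext x
      · exact ⟨fun ⟨a, e⟩ => e ▸ (e1.symm a).2, fun hx => ⟨e1 ⟨x, hx⟩, by simp [f1]⟩⟩
      · exact ⟨fun ⟨a, e⟩ => e ▸ (e2.symm a).2, fun hx => ⟨e2 ⟨x, hx⟩, by simp [f2]⟩⟩
    have hker : f.ker = zpowers ((-1 : SL25), (-1 : SL25)) := by
      refine le_antisymm ?_ (zpowers_le.mpr ?_)
      · rintro ⟨a, b⟩ hab
        have hab' : ((e1.symm a : ↥K₁) : H) * ((e2.symm b : ↥K₂) : H) = 1 := hab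
        have hA : ((e1.symm a : ↥K₁) : H) = 1 ∨ ((e1.symm a : ↥K₁) : H) = z := by
          refine hcen1 _ (SetLike.coe_mem _) fun l hl => ?_
          rw [eq_inv_of_mul_eq_one_left hab']
          exact (commute_of_two hH h1 h2 hne hl (SetLike.coe_mem _)).inv_right
        rcases hA with h | h <;> rw [h] at hab'
        · rw [one_mul] at hab'
          rw [show a = 1 by rw [← e1.apply_symm_apply a, show e1.symm a = 1 from Subtype.ext h, map_one],
            show b = 1 by rw [← e2.apply_symm_apply b, show e2.symm b = 1 from Subtype.ext hab', map_one]]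
          exact one_mem _
        · have hb : ((e2.symm b : ↥K₂) : H) = z := by
            rw [← one_mul ((e2.symm b : ↥K₂) : H), ← hzz, mul_assoc, hab', mul_one]
          rw [show a = -1 by
              rw [← e1.apply_symm_apply a, show e1.symm a = e1.symm (-1) from
                Subtype.ext (h.trans (hneg K₁ e1 ho1).symm), e1.apply_symm_apply],
            show b = -1 by
              rw [← e2.apply_symm_apply b, show e2.symm b = e2.symm (-1) from
                Subtype.ext (hb.trans (hneg K₂ e2 ho2).symm), e2.apply_symm_apply]]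
          exact mem_zpowers _
      · show ((e1.symm (-1) : ↥K₁) : H) * ((e2.symm (-1) : ↥K₂) : H) = 1
        rw [hneg K₁ e1 ho1, hneg K₂ e2 ho2, hzz]
    haveI hZ : (zpowers ((-1 : SL25), (-1 : SL25))).Normal := hker ▸ f.normal_ker
    exact ⟨_, hZ, rfl, ⟨((MulEquiv.subgroupCongr hrange).symm.trans
      ((QuotientGroup.quotientKerEquivRange f).symm.trans (QuotientGroup.quotientMulEquivOfEq hker)))⟩⟩
  · obtain ⟨S⟩ : Nonempty (Sylow 2 H) := inferInstance
    obtain ⟨x, hx, hxK, y, hy, hyK, hxx, hyy, hxy⟩ := exists_pair hH h1 ho1 S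
    obtain ⟨x', hx', hxK', y', hy', hyK', hxx', hyy', hxy'⟩ := exists_pair hH h2 ho2 S
    have hc : ∀ {a b : H}, a ∈ K₁ → b ∈ K₂ → Commute a b := fun ha hb => commute_of_two hH h1 h2 hne ha hb
    exact ⟨S, hasEight_of_pairs hzz hz1 hH.zc hx hy hx' hy' hxx hyy hxy hxx' hyy' hxy'
      (hc hxK hxK') (hc hxK hyK') (hc hyK hxK') (hc hyK hyK')⟩
  · intro S v hv hcomm
    obtain ⟨p, hpS, hp, q, hqS, hq, rfl⟩ := hdec S v hv
    have hone : ∀ A B : Subgroup H, Cfsg.IsComponent A → Cfsg.IsComponent B → A ≠ B → ∀ a ∈ (S : Subgroup H),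
        a ∈ A → ∀ b ∈ B, (∀ s ∈ (S : Subgroup H), Commute s (a * b)) → a = 1 ∨ a = z := by
      intro A B hA hB hAB a haS ha b hb hcm
      obtain ⟨P, hP⟩ := H91.CI.exists_sylow_component hA S
      obtain ⟨n, ⟨e⟩⟩ := (one_facts hH hA (two_one hH hB hA hAB.symm)).2.1 P
      have haP : (⟨a, ha⟩ : ↥A) ∈ (P : Subgroup ↥A) := by rw [hP]; exact haS
      have h := quaternion_center_sq (e ⟨_, haP⟩) fun w => by
        have hw : (((e.symm w : ↥(P : Subgroup ↥A)) : ↥A) : H) ∈ (S : Subgroup H) := hP.le (e.symm w).2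
        have hcw : Commute ((((e.symm w : ↥(P : Subgroup ↥A)) : ↥A)) : H) a := by
          have hh := (hcm _ hw).mul_right (commute_of_two hH hA hB hAB (SetLike.coe_mem _) hb).inv_right
          rwa [mul_inv_cancel_right] at hh
        have := (show Commute (⟨_, haP⟩ : ↥(P : Subgroup ↥A)) (e.symm w) from
          Subtype.ext (Subtype.ext hcw.eq.symm)).map e.toMonoidHom
        simpa using this
      rw [← map_mul, ← map_one e] at h
      exact two_one hH hB hA hAB.symm a ha
        (congrArg (fun t : ↥(P : Subgroup ↥A) => ((t : ↥A) : H)) (e.injective h))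
    have hA := hone K₁ K₂ h1 h2 hne p hpS hp q hq hcomm
    have hB := hone K₂ K₁ h2 h1 hne.symm q hqS hq p hp fun s hs => by
      rw [(commute_of_two hH h1 h2 hne hp hq).eq.symm]
      exact hcomm s hs
    rcases hA with rfl | rfl <;> rcases hB with rfl | rfl
    · exact Or.inl (one_mul 1)
    · exact Or.inr (one_mul _)
    · exact Or.inr (mul_one _)
    · exact Or.inl hzz

end Cfsg.Agent.H30.RankInt
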